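import Cfsg.Agent.Lib.SD.D2

/-!
# SD: if `t ≁ t a₂` then `D ∩ C(t) = {t} ∪ t b₁`.  Local analysis of the linked pairs `(t, d)`, `(t, d')`, `g d g⁻¹ = t`, `g t g⁻¹ = d'`.
-/

set_option autoImplicit false
set_option linter.unusedSectionVars false

namespace Cfsg.Lib.SD

open Subgroup Cfsg.Lib.BG Cfsg.Lib.Symp Cfsg.Lib.OD Module
open scoped Cfsg.Lib.Transfer commutatorElement

variable {F V : Type*} [Field F] [Finite F] [CharP F 2] [AddCommGroup V] [Module F V] [FiniteDimensional F V] {B : LinearMap.BilinForm F V}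
  {G : Type*} [Group G] [Finite G] {ψ : isom B →* G} {t d d' g : G} {u u' w a z : isom B} {N T S : Subgroup G} {κ : 𝐂[t] →* MulAut (isom B)}
  {c₁ c₂ y₁ : V} {M : Sm B} {H : Submodule F V} {f : V → isom B}

/-- `d` induces an inner automorphism of rank at least three. -/
structure In (ψ : isom B →* G) (t d : G) (u : isom B) : Prop where
  hi : Hi u
  eq : d = ψ u ∨ d = ψ u * t

/-- What is known on the image `a`. -/
structure Im (ψ : isom B →* G) (t d' : G) (a : isom B) : Prop where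
  sq : a * a = 1
  syl : ∃ S, Syl 2 S (𝐂[t] ⊓ 𝐂[d']) ∧ ψ a ∈ 𝐂(S)
  ne : a ≠ 1
  dt : IsConj t (t * ψ a)
  nd : ¬ IsConj t (d' * ψ a)

/-- An elementary abelian group of images, conjugate under `C(t)`. -/
structure Fm (ψ : isom B →* G) (t d' : G) (H : Submodule F V) (f : V → isom B) : Prop where
  mul : ∀ v ∈ H, ∀ v' ∈ H, f (v + v') = f v * f v'
  im : ∀ v ∈ H, v ≠ 0 → Im ψ t d' (f v)
  cj : ∀ v ∈ H, v ≠ 0 → ∀ v' ∈ H, v' ≠ 0 → ∃ θ : MulAut (isom B), θ (f v) = f v'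

namespace Cx
variable (c : Cx ψ t N κ) (hA : ∀ w, A2 w → ¬ IsConj t (t * ψ w))
include c

theorem cd (i : In ψ t d u) (td : IsConj t d) {x : isom B} (h : Cj ⊤ u (u * x)) : IsConj t (d * ψ x) := by
  obtain ⟨l, -, k⟩ := h
  refine td.trans (isConj_iff.2 ⟨ψ l, ?_⟩)
  rcases i.eq with rfl | rfl
  · rw [← map_inv, ← map_mul, ← map_mul, k, map_mul]
  · rw [c.tc, c.cj_t, k, map_mul, mul_assoc]

theorem ka_fix (hd : d = ψ u ∨ d = ψ u * t) {x : G} (h : x ∈ 𝐂[t] ⊓ 𝐂[d]) : κ ⟨x, h.1⟩ u = u := c.inj ((c.ka.ac _ u).trans (mul_inv_eq_iff_eq_mul.2 (by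
  have k := mem_cent1.1 h.2
  rcases hd with rfl | rfl
  · exact k
  · exact mul_right_cancel (b := t) (by rw [mul_assoc, k, mul_assoc, mul_assoc]; exact congrArg _ (mem_cent1.1 h.1).symm))))

theorem cen_S (sl : S ≤ 𝐂[t]) (h : ∀ θ ∈ (κ.comp (inclusion sl)).range, θ z = z) : ψ z ∈ 𝐂(S) :=
  fun x hx => mul_inv_eq_iff_eq_mul.1 ((c.ka.ac ⟨x, sl hx⟩ z).symm.trans (congrArg ψ (h _ ⟨⟨x, hx⟩, rfl⟩)))

include hA

theorem rb (h : Rt a) (k : IsConj t (t * ψ a)) : B1 a := h.resolve_right fun r => r.elim (fun r => hA a r k) fun r => c.no_c2' hA r k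

theorem img (e : g * d * g⁻¹ = t) (e' : g * t * g⁻¹ = d') {X : Subgroup (isom B)} (hX : map ψ X ≤ 𝐂[t] ⊓ 𝐂[d]) (s : Syl 2 S (𝐂[t] ⊓ 𝐂[d])) (zS : ψ z ∈ 𝐂(S))
    (h1 : A2 z) (h2 : Fu X z) (h3 : IsConj t (d * ψ z)) (hw : Cj X z w) : ∃ a, ψ a = g * ψ w * g⁻¹ ∧ Im ψ t d' a := by
  have : Finite (isom B) := .of_injective _ c.inj
  obtain ⟨a, ha⟩ := c.fuL (hX.trans inf_le_right) e (fu_cj h2 hw)
  obtain ⟨l, hl, rfl⟩ := hw
  have r := h1.conj l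
  have m := hX ⟨l, hl, rfl⟩
  have s' : Syl 2 (g ⋆ (ψ l ⋆ S)) (𝐂[t] ⊓ 𝐂[d']) := by
    have := Hall.conj (Hall.conj_of_mem s m) g
    rwa [Transfer.conj_inf, conj_cent1, conj_cent1, e, e', inf_comm] at this
  refine ⟨a, ha, c.inj (by rw [map_mul, ha, map_one]; exact Ex.sq_cj (by rw [← map_mul, c.q.rt_sq (.inr (.inl r)), map_one]) g), ⟨_, s', ?_⟩, ?_,
    h3.trans (isConj_iff.2 ⟨g * ψ l, ?_⟩), fun k => hA _ r (k.trans (isConj_iff.2 ⟨g⁻¹, by rw [ha, ← e']; group⟩))⟩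
  · rw [ha, map_mul, map_mul, map_inv, ← Transfer.conj_centralizer, ← Transfer.conj_centralizer]
    exact Transfer.conj_mem_conj.2 (Transfer.conj_mem_conj.2 zS)
  · rintro rfl
    exact c.q.rt_ne (.inr (.inl r)) (c.inj (by simpa using ha.symm))
  · rw [ha, ← e, conj_mul, map_mul, map_mul, map_inv, ← mul_assoc d, ← mul_assoc d, ← mem_cent1.1 m.2]; group

theorem src (i : In ψ t d u) (e : g * d * g⁻¹ = t) (e' : g * t * g⁻¹ = d') :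
    ∃ c₁ y₁ z, Bp u c₁ y₁ ∧ Sh u y₁ z ∧ ∀ w, Cj 𝐂[u] z w → ∃ a, ψ a = g * ψ w * g⁻¹ ∧ Im ψ t d' a := by
  obtain ⟨S, s⟩ := Syl.exists (p := 2) (𝐂[t] ⊓ 𝐂[d])
  have sl : S ≤ 𝐂[t] := s.le.trans inf_le_left
  obtain ⟨c₁, y₁, z, p, hz, fz⟩ := Sm.exists_bp c.q i.hi (s.pgroup.of_surjective _ (κ.comp (inclusion sl)).rangeRestrict_surjective) (by
    rintro _ ⟨x, rfl⟩
    exact c.ka_fix i.eq (s.le x.2))
  exact ⟨c₁, y₁, z, p, hz, fun w => c.img hA e e' ((c.map_cen i.eq).le.trans inf_le_right) s (c.cen_S sl fz) (c.q.sh_a2 i.hi.sq p hz)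
    (c.q.b3 i.hi.sq p hz) (c.cd i (isConj_iff.2 ⟨g, e⟩).symm (c.q.b2 i.hi.sq p hz))⟩

theorem fm_nr (m : Fm ψ t d' H f) (h : 2 ≤ finrank F H) {v : V} (hv : v ∈ H) (n : v ≠ 0) : ¬ Rt (f v) := fun r =>
  c.q.b1_sub h m.mul fun v' hv' n' => by
    obtain ⟨θ, k⟩ := m.cj v hv n v' hv' n'
    exact k ▸ c.q.b1_aut (c.rb hA r (m.im v hv n).dt) θ

theorem src_fm (i : In ψ t d u) (e : g * d * g⁻¹ = t) (e' : g * t * g⁻¹ = d') (k : Ch u c₂) :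
    ∃ H f, Fm ψ t d' H f ∧ 2 ≤ finrank F H ∧ (B c₂ (nv u c₂) = 1 → finrank F (wv u) ≠ 3 → 4 ≤ finrank F H) ∧
      ∃ y₁ z, nv u y₁ ≠ 0 ∧ Sh u y₁ z ∧ ∀ w, Cj 𝐂[u] z w → ∃ a, ψ a = g * ψ w * g⁻¹ ∧ Im ψ t d' a ∧ ¬ Rt a := by
  have q := c.q
  have h := i.hi
  obtain ⟨c₁, y₁, z, p, hz, key⟩ := c.src hA i e e'
  obtain ⟨H, h1, h2, h3, h4⟩ := q.exists_cpl h.sq p.ne
  have ex : ∀ v, ∃ a, v ∈ H → ψ a = g * ψ (E B (nv u y₁) (nv u v) 0) * g⁻¹ ∧ (v ≠ 0 → Im ψ t d' a) := fun v => by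
    by_cases o : v ∈ H
    swap
    · exact ⟨1, fun k => absurd k o⟩
    by_cases m : v = 0
    · exact ⟨1, fun _ => ⟨by rw [m, map_zero, q.E_zero]; simp, fun k => absurd m k⟩⟩
    obtain ⟨a, k1, k2⟩ := key _ (q.tr h.sq p hz ⟨v, h1 v o, mt (h2 v o) m, rfl⟩)
    exact ⟨a, fun _ => ⟨k1, fun _ => k2⟩⟩
  choose f hf using ex
  have ev := q.ch_even h.sq p.ch
  have r := h.rk
  have b : B c₁ (nv u c₁) = 1 → finrank F (wv u) ≤ finrank F H + 1 := fun k => h4 (by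
    rw [p.eq.resolve_left fun e => by simp [e] at k, k]; exact one_ne_zero)
  have cj : ∀ {w w' a a'}, Cj 𝐂[u] w w' → ψ a = g * ψ w * g⁻¹ → ψ a' = g * ψ w' * g⁻¹ → ∃ θ : MulAut (isom B), θ a = a' := fun ⟨l, hl, k⟩ k1 k2 =>
    ⟨κ ⟨_, Ex.cj_cen e ((c.map_cen i.eq).le ⟨l, hl, rfl⟩).2.2⟩, c.inj (by rw [c.ka.ac, k1, k2, ← k, map_mul, map_mul, map_inv]; group)⟩
  have m : Fm ψ t d' H f := ⟨fun v hv v' hv' => c.inj (by
      have w := fun a b => ww h.sq (nv_mem u a) (nv_mem u b)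
      rw [map_mul, (hf v hv).1, (hf v' hv').1, (hf _ (add_mem hv hv')).1, conj_mul, ← map_mul, q.E_mul (w _ _) (w _ _), w, map_add]
      simp), fun v hv => (hf v hv).2, fun v hv n v' hv' n' =>
    cj (q.tr h.sq p ⟨v, h1 v hv, mt (h2 v hv) n, rfl⟩ ⟨v', h1 v' hv', mt (h2 v' hv') n', rfl⟩) (hf v hv).1 (hf v' hv').1⟩
  have two : 2 ≤ finrank F H := by
    rcases p.ch.zo with k | k
    · obtain ⟨n, hn⟩ := ev.2 k
      omega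
    · have := b k
      omega
  refine ⟨H, f, m, two, fun k1 k2 => ?_, y₁, z, p.ne, hz, fun w hw => (key w hw).imp fun a ⟨k1, k2⟩ => ⟨k1, k2, fun r => ?_⟩⟩
  · have k3 : ¬ Even (finrank F (wv u)) := fun k3 => by simp [(q.ch_even h.sq k).1 k3] at k1
    have := b (p.ch.zo.resolve_left (mt ev.2 k3))
    rw [Nat.not_even_iff] at k3
    omega
  obtain ⟨v, hv, n⟩ := exists_nmem (U := H) (U' := ⊥) (by rw [finrank_bot]; omega)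
  obtain ⟨θ, k⟩ := cj (hw.symm.trans (q.tr h.sq p hz ⟨v, h1 v hv, mt (h2 v hv) n, rfl⟩)) k1 (hf v hv).1
  exact c.fm_nr hA m two hv n (.inl (k ▸ q.b1_aut (c.rb hA r k2.dt) θ))

omit hA in
theorem im_zu (i : In ψ t d' u') (h : Im ψ t d' a) : Zu u' a := by
  obtain ⟨S, s, k⟩ := h.syl
  exact c.zu_of i.eq s h.sq k

omit hA in
theorem fm_hf (i : In ψ t d' u') (m : Fm ψ t d' H f) : Hf u' H f := ⟨m.mul, fun v hv => by
  have : Finite (isom B) := .of_injective _ c.inj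
  by_cases n : v = 0
  · obtain ⟨P, hP⟩ := Syl.exists (p := 2) 𝐂[u']
    have := m.mul 0 (zero_mem _) 0 (zero_mem _)
    rw [add_zero, left_eq_mul] at this
    rw [n, this]
    exact ⟨mul_one _, P, hP, one_mem _⟩
  · exact c.im_zu i (m.im v hv n)⟩

omit hA in
theorem a4_ne (h : Hi u) (k : Ch u c₁) (h0 : nv u c₁ = 0) (h4 : finrank F (wv u) = 4) : g * ψ u * g⁻¹ ≠ t := fun e => by
  have : Finite (isom B) := .of_injective _ c.inj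
  obtain ⟨c₂, y₁, z, p, hz, -⟩ := Sm.exists_bp c.q h (S := ⊥) .of_bot (by simp)
  obtain ⟨-, b, x, -, k2, k3, -, -, k6, -⟩ := c.q.cfg h.sq k h0 h4 p.ne hz
  have t := fun {w} (r : Cj 𝐂[u] z w) => c.fuL ((c.map_cen (.inl rfl)).le.trans (inf_le_right.trans inf_le_right)) e (fu_cj (c.q.b3 h.sq p hz) r)
  obtain ⟨b', b1⟩ := t k2
  obtain ⟨x', x1⟩ := t k3
  obtain ⟨y, y1⟩ := t k6
  exact c.ex.tn ⟨y * x'⁻¹ * b'⁻¹, by simp only [map_mul, map_inv, y1, x1, b1, ← e]; group⟩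

theorem gd (i : In ψ t d' u') (e : d' = ψ u' * t) (h : Im ψ t d' a) (r : ¬ Rt a) : Gd u' a :=
  ⟨c.im_zu i h, h.ne, r, fun r => h.nd (by rw [e, c.tc, mul_assoc, ← map_mul]; exact c.dt_cj r h.dt)⟩

theorem tgt (i : In ψ t d' u') (td : IsConj t d') (k : Ch u' c₂) (m : Fm ψ t d' H f) (h2 : 2 ≤ finrank F H)
    (h4 : (nv u' c₂ = 0 ∧ finrank F (wv u') = 4) ∨ (B c₂ (nv u' c₂) = 1 ∧ finrank F (wv u') ≠ 3) → 4 ≤ finrank F H) : False := by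
  have q := c.q
  have h := i.hi
  have hf := c.fm_hf i m
  have fin : (∃ v ∈ H, v ≠ 0 ∧ (f v = 1 ∨ Rt (f v) ∨ Cj ⊤ u' (u' * f v))) → False := fun ⟨v, hv, n, r⟩ => by
    rcases r with r | r | r
    exacts [(m.im v hv n).ne r, c.fm_nr hA m h2 hv n r, (m.im v hv n).nd (c.cd i td r)]
  have fin' : (∃ v ∈ H, v ≠ 0 ∧ (f v = 1 ∨ Rt (f v))) → False := fun ⟨v, hv, n, r⟩ => fin ⟨v, hv, n, r.imp_right .inl⟩
  rcases k.zo with o | o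
  swap
  · exact fin (q.fin_b' h k o h2 (fun n => h4 (.inr ⟨o, n⟩)) hf)
  by_cases h0 : nv u' c₂ = 0
  swap
  · exact fin' (q.fin_c h k h0 o h2 hf)
  by_cases r : finrank F (wv u') = 4
  · obtain ⟨g, hg⟩ := isConj_iff.1 td.symm
    exact q.three_a h k h0 (h4 (.inl ⟨h0, r⟩)) m.mul fun v hv n => c.gd hA i (i.eq.resolve_left fun e => c.a4_ne h k h0 r (e ▸ hg))
      (m.im v hv n) (c.fm_nr hA m h2 hv n)
  obtain ⟨n, hn⟩ := (q.ch_even h.sq k).2 o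
  have := h.rk
  exact fin' (q.fin_a h k h0 (by omega) h2 hf)

theorem in_in (i : In ψ t d u) (i' : In ψ t d' u') (e : g * d * g⁻¹ = t) (e' : g * t * g⁻¹ = d') : False := by
  have q := c.q
  obtain ⟨c₁, k, -⟩ := q.exists_ch i.hi.sq
  obtain ⟨c₂, k', -⟩ := q.exists_ch i'.hi.sq
  have td : IsConj t d := (isConj_iff.2 ⟨g, e⟩).symm
  have td' : IsConj t d' := isConj_iff.2 ⟨g, e'⟩
  obtain ⟨H, f, m, h2, h4, y₁, z, py, hz, key⟩ := c.src_fm hA i e e' k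
  obtain ⟨H', f', m', h2', h4', -⟩ := c.src_fm hA i' (g := g⁻¹) (d' := d) (by rw [← e']; group) (by rw [← e]; group) k'
  refine c.tgt hA i' td' k' m h2 fun a' => by_contra fun n => c.tgt hA i td k m' h2' fun a => by_contra fun n' => ?_
  obtain ⟨h0, r⟩ := a.resolve_right fun b => n (h4 b.1 b.2)
  obtain ⟨h0', r'⟩ := a'.resolve_right fun b => n' (h4' b.1 b.2)
  have ed := i.eq.resolve_left fun x => c.a4_ne i.hi k h0 r (x ▸ e)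
  have ed' := i'.eq.resolve_left fun x => c.a4_ne (g := g⁻¹) i'.hi k' h0' r' (by rw [← x, ← e']; group)
  have gu : g * ψ u * g⁻¹ = ψ u' := mul_right_cancel (b := d') (by
    nth_rw 1 [← e']
    rw [conj_mul, ← ed, e, ed', ← mul_assoc, ← map_mul, i'.hi.sq, map_one, one_mul])
  obtain ⟨a, b, x, k1, k2, k3, k4, k5, k6, k7⟩ := q.cfg i.hi.sq k h0 r py hz
  obtain ⟨a', a1, a2⟩ := key _ k1
  obtain ⟨b', b1, b2⟩ := key _ k2
  obtain ⟨x', x1, x2⟩ := key _ k3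
  have gd : ∀ {w y}, Cj 𝐂[u] z w → ψ y = g * ψ w * g⁻¹ → Gd u' y := fun {w y} kw ey => by
    obtain ⟨y', ey', k1⟩ := key _ kw
    obtain rfl := c.inj (ey.trans ey'.symm)
    exact c.gd hA i' ed' k1.1 k1.2
  refine q.a4 i'.hi k' h0' (gd k1 a1) (gd k2 b1) (gd k3 x1) (gd k4 ?_) (gd k5 ?_) (gd k6 ?_) (gd k7 ?_) <;>
    simp only [map_mul, a1, b1, x1, ← conj_mul, gu]

omit hA in
theorem map_fa (hd : d ∈ 𝐂[t]) : map ψ (fa (κ ⟨d, hd⟩)) = ψ.range ⊓ (𝐂[t] ⊓ 𝐂[d]) := by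
  have k : ∀ x, ψ x ∈ 𝐂[d] ↔ x ∈ fa (κ ⟨d, hd⟩) := fun x => by
    rw [mem_cent1, mem_fa, ← c.inj.eq_iff, c.ka.ac, mul_inv_eq_iff_eq_mul, eq_comm]
  refine le_antisymm ?_ ?_
  · rintro _ ⟨x, hx, rfl⟩
    exact ⟨⟨x, rfl⟩, c.mC x, (k x).2 hx⟩
  · rintro _ ⟨⟨x, rfl⟩, -, hx⟩
    exact ⟨x, (k x).1 hx, rfl⟩

omit hA c in
theorem mem_S (hd : d ∈ 𝐂[t]) (d2 : d * d = 1) (s : Syl 2 S (𝐂[t] ⊓ 𝐂[d])) : d ∈ S := s.ge_of_norm_p' (zpowers_le.2 ⟨hd, self_mem_cent1 d⟩) (pg_inv d2)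
  (norm_of_cent (zpowers_le.2 (le_cent1_iff.1 (s.le.trans inf_le_right)))) (mem_zpowers d)

theorem tgt_out (hd : d' ∈ 𝐂[t]) (d2 : d' * d' = 1) (o : Ou M (κ ⟨d', hd⟩)) (h : Im ψ t d' a) : B1 a := by
  obtain ⟨S, s, k⟩ := h.syl
  have sl : S ≤ 𝐂[t] := s.le.trans inf_le_left
  have s' := c.ex.syl_inf inf_le_left s
  rw [← c.map_fa hd] at s'
  obtain ⟨P, e⟩ := le_map_top s'.le
  rw [← e] at s'
  exact c.rb hA ((o.zo (s.pgroup.of_surjective _ (κ.comp (inclusion sl)).rangeRestrict_surjective) ⟨⟨d', mem_S hd d2 s⟩, rfl⟩ ((Hall.map_iff c.inj).1 s')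
    (fun p hp => ⟨⟨ψ p, (e.le ⟨p, hp, rfl⟩).1⟩, c.ka_psi p⟩) ((cent_map c.inj).1 (e ▸ cent_anti inf_le_left k))).resolve_left h.ne) h.dt

theorem in_out (i : In ψ t d u) (hd : d' ∈ 𝐂[t]) (o : Ou M (κ ⟨d', hd⟩)) (e : g * d * g⁻¹ = t) (e' : g * t * g⁻¹ = d') : False := by
  obtain ⟨c₁, k, -⟩ := c.q.exists_ch i.hi.sq
  obtain ⟨H, f, m, h2, -⟩ := c.src_fm hA i e e' k
  exact c.q.b1_sub h2 m.mul fun v hv n => c.tgt_out hA hd (e' ▸ Ex.sq_cj c.st.t2 g) o (m.im v hv n)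

theorem out_out (hd : d ∈ 𝐂[t]) (o : Ou M (κ ⟨d, hd⟩)) (hd' : d' ∈ 𝐂[t]) (o' : Ou M (κ ⟨d', hd'⟩)) (e : g * d * g⁻¹ = t) (e' : g * t * g⁻¹ = d') : False := by
  obtain ⟨S, s⟩ := Syl.exists (p := 2) (𝐂[t] ⊓ 𝐂[d])
  have sl : S ≤ 𝐂[t] := s.le.trans inf_le_left
  have td : IsConj t d := (isConj_iff.2 ⟨g, e⟩).symm
  obtain ⟨g', hg'⟩ := isConj_iff.1 td
  obtain ⟨y, m, hy, hm, l, fz⟩ := o.exists_z (s.pgroup.of_surjective _ (κ.comp (inclusion sl)).rangeRestrict_surjective)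
    ⟨⟨d, mem_S hd (hg' ▸ Ex.sq_cj c.st.t2 g') s⟩, rfl⟩
  obtain ⟨z', k1, k2, k3⟩ := o.nrigid hy hm l
  obtain ⟨p, hp⟩ := o.lang hy hm l
  have f := o.fu hy hm l
  have key := fun {w} => c.img hA (w := w) e e' ((c.map_fa hd).le.trans inf_le_right) s (c.cen_S sl fz) ⟨y, m, l, rfl⟩ f (td.trans (isConj_iff.2 ⟨ψ p, by
    rw [← mem_cent1.1 ((c.map_fa hd).le ⟨_, f.1, rfl⟩).2.2, ← hp, map_mul, map_inv, c.ka.ac]; group⟩))
  obtain ⟨a, a1, a2⟩ := key (Cj.rfl' _ _)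
  obtain ⟨b, b1, b2⟩ := key k1
  have t := fun {a} => c.tgt_out hA (a := a) hd' (e' ▸ Ex.sq_cj c.st.t2 g) o'
  have := congrArg ψ (c.q.b1_rigid (t a2) (t b2) (c.inj (by simp only [map_mul, map_inv, a1, b1, conj_mul, conj_inv]; simp only [← map_mul, ← map_inv, k2])))
  simp only [map_mul, a1, b1, conj_mul, mul_left_inj, mul_right_inj] at this
  exact k3 (c.inj (by simpa only [map_mul] using this))

theorem types (M : Sm B) (hd : d ∈ 𝐂[t]) (dt : d ≠ t) (e : IsConj t d) : (∃ w, B1 w ∧ d = t * ψ w) ∨ (∃ u, In ψ t d u) ∨ Ou M (κ ⟨d, hd⟩) := by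
  obtain ⟨g, hg⟩ := isConj_iff.1 e
  have d2 : d * d = 1 := hg ▸ Ex.sq_cj c.st.t2 g
  by_cases s : M.σ (κ ⟨d, hd⟩) = 1
  swap
  · exact .inr (.inr ⟨c.q, by rw [← map_mul, show (⟨d, hd⟩ * ⟨d, hd⟩ : 𝐂[t]) = 1 from Subtype.ext d2, map_one], s⟩)
  obtain ⟨o, ho⟩ := M.inner s
  rcases c.q.inr c.st c.ka ⟨d, hd⟩ d2 ho with ⟨x, hx⟩ | ⟨x, hx⟩
  · replace hx : ψ x = d := hx
    refine .inr (.inl ⟨x, c.q.hi_of (c.inj (by rw [map_mul, hx, d2, map_one])) ?_ fun r => c.zne (g := g⁻¹) r (by rw [hx, ← hg]; group), .inl hx.symm⟩)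
    rintro rfl
    exact c.st.t1 (by rwa [← hx, map_one, isConj_one_left] at e)
  replace hx : d = ψ x * t := by rw [show ψ x = d * t from hx, mul_assoc, c.st.t2, mul_one]
  by_cases r : Rt x
  · exact .inl ⟨x, c.rb hA r (c.tc x ▸ hx ▸ e), hx.trans (c.tc x)⟩
  refine .inr (.inl ⟨x, c.q.hi_of (c.inj ?_) (fun k => dt (by simp [hx, k])) r, .inr hx⟩)
  rwa [hx, mul_assoc, ← mul_assoc t, ← c.tc, mul_assoc, c.st.t2, mul_one, ← map_one ψ, ← map_mul, map_one ψ, ← map_one ψ] at d2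

theorem dx (hd : d * t = t * d) (dt : d ≠ t) (e : IsConj t d) : ∃ w, B1 w ∧ d = t * ψ w := by
  obtain ⟨M⟩ := c.q.sm
  obtain ⟨g, hg⟩ := isConj_iff.1 e.symm
  have hd' : g * t * g⁻¹ ∈ 𝐂[t] := Ex.cj_cen hg (mem_cent1.2 hd.symm)
  have i1 : g⁻¹ * (g * t * g⁻¹) * g⁻¹⁻¹ = t := by group
  have i2 : g⁻¹ * t * g⁻¹⁻¹ = d := by rw [← hg]; group
  rcases c.types hA M (mem_cent1.2 hd) dt e with k | k
  · exact k
  rcases c.types hA M hd' (fun k => dt ((MulAut.conj g).injective (hg.trans k.symm))) (isConj_iff.2 ⟨g, rfl⟩) with ⟨w, r, k'⟩ | k'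
  · obtain ⟨w', r', k''⟩ := c.sym hA r k'
    exact ⟨w', r', (MulAut.conj g).injective (hg.trans k''.symm)⟩
  rcases k with ⟨u, k⟩ | k <;> rcases k' with ⟨u', k'⟩ | k'
  exacts [(c.in_in hA k k' hg rfl).elim, (c.in_out hA k hd' k' hg rfl).elim, (c.in_out hA k' _ k i1 i2).elim, (c.out_out hA _ k hd' k' hg rfl).elim]

end Cx

/-- The hypothesis `dx` of `SPD.delta`. -/
theorem dx_sp {k : ℕ} (hk : 3 ≤ k) (h : k = 3 → ∃ c : F, c ≠ 0 ∧ c ≠ 1) {φ : Matrix.symplecticGroup (Fin k) F →* G} (s : USt.St φ t)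
    (hd : d * t = t * d) (dt : d ≠ t) (e : IsConj t d) (n : ¬ ∀ u w h, u ≠ 0 → w ∉ F ∙ u → IsConj t (t * φ (sgSp u w 0 h))) (g : G) :
    (IsConj t g ∧ g ≠ t ∧ Commute t g) ↔ ∃ v, v ≠ 0 ∧ g = t * φ (tvSp v 1) := by
  have q := sq_bil hk h
  obtain ⟨N, κ, c⟩ := q.cx (st_congr s (spEquiv _ F).symm)
  refine ⟨fun ⟨k1, k2, k3⟩ => ?_, ?_⟩
  · obtain ⟨_, ⟨y, r, hy, hr, rfl⟩, rfl⟩ := c.dx (fun w hw k => n fun u w' h hu hw' => by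
      simpa [q.E_eq h, sgSp] using c.dt_cj (q.a2_cj hw ⟨u, w', ⟨hu, hw', h⟩, rfl⟩) k) k3.symm k2 k1
    obtain ⟨r, rfl⟩ := exists_sq r
    exact ⟨r • y, smul_ne_zero (by rintro rfl; simp at hr) hy, by simp [q.E_tv, ← spEquiv_tvSp, tvSp_smul]⟩
  · rintro ⟨v, hv, rfl⟩
    refine ⟨(step0_sp hk h s hd dt e).resolve_right n v 1 hv one_ne_zero, fun k => q.E_ne' hv one_ne_zero (c.inj ?_), (Commute.refl t).mul_right (s.tψ _)⟩
    simpa [q.E_tv, ← spEquiv_tvSp] using k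

end Cfsg.Lib.SD
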