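import Cfsg.Agent.Lib.SD.G3
import Cfsg.Agent.Lib.Symp.AutType
import Cfsg.Agent.Lib.OD.Au

/-!
# SD: automorphisms of `Sp(V, B)`, and the abstract data `OD.Ex` for `USt.St ψ t`.
-/

set_option autoImplicit false
set_option linter.unusedSectionVars false

namespace Cfsg.Lib.SD

open Subgroup Cfsg.Lib.BG Cfsg.Lib.Symp Cfsg.Lib.OD Module
open scoped Cfsg.Lib.Transfer commutatorElement

variable {F V : Type*} [Field F] [Finite F] [CharP F 2] [AddCommGroup V] [Module F V] [FiniteDimensional F V] {B : LinearMap.BilinForm F V}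
  {u a : isom B} {x y m c₁ y₁ : V} {θ : MulAut (isom B)}

/-- The semilinear isometry `(T, σ)` induces `θ`. -/
structure Ind (θ : MulAut (isom B)) (T : Equiv.Perm V) (σ : F ≃+* F) : Prop where
  add : ∀ x y, T (x + y) = T x + T y
  smul : ∀ (c : F) x, T (c • x) = σ c • T x
  bil : ∀ x y, B (T x) (T y) = σ (B x y)
  ind : ∀ (g : isom B) x, (θ g).1 (T x) = T (g.1 x)

theorem Ind.zero {T : Equiv.Perm V} {σ : F ≃+* F} (i : Ind θ T σ) : T 0 = 0 := by simpa using i.add 0 0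
theorem Ind.mul {T T' : Equiv.Perm V} {σ σ' : F ≃+* F} {θ' : MulAut (isom B)} (i : Ind θ T σ) (i' : Ind θ' T' σ') : Ind (θ * θ') (T * T') (σ * σ') :=
  ⟨fun x y => by simp [i'.add, i.add], fun c x => by simp [i'.smul, i.smul], fun x y => by simp [i'.bil, i.bil], fun g x => by simp [i'.ind, i.ind]⟩
theorem Ind.conj (g : isom B) : Ind (MulAut.conj g) g.1.toEquiv 1 :=
  ⟨map_add g.1, map_smul g.1, g.2, fun h x => congrArg (fun v => g.1 (h.1 v)) (inv_ap g x)⟩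

namespace Sq
variable (q : Sq B)
include q

theorem nt : Nontrivial V := Module.nontrivial_of_finrank_pos (R := F) (by have := q.dim; omega)

theorem E_one_inj' {y' m' : V} (h : B y m = 0) (h' : B y' m' = 0) (k : E B y m 1 = E B y' m' 1) : y = y' := q.ext fun x => sq_inj (by
  have a := congrArg (B x) (q.nv_E h 1 x)
  have b := congrArg (B x) (q.nv_E h' 1 x)
  have two : (2 : F) = 0 := two0
  rw [k, b] at a
  simp only [map_add, map_smul, smul_eq_mul] at a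
  linear_combination -a + (B x y' * B x m' - B x y * B x m) * two)

/-- `mem_center_iff`, `negOne_eq_one_iff`. -/
theorem center_eq : center (isom B) = ⊥ := eq_bot_iff.2 fun g hg => by
  have := q.nt
  exact ((mem_center_iff q.alt q.nd g).1 hg).elim id fun e => e.trans (negOne_eq_one_iff.2 two0)

/-- Evaluate at `T x` (`E_ap`). -/
theorem ind_E {T : Equiv.Perm V} {σ : F ≃+* F} (i : Ind θ T σ) (h : B y m = 0) (s : F) : θ (E B y m s) = E B (T y) (T m) (σ s) := isom_ext fun x => by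
  obtain ⟨x, rfl⟩ := T.surjective x
  rw [i.ind, q.E_ap h, q.E_ap (by rw [i.bil, h, map_zero])]
  simp only [i.add, i.smul, i.bil, map_add, map_mul]

/-- `E(T y, 0, 1) = E(T' y, 0, 1)` gives `T y = T' y` (`nv_E`, as in `zu_le`); then `σ c • T x = σ' c • T x`. -/
theorem ind_eq {T T' : Equiv.Perm V} {σ σ' : F ≃+* F} (i : Ind θ T σ) (i' : Ind θ T' σ') : T = T' ∧ σ = σ' := by
  obtain rfl : T = T' := Equiv.ext fun y => by
    have := (q.ind_E i (map_zero (B y)) 1).symm.trans (q.ind_E i' (map_zero (B y)) 1)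
    rw [i.zero, i'.zero, map_one, map_one] at this
    exact q.E_one_inj' (map_zero _) (map_zero _) this
  refine ⟨rfl, RingEquiv.ext fun c => ?_⟩
  have := q.nt
  obtain ⟨x, hx⟩ := exists_ne (0 : V)
  obtain ⟨x, rfl⟩ := T.surjective x
  exact smul_left_injective F hx ((i.smul c x).symm.trans (i'.smul c x))

/-- Transport to `bil (Fin k) F`, `2 k = dim V` (`even_finrank`, `exists_isometry_of_finrank_eq`, `isomCongr`, `spEquiv`; `Sp ≃* PSp` as the centre is trivial).  `aut_PSp_decomp`, `range_innDiagSp_eq_inn`: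
`β = conj A * fieldAutSp σ`, `T v = A *ᵥ (σ ∘ v)` (`bil_comp`, `map_mulVec_comp`, `fieldSp_coe`). -/
theorem exists_ind (θ : MulAut (isom B)) : ∃ T σ, Ind θ T σ := by
  obtain ⟨k, hk⟩ := even_finrank q.alt q.nd
  have := q.dim
  obtain ⟨e, he⟩ := exists_isometry_of_finrank_eq q.alt q.nd (bil_isAlt (Fin k) F) (bil_nondegenerate (Fin k) F) (by
    rw [finrank_std, Fintype.card_fin]; omega)
  let i := (isomCongr e he).trans (spEquiv (Fin k) F).symm
  have hi : ∀ g v, Matrix.mulVec (i g).1 (e v) = e (g.1 v) := fun g v => (spEquiv_symm_mulVec _ _).trans (by simp)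
  have inj : Function.Injective (QuotientGroup.mk' (center (Matrix.symplecticGroup (Fin k) F))) := (injective_iff_map_eq_one _).2 fun A h => by
    obtain ⟨A, rfl⟩ := i.surjective A
    rw [mem_bot.1 (q.center_eq.le ((mem_center_mulEquiv_iff i A).1 ((QuotientGroup.eq_one_iff _).1 h))), map_one]
  let j : isom B ≃* PSp k F := i.trans (.ofBijective _ ⟨inj, QuotientGroup.mk'_surjective _⟩)
  obtain ⟨g, σ, h⟩ := aut_PSp_decomp (m := k) (by omega) (by omega) (MulAut.congr j θ)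
  obtain ⟨A, hA⟩ := (range_innDiagSp_eq_inn two0).le ⟨g, rfl⟩
  obtain ⟨A, rfl⟩ := QuotientGroup.mk_surjective A
  have k1 : ∀ x, i (θ x) = A * fieldSp σ (i x) * A⁻¹ := fun x => inj (by
    have := DFunLike.congr_fun h (j x)
    rw [← hA] at this
    exact (congrArg (fun y => j (θ y)) (j.symm_apply_apply x)).symm.trans this)
  let T : Equiv.Perm V := e.toEquiv.trans ((Equiv.piCongrRight fun _ => σ.toEquiv).trans ((spEquiv _ F A).1.toEquiv.trans e.symm.toEquiv))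
  have hT : ∀ v, e (T v) = Matrix.mulVec A.1 ((σ : F →+* F) ∘ e v) := fun v => e.apply_symm_apply _
  refine ⟨T, σ, fun x y => e.injective ?_, fun c x => e.injective ?_, fun x y => ?_, fun g x => e.injective ?_⟩
  · rw [map_add e, hT, hT, hT, ← Matrix.mulVec_add]; congr 1; ext; simp
  · rw [map_smul e, hT, hT, ← Matrix.mulVec_smul]; congr 1; ext; simp
  · rw [← he, hT, hT, bil_mulVec, bil_comp, he]; rfl
  · rw [← hi, k1, hT, hT, ← hi, ← map_mulVec_comp, Submonoid.coe_mul, Submonoid.coe_mul, ← Matrix.mulVec_mulVec, ← Matrix.mulVec_mulVec,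
      inv_mulVec_mulVec, fieldSp_coe]
    rfl

/-- Choose `T θ, σ θ`; `ind_eq` gives multiplicativity and `cj`. -/
theorem sm : Nonempty (Sm B) := by
  choose T σ h using q.exists_ind
  exact ⟨⟨.mk' T fun a b => (q.ind_eq (h _) ((h a).mul (h b))).1, .mk' σ fun a b => (q.ind_eq (h _) ((h a).mul (h b))).2,
    fun θ => (h θ).add, fun θ => (h θ).smul, fun θ => (h θ).bil, fun θ => (h θ).ind,
    fun g x => DFunLike.congr_fun (q.ind_eq (h _) (.conj g)).1 x⟩⟩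

end Sq

namespace Sm
variable (M : Sm B)

theorem ind' (θ : MulAut (isom B)) : Ind θ (M.T θ) (M.σ θ) := ⟨M.add θ, M.smul θ, M.bil θ, M.ind θ⟩
theorem zero (θ : MulAut (isom B)) : M.T θ 0 = 0 := (M.ind' θ).zero
theorem nv_T (θ : MulAut (isom B)) (g : isom B) (x : V) : nv (θ g) (M.T θ x) = M.T θ (nv g x) := by rw [nv_apply, nv_apply, M.ind, sub_eq F, sub_eq F, M.add]
/-- `T θ` is a linear isometry `g`. -/
theorem inner (h : M.σ θ = 1) : ∃ g, θ = MulAut.conj g := by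
  refine ⟨⟨{ M.T θ with map_add' := M.add θ, map_smul' := fun c x => (M.smul θ c x).trans (by rw [h]; rfl) }, fun x y => (M.bil θ x y).trans (by rw [h]; rfl)⟩,
    MulEquiv.ext fun g => isom_ext fun x => ?_⟩
  obtain ⟨x, rfl⟩ := (M.T θ).surjective x
  exact (M.ind θ g x).trans (congrArg (fun v => M.T θ (g.1 v)) ((M.T θ).symm_apply_apply x).symm)
/-- `T θ c₁` satisfies `Ch` (`T θ` is onto), `ch_eq`. -/
theorem ch_fix (q : Sq B) (h : Ch u c₁) (e : θ u = u) : M.T θ (nv u c₁) = nv u c₁ := by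
  have k := M.nv_T θ u
  rw [e] at k
  rw [← k]
  refine q.ch_eq (fun x => ?_) h
  obtain ⟨x, rfl⟩ := (M.T θ).surjective x
  rw [k, k, M.bil, M.bil, h, map_pow]
theorem span_inv (h : M.T θ y = y) (hx : x ∈ F ∙ y) : M.T θ x ∈ F ∙ y := by
  obtain ⟨c, rfl⟩ := Submodule.mem_span_singleton.1 hx
  rw [M.smul, h]; exact sm_self _ _
/-- `B(y, T x) = B(T y, T x)`. -/
theorem o_inv (h : M.T θ y = y) (hx : B y x = 0) : B y (M.T θ x) = 0 := by rw [← h, M.bil, hx, map_zero]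

/-- `c₁` from `exists_ch`.  If `c = 0`: `exists_fixT` for `⊥ < W` (`nv_T`), else `y₁ = c₁` (`ch_fix`).  `exists_fixT` for `⟨y⟩ < ⟨y⟩ ⊔ N (y^⊥)` (dimension `≥ 2`: `dim N (y^⊥) ≥ dim W - 1`) gives `x = r y + N v`;
`ind_E`, `T (N v) + N v ∈ ⟨y⟩`, `E_add_smul`. -/
theorem exists_bp (q : Sq B) (h : Hi u) {S : Subgroup (MulAut (isom B))} (hS : IsPGroup 2 S) (e : ∀ θ ∈ S, θ u = u) :
    ∃ c₁ y₁ z, Bp u c₁ y₁ ∧ Sh u y₁ z ∧ ∀ θ ∈ S, θ z = z := by
  obtain ⟨M⟩ := q.sm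
  have k : ∀ θ ∈ S, ∀ x, M.T θ (nv u x) = nv u (M.T θ x) := fun θ hθ x => by rw [← M.nv_T, e θ hθ]
  have rk := h.rk
  obtain ⟨c₁, hc, -⟩ := q.exists_ch h.sq
  obtain ⟨y₁, p, hy⟩ : ∃ y₁, Bp u c₁ y₁ ∧ ∀ θ ∈ S, M.T θ (nv u y₁) = nv u y₁ := by
    by_cases c0 : nv u c₁ = 0
    · obtain ⟨_, ⟨y₁, rfl⟩, h1, h2⟩ := exists_fixT hS M.T M.add (A := ⊥) (A' := wv u) (bot_lt_iff_ne_bot.2 fun e => by
        rw [e, finrank_bot] at rk; omega) (fun θ _ x hx => by rw [(Submodule.mem_bot F).1 hx, M.zero]; exact zero_mem _) (by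
        rintro θ hθ _ ⟨x, rfl⟩; exact ⟨_, (k θ hθ x).symm⟩)
      exact ⟨y₁, ⟨hc, h1, .inl c0⟩, fun θ hθ => sub_eq_zero.1 ((sub_eq F _ _).trans (h2 θ hθ))⟩
    · exact ⟨c₁, ⟨hc, c0, .inr rfl⟩, fun θ hθ => M.ch_fix q hc (e θ hθ)⟩
  obtain ⟨f, hf⟩ := q.exists_one p.ne
  obtain ⟨x, hx, h1, h2⟩ := exists_fixT hS M.T M.add (A := F ∙ nv u y₁) (A' := F ∙ nv u y₁ ⊔ (pp B (F ∙ nv u y₁)).map (nv u))
    (left_lt_sup.2 fun l => by
      have := Submodule.finrank_mono (show wv u ≤ F ∙ nv u y₁ ⊔ F ∙ nv u f by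
        rintro _ ⟨x, rfl⟩
        have := add_mem (Submodule.mem_sup_left (T := F ∙ nv u f) (l ⟨x - B (nv u y₁) x • f, mem_pp1.2 (by simp [hf]), rfl⟩))
          (Submodule.mem_sup_right (sm_self (B (nv u y₁) x) (nv u f)))
        simpa using this)
      have := fr_sup (F ∙ nv u y₁) (nv u f)
      have := fr1 (F := F) (nv u y₁)
      omega) (fun θ hθ x hx => M.span_inv (hy θ hθ) hx) fun θ hθ x hx => by
      obtain ⟨a, ha, _, ⟨v, hv, rfl⟩, rfl⟩ := Submodule.mem_sup.1 hx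
      rw [M.add, k θ hθ]
      exact Submodule.add_mem_sup (M.span_inv (hy θ hθ) ha) ⟨_, mem_pp1.2 (M.o_inv (hy θ hθ) (mem_pp1.1 hv)), rfl⟩
  obtain ⟨a, ha, _, ⟨v, hv, rfl⟩, rfl⟩ := Submodule.mem_sup.1 hx
  have o : B (nv u y₁) (nv u v) = 0 := ww h.sq (nv_mem _ _) (nv_mem _ _)
  refine ⟨c₁, y₁, _, p, ⟨v, mem_pp1.1 hv, fun l => h1 (add_mem ha l), rfl⟩, fun θ hθ => ?_⟩
  have := h2 θ hθ
  rw [M.add, add_add_add_comm, add_mem_cancel_left (add_mem (M.span_inv (hy θ hθ) ha) ha)] at this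
  obtain ⟨c, hc⟩ := Submodule.mem_span_singleton.1 this
  rw [q.ind_E (M.ind' θ) o, hy θ hθ, map_zero, ← q.E_add_smul o c, hc, add_comm (M.T θ _), ← add_assoc, vv F, zero_add]

/-- As `OD.tri_of`, `OD.Gq.tri_fld`: `(T (λ x) + λ x) + σ λ (T x + x) = (λ + σ λ) x`, so the `T x + x`, `x ⊥ y`, span `y^⊥` (dimension `≥ 5`). -/
theorem tri (q : Sq B) (h : M.σ θ ≠ 1) (y : V) : ∃ a b c, B y a = 0 ∧ B y b = 0 ∧ B y c = 0 ∧
    ∀ x ∈ [a, b, c, a + b, a + c, b + c, a + b + c], M.T θ x + x ∉ F ∙ y := by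
  have k : ∀ A : Submodule F V, finrank F A ≤ 3 → ∃ x, B y x = 0 ∧ M.T θ x + x ∉ A := fun A hA => by
    by_contra! c
    obtain ⟨l, hl⟩ : ∃ l, M.σ θ l ≠ l := by
      by_contra! k
      exact h (RingEquiv.ext k)
    have := Submodule.finrank_mono (show pp B (F ∙ y) ≤ A from fun x hx => by
      rw [mem_pp1] at hx
      have := sub_mem (c (l • x) (by simp [hx])) (A.smul_mem (M.σ θ l) (c x hx))
      rwa [M.smul, show M.σ θ l • M.T θ x + l • x - M.σ θ l • (M.T θ x + x) = (l - M.σ θ l) • x by module,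
        A.smul_mem_iff (sub_ne_zero.2 hl.symm)] at this)
    have := q.fr_pp (F ∙ y)
    have := fr1 (F := F) y
    have := q.dim
    omega
  have f0 := fr1 (F := F) y
  have ms := Submodule.mem_span_singleton_self (R := F) (M := V)
  obtain ⟨a, a1, a2⟩ := k (F ∙ y) (by omega)
  have f1 := fr_sup (F ∙ y) (M.T θ a + a)
  obtain ⟨b, b1, b2⟩ := k ((F ∙ y) ⊔ F ∙ (M.T θ a + a)) (by omega)
  have f2 := fr_sup ((F ∙ y) ⊔ F ∙ (M.T θ a + a)) (M.T θ b + b)
  obtain ⟨c, c1, c2⟩ := k (((F ∙ y) ⊔ F ∙ (M.T θ a + a)) ⊔ F ∙ (M.T θ b + b)) (by omega)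
  have d : ∀ x y, M.T θ (x + y) + (x + y) = M.T θ x + x + (M.T θ y + y) := fun x y => by rw [M.add]; abel
  have l := fun {A B : Submodule F V} {x} => Submodule.mem_sup_left (S := A) (T := B) (x := x)
  have r := fun {A B : Submodule F V} {x} => Submodule.mem_sup_right (S := A) (T := B) (x := x)
  refine ⟨a, b, c, a1, b1, c1, ?_⟩
  simp only [List.mem_cons, List.not_mem_nil, or_false, forall_eq_or_imp, forall_eq, d]
  exact ⟨a2, fun k => b2 (l k), fun k => c2 (l (l k)), fun k => b2 ((add_mem_cancel_left (r (ms _))).1 (l k)),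
    fun k => c2 ((add_mem_cancel_left (l (r (ms _)))).1 (l (l k))), fun k => c2 ((add_mem_cancel_left (r (ms _))).1 (l (l k))),
    fun k => c2 ((add_mem_cancel_left (add_mem (l (r (ms _))) (r (ms _)))).1 (l (l k)))⟩

end Sm

variable {G : Type*} [Group G] [Finite G] {ψ : isom B →* G} {t d g : G}

/-- The action of `C(t)` on `J`. -/
structure Ka (ψ : isom B →* G) (t : G) (κ : 𝐂[t] →* MulAut (isom B)) : Prop where
  inj : Function.Injective ψ
  ac : ∀ (g : 𝐂[t]) x, ψ (κ g x) = g * ψ x * (g : G)⁻¹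

/-- `ker`, `center_eq`; `cn` and choice, unique as `ψ` is injective. -/
theorem Sq.ka (q : Sq B) (s : USt.St ψ t) : ∃ κ, Ka ψ t κ := by
  have inj : Function.Injective ψ := (injective_iff_map_eq_one _).2 fun x h => mem_bot.1 (q.center_eq.le (s.ker x h))
  choose κ h using fun g : 𝐂[t] => s.cn g (mem_cent1.1 g.2)
  exact ⟨.mk' κ fun a b => MulEquiv.ext fun x => inj (by rw [MulAut.mul_apply, ← h, ← h, ← h, coe_mul]; group), inj, fun g x => (h g x).symm⟩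

/-- As `inr` in `OD.Sg.ex`: `k = (ψ o)⁻¹ x` centralizes `L`, `o² = 1` (`center_eq`), `k² = 1`, `kinv`. -/
theorem Sq.inr (q : Sq B) (s : USt.St ψ t) {κ : 𝐂[t] →* MulAut (isom B)} (k : Ka ψ t κ) (x : 𝐂[t]) (x2 : (x : G) * x = 1) {o : isom B}
    (h : κ x = MulAut.conj o) : (x : G) ∈ ψ.range ∨ x * t ∈ ψ.range := by
  have c : ∀ y, (ψ o)⁻¹ * x * ψ y = ψ y * ((ψ o)⁻¹ * x) := fun y => by
    have := k.ac x y
    rw [h, MulAut.conj_apply, map_mul, map_mul, map_inv] at this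
    rw [mul_assoc, mul_inv_eq_iff_eq_mul.1 this.symm]; group
  have o2 : o * o = 1 := mem_bot.1 (q.center_eq.le (Subgroup.mem_center_iff.2 fun y => by
    have := DFunLike.congr_fun ((map_mul _ o o).trans (h ▸ (map_mul κ x x).symm.trans (congrArg κ (Subtype.ext x2 : x * x = 1)))) y
    rw [map_one] at this
    exact (mul_inv_eq_iff_eq_mul.1 this).symm))
  refine (s.kinv _ ?_ c ?_).imp (fun k => ⟨o, inv_mul_eq_one.1 k⟩) fun k => ⟨o, ?_⟩
  · rw [mul_assoc, mem_cent1.1 x.2, ← mul_assoc, ← map_inv, ← s.tψ, mul_assoc]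
  · have := c o⁻¹
    rw [map_inv] at this
    rw [← mul_assoc, this, mul_assoc, mul_assoc, x2, mul_one, ← mul_inv_rev, ← map_mul, o2, map_one, inv_one]
  · rw [inv_mul_eq_iff_eq_mul.1 k, mul_assoc, s.t2, mul_one]

/-- Port of `OD.Sg.ex`.  `N = (M.σ.comp κ).ker.map subtype`; `cm`: `F ≃+* F` is cyclic; `inn`: `Sm.inner`, `inr`; `rk`: `OD.aut_two` (among `a, b, a b` one has trivial `σ`).
`out`: `y ≠ 0` fixed by `T` (`exists_fixT` for `M.T.comp (κ.comp (inclusion h1))`), `A = ψ {E(y, m, s) | m ⊥ y}` (`E_mul`, `E_comm`, `E_sq`, `ind_E`, `o_inv`), `σ (κ d) ≠ 1` by `inr`;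
`[ψ E(y, m, s), d] = ψ E(y, m + T m, _)` is not trivial if `T m + m ∉ ⟨y⟩` (`E_inj`); `Sm.tri`, left case of `Big`. -/
theorem Sq.ex (q : Sq B) (s : USt.St ψ t) : ∃ N, Ex ψ.range N (fun _ => False) t := by
  obtain ⟨κ, k⟩ := q.ka s
  obtain ⟨M⟩ := q.sm
  have mN : ∀ x : 𝐂[t], (x : G) ∈ (M.σ.comp κ).ker.map 𝐂[t].subtype ↔ M.σ (κ x) = 1 := fun x => mem_map_iff_mem (subtype_injective _)
  have sq : ∀ x : 𝐂[t], (x : G) * x = 1 → M.σ (κ x) * M.σ (κ x) = 1 := fun x h => by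
    rw [← map_mul, ← map_mul, (Subtype.ext h : x * x = 1), map_one, map_one]
  have inr : ∀ x : 𝐂[t], (x : G) * x = 1 → M.σ (κ x) = 1 → (x : G) ∈ ψ.range ∨ x * t ∈ ψ.range := fun x x2 h =>
    let ⟨_, e⟩ := M.inner h; q.inr s k x x2 e
  refine ⟨(M.σ.comp κ).ker.map 𝐂[t].subtype, s.t2, ?_, by rintro _ ⟨x, rfl⟩; exact (s.tψ x).symm, fun g hg => mem_normalizer_fintype ?_, fun _ _ _ => id,
    commutator_le.2 fun x hx y hy => (mN ⁅(⟨x, hx⟩ : 𝐂[t]), ⟨y, hy⟩⁆).2 ?_, fun x hx h x2 => inr ⟨x, mem_cent1.2 h⟩ x2 ((mN _).1 hx),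
    fun x hx y hy z _ x2 y2 _ => ?_, fun T d hT h1 h2 hd d2 n1 n2 => ?_⟩
  · rintro ⟨x, rfl⟩
    exact s.t1 (by rw [show x = 1 from mem_bot.1 (q.center_eq.le (Subgroup.mem_center_iff.2 fun y => k.inj (by rw [map_mul, map_mul, s.tψ]))), map_one])
  · rintro _ ⟨x, rfl⟩
    exact ⟨_, k.ac ⟨g, mem_cent1.2 hg⟩ x⟩
  · rw [map_commutatorElement, map_commutatorElement, commutatorElement_eq_one_iff_mul_comm]
    exact IsCyclic.isMulCommutative.is_comm.comm _ _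
  · rcases aut_two _ _ (sq ⟨x, hx⟩ x2) (sq ⟨y, hy⟩ y2) with h | h | h
    · exact .inl ((mN _).2 h)
    · exact .inr (.inl ((mN _).2 h))
    · exact .inr (.inr (.inr (.inl ((mN (⟨x, hx⟩ * ⟨y, hy⟩)).2 (by rw [map_mul, map_mul, h, sq _ y2])))))
  have := q.nt
  obtain ⟨y, -, y0, hy⟩ := exists_fixT (S := ⊤) (hT.of_equiv topEquiv.symm) (M.T.comp (κ.comp (inclusion h1))) (fun p => M.add _) (A := ⊥) (A' := ⊤) bot_lt_top
    (fun θ _ x hx => by rw [(Submodule.mem_bot F).1 hx]; exact M.zero _) fun _ _ _ _ => trivial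
  replace hy : ∀ x : T, M.T (κ (inclusion h1 x)) y = y := fun x => sub_eq_zero.1 ((sub_eq F _ _).trans (hy x trivial))
  have Ec : ∀ (x : T) {m} (r : F), B y m = 0 → x * ψ (E B y m r) * (x : G)⁻¹ = ψ (E B y (M.T (κ (inclusion h1 x)) m) (M.σ (κ (inclusion h1 x)) r)) :=
    fun x m r h => (k.ac (inclusion h1 x) _).symm.trans (by rw [q.ind_E (M.ind' _) h, hy])
  have En : ∀ {m} {r : F}, B y m = 0 → M.T (κ (inclusion h1 ⟨d, hd⟩)) m + m ∉ F ∙ y → ⁅ψ (E B y m r), d⁆ ≠ 1 := fun {m r} h n e =>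
    n (q.E_inj y0 (M.o_inv (hy _) h) h (k.inj ((Ec ⟨d, hd⟩ r h).symm.trans
      (mul_inv_eq_iff_eq_mul.2 (commutatorElement_eq_one_iff_mul_comm.1 e).symm)))).1
  let A : Subgroup G :=
    { carrier := {g | ∃ m r, B y m = 0 ∧ ψ (E B y m r) = g}
      one_mem' := ⟨0, 0, map_zero _, by rw [q.E_zero, map_one]⟩
      mul_mem' := by
        rintro _ _ ⟨m, r, h, rfl⟩ ⟨m', r', h', rfl⟩
        exact ⟨m + m', _, by simp [h, h'], by rw [← map_mul, q.E_mul h h']⟩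
      inv_mem' := by
        rintro _ ⟨m, r, h, rfl⟩
        exact ⟨m, r, h, by rw [← map_inv, q.E_inv]⟩ }
  refine ⟨A, by rintro _ ⟨m, r, -, rfl⟩; exact ⟨_, rfl⟩, by
    rintro _ ⟨m, r, h, rfl⟩ _ ⟨m', r', h', rfl⟩; rw [← map_mul, q.E_comm h h', map_mul],
    by rintro _ ⟨m, r, h, rfl⟩; rw [← map_mul, q.E_sq, map_one],
    le_norm_iff.2 (by rintro x hx _ ⟨m, r, h, rfl⟩; exact ⟨_, _, M.o_inv (hy ⟨x, hx⟩) h, (Ec ⟨x, hx⟩ r h).symm⟩), ?_⟩
  obtain ⟨a, b, c, ha, hb, hc, k2⟩ := M.tri q (fun e => (inr (inclusion h1 ⟨d, hd⟩) d2 e).elim n1 n2) y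
  simp only [List.mem_cons, List.not_mem_nil, or_false, forall_eq_or_imp, forall_eq] at k2
  refine .inl ⟨_, ⟨a, 0, ha, rfl⟩, _, ⟨b, 0, hb, rfl⟩, _, ⟨c, 0, hc, rfl⟩, ?_⟩
  have ab : B y (a + b) = 0 := by simp [ha, hb]
  simp only [List.mem_cons, List.not_mem_nil, or_false, forall_eq_or_imp, forall_eq, ← map_mul, q.E_mul ha hb, q.E_mul ha hc, q.E_mul hb hc,
    q.E_mul ab hc]
  refine ⟨En ?_ k2.1, En ?_ k2.2.1, En ?_ k2.2.2.1, En ?_ k2.2.2.2.1, En ?_ k2.2.2.2.2.1, En ?_ k2.2.2.2.2.2.1, En ?_ k2.2.2.2.2.2.2⟩ <;> simp [ha, hb, hc]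

end Cfsg.Lib.SD
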