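import Cfsg.Agent.Lib.SD.G4
import Cfsg.Agent.Lib.SD.Au

/-!
# SD: Step 0, first half: `t ~ t z` for a `2`-central involution `z` of `L`.
-/

set_option autoImplicit false
set_option linter.unusedSectionVars false

namespace Cfsg.Lib.SD

open Subgroup Cfsg.Lib.BG Cfsg.Lib.Symp Cfsg.Lib.OD Module
open scoped Cfsg.Lib.Transfer commutatorElement

variable {F V : Type*} [Field F] [Finite F] [CharP F 2] [AddCommGroup V] [Module F V] [FiniteDimensional F V] {B : LinearMap.BilinForm F V}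
  {G : Type*} [Group G] [Finite G] {ψ : isom B →* G} {t d g : G} {u w a : isom B} {N T : Subgroup G} {κ : 𝐂[t] →* MulAut (isom B)}

theorem fu_cj {H : Type*} [Group H] [Finite H] {X : Subgroup H} {z w : H} (h : Fu X z) (k : Cj X z w) : Fu X w := by
  obtain ⟨l, hl, rfl⟩ := k
  obtain ⟨h1, h2, a, ha, b, hb, e⟩ := h
  refine ⟨mul_mem (mul_mem hl h1) (inv_mem hl), Ex.sq_cj h2 l, _, mul_mem (mul_mem hl ha) (inv_mem hl), _, mul_mem (mul_mem hl hb) (inv_mem hl), ?_⟩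
  rw [show l * b * l⁻¹ * (l * z * l⁻¹) * (l * b * l⁻¹)⁻¹ = l * (b * z * b⁻¹) * l⁻¹ by group, e]; group

/-- All data. -/
structure Cx (ψ : isom B →* G) (t : G) (N : Subgroup G) (κ : 𝐂[t] →* MulAut (isom B)) : Prop where
  q : Sq B
  st : USt.St ψ t
  ex : Ex ψ.range N (fun _ => False) t
  ka : Ka ψ t κ

theorem Sq.cx (q : Sq B) (s : USt.St ψ t) : ∃ N κ, Cx ψ t N κ := by
  obtain ⟨N, x⟩ := q.ex s
  obtain ⟨κ, k⟩ := q.ka s
  exact ⟨N, κ, q, s, x, k⟩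

namespace Cx
variable (c : Cx ψ t N κ)
include c

theorem inj : Function.Injective ψ := c.ka.inj
theorem tc (x : isom B) : ψ x * t = t * ψ x := (c.st.tψ x).symm
theorem mC (x : isom B) : ψ x ∈ 𝐂[t] := mem_cent1.2 (c.tc x)
theorem cj_t (l x : isom B) : ψ l * (t * ψ x) * (ψ l)⁻¹ = t * ψ (l * x * l⁻¹) := by
  rw [← mul_assoc, c.tc, map_mul, map_mul, map_inv]; group
/-- `t x ~ t` depends only on the class of `x`. -/
theorem dt_cj {x y : isom B} (h : Cj ⊤ x y) (k : IsConj t (t * ψ x)) : IsConj t (t * ψ y) := by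
  obtain ⟨l, -, rfl⟩ := h
  exact k.trans (isConj_iff.2 ⟨ψ l, c.cj_t l x⟩)
theorem map_cen (h : d = ψ u ∨ d = ψ u * t) : map ψ 𝐂[u] = ψ.range ⊓ (𝐂[t] ⊓ 𝐂[d]) := by
  have k : ∀ x, ψ x ∈ 𝐂[d] ↔ x ∈ 𝐂[u] := fun x => by
    rw [mem_cent1, mem_cent1, ← c.inj.eq_iff, map_mul, map_mul]
    rcases h with rfl | rfl
    · rfl
    · rw [← mul_assoc, mul_assoc (ψ u), ← c.tc, ← mul_assoc, mul_left_inj]
  refine le_antisymm ?_ ?_
  · rintro _ ⟨x, hx, rfl⟩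
    exact ⟨⟨x, rfl⟩, c.mC x, (k x).2 hx⟩
  · rintro _ ⟨⟨x, rfl⟩, -, hx⟩
    exact ⟨x, (k x).1 hx, rfl⟩
theorem fuL {X : Subgroup (isom B)} (hX : map ψ X ≤ 𝐂[d]) (e : g * d * g⁻¹ = t) (h : Fu X w) : ∃ a, ψ a = g * ψ w * g⁻¹ :=
  c.ex.fu hX e ((fu_map c.inj).2 h)
/-- No `2`-central involution of `L` is conjugate to `t`. -/
theorem zne (h : Rt w) : g * ψ w * g⁻¹ ≠ t := fun e => by
  obtain ⟨a, b, h1, h2, k⟩ := c.q.b0 h
  have le : map ψ 𝐂[w] ≤ 𝐂[ψ w] := (c.map_cen (.inl rfl)).le.trans (inf_le_right.trans inf_le_right)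
  obtain ⟨a', ha⟩ := c.fuL le e h1
  obtain ⟨b', hb⟩ := c.fuL le e h2
  exact c.ex.tn ⟨a' * b', by rw [← e, k, map_mul, map_mul, ha, hb, conj_mul]⟩
theorem zu_of {S : Subgroup G} (h : d = ψ u ∨ d = ψ u * t) (s : Syl 2 S (𝐂[t] ⊓ 𝐂[d])) (a2 : a * a = 1) (k : ψ a ∈ 𝐂(S)) : Zu u a := by
  have := c.ex.syl_inf inf_le_left s
  rw [← c.map_cen h] at this
  obtain ⟨P, e⟩ := le_map_top this.le
  rw [← e] at this
  exact ⟨a2, P, (Hall.map_iff c.inj).1 this, (cent_map c.inj).1 (e ▸ cent_anti inf_le_left k)⟩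

/-- `z` from `exists_bp` for a Sylow `S` of `X = C(t) ⊓ C(d)`; for `w ~ z` in `C(u)`, `a = g w g⁻¹ ∈ L` satisfies `Zu u a`, `t a ~ t`, `d a = g (t w) g⁻¹ ≁ t`.  `fin`, or `cfg` and `a4`. -/
theorem pair (h : Hi u) (hd : d = ψ u ∨ d = ψ u * t) (e : g * t * g⁻¹ = d) (e' : g * d * g⁻¹ = t) : ∃ w, Rt w ∧ IsConj t (t * ψ w) := by
  by_contra! H
  have q := c.q
  have : Finite (isom B) := .of_injective _ c.inj
  have td : IsConj t d := isConj_iff.2 ⟨g, e⟩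
  have mc := c.map_cen hd
  have LX : map ψ 𝐂[u] ≤ 𝐂[t] ⊓ 𝐂[d] := mc.le.trans inf_le_right
  have cd : ∀ {x}, Cj ⊤ u (u * x) → IsConj t (d * ψ x) := fun {x} ⟨l, _, k⟩ => td.trans (isConj_iff.2 ⟨ψ l, by
    rcases hd with rfl | rfl
    · rw [← map_inv, ← map_mul, ← map_mul, k, map_mul]
    · rw [c.tc, c.cj_t, k, map_mul, mul_assoc]⟩)
  obtain ⟨S, s⟩ := Syl.exists (p := 2) (𝐂[t] ⊓ 𝐂[d])
  have sl : S ≤ 𝐂[t] := s.le.trans inf_le_left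
  obtain ⟨c₁, y₁, z, p, hz, fz⟩ := Sm.exists_bp q h (s.pgroup.of_surjective _ (κ.comp (inclusion sl)).rangeRestrict_surjective) (by
    rintro _ ⟨x, rfl⟩
    refine c.inj ((c.ka.ac _ u).trans (mul_inv_eq_iff_eq_mul.2 (show (x : G) * _ = _ * (x : G) from ?_)))
    have k := mem_cent1.1 (s.le x.2).2
    rcases hd with rfl | rfl
    · exact k
    · exact mul_right_cancel (b := t) (by rw [mul_assoc, k, mul_assoc, mul_assoc]; exact congrArg _ (mem_cent1.1 (sl x.2)).symm))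
  have zS : ψ z ∈ 𝐂(S) := fun x hx => mul_inv_eq_iff_eq_mul.1 ((c.ka.ac ⟨x, sl hx⟩ z).symm.trans (congrArg ψ (fz _ ⟨⟨x, hx⟩, rfl⟩)))
  have key : ∀ w, Cj 𝐂[u] z w → ∃ a, ψ a = g * ψ w * g⁻¹ ∧ Zu u a ∧ a ≠ 1 ∧ IsConj t (t * ψ a) ∧ ¬ IsConj t (d * ψ a) := fun w hw => by
    obtain ⟨a, ha⟩ := c.fuL (LX.trans inf_le_right) e' (fu_cj (q.b3 h.sq p hz) hw)
    obtain ⟨l, hl, rfl⟩ := hw
    have r : Rt (l * z * l⁻¹) := .inr (.inl ((q.sh_a2 h.sq p hz).conj l))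
    have s' : Syl 2 (g ⋆ (ψ l ⋆ S)) (𝐂[t] ⊓ 𝐂[d]) := by
      have := Hall.conj (Hall.conj_of_mem s (LX ⟨l, hl, rfl⟩)) g
      rwa [Transfer.conj_inf, conj_cent1, conj_cent1, e, e', inf_comm] at this
    refine ⟨a, ha, c.zu_of hd s' (c.inj (by rw [map_mul, ha, map_one]; exact Ex.sq_cj (by rw [← map_mul, q.rt_sq r, map_one]) g)) ?_, ?_, ?_, fun k => H _ r ?_⟩
    · rw [ha, map_mul, map_mul, map_inv, ← Transfer.conj_centralizer, ← Transfer.conj_centralizer]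
      exact Transfer.conj_mem_conj.2 (Transfer.conj_mem_conj.2 zS)
    · rintro rfl
      exact q.rt_ne r (c.inj (by simpa using ha.symm))
    · obtain ⟨m, -, k⟩ := q.b2 h.sq p hz
      refine (cd (x := l * z * l⁻¹) ⟨l * m, trivial, ?_⟩).trans (isConj_iff.2 ⟨g, by rw [ha, ← e', conj_mul]⟩)
      rw [show l * m * u * (l * m)⁻¹ = l * (m * u * m⁻¹) * l⁻¹ by group, k, ← mul_assoc, mem_cent1.1 hl]; group
    · exact k.trans (isConj_iff.2 ⟨g⁻¹, by rw [ha, ← e]; group⟩)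
  by_cases n4 : nv u c₁ = 0 → finrank F (wv u) ≠ 4
  · have ex : ∀ v, ∃ a, B (nv u y₁) v = 0 → ψ a = g * ψ (E B (nv u y₁) (nv u v) 0) * g⁻¹ ∧ Zu u a ∧
        (nv u v ∉ F ∙ nv u y₁ → a ≠ 1 ∧ IsConj t (t * ψ a) ∧ ¬ IsConj t (d * ψ a)) := fun v => by
      by_cases o : B (nv u y₁) v = 0
      swap
      · exact ⟨1, fun k => absurd k o⟩
      by_cases m : nv u v ∈ F ∙ nv u y₁
      · obtain ⟨P, hP⟩ := Syl.exists (p := 2) 𝐂[u]
        exact ⟨1, fun _ => ⟨by rw [q.E_of_mem m, q.E_zero]; simp, ⟨mul_one _, P, hP, one_mem _⟩, fun k => absurd m k⟩⟩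
      obtain ⟨a, k1, k2, k3⟩ := key _ (q.tr h.sq p hz ⟨v, o, m, rfl⟩)
      exact ⟨a, fun _ => ⟨k1, k2, fun _ => k3⟩⟩
    choose f hf using ex
    obtain ⟨v, o, m, k⟩ := q.fin h p n4 (f := f) ⟨fun v hv v' hv' => c.inj (by
      rw [mem_pp1] at hv hv'
      have w := fun a b => ww h.sq (nv_mem u a) (nv_mem u b)
      rw [map_mul, (hf v hv).1, (hf v' hv').1, (hf _ (by rw [map_add, hv, hv', add_zero])).1, conj_mul, ← map_mul, q.E_mul (w _ _) (w _ _), w, map_add]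
      simp), fun v hv => (hf v (mem_pp1.1 hv)).2.1⟩
    obtain ⟨k1, k2, k3⟩ := (hf v o).2.2 m
    rcases k with k | k | k
    exacts [k1 k, H _ k k2, k3 (cd k)]
  push Not at n4
  obtain ⟨a, b, x, k1, k2, k3, k4, k5, k6, k7⟩ := q.cfg h.sq p.ch n4.1 n4.2 p.ne hz
  obtain ⟨a', a1, a2⟩ := key _ k1
  obtain ⟨b', b1, b2⟩ := key _ k2
  obtain ⟨x', x1, x2⟩ := key _ k3
  obtain rfl : d = ψ u * t := hd.resolve_left (by
    rintro rfl
    obtain ⟨y, y1, -⟩ := key _ k6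
    exact c.ex.tn ⟨y * x'⁻¹ * b'⁻¹, by simp only [map_mul, map_inv, y1, x1, b1, ← e']; group⟩)
  have gu : g * ψ u * g⁻¹ = ψ u := mul_right_cancel (b := ψ u * t) (by
    rw [← conj_mul, e] at e'
    rw [e', ← mul_assoc, ← map_mul, h.sq, map_one, one_mul])
  have gd : ∀ {w y}, Cj 𝐂[u] z w → ψ y = g * ψ w * g⁻¹ → Gd u y := fun {w y} k e => by
    obtain ⟨y', e', k1, k2, k3, k4⟩ := key _ k
    obtain rfl := c.inj (e.trans e'.symm)
    exact ⟨k1, k2, fun r => H _ r k3, fun r => k4 (by rw [c.tc, mul_assoc, ← map_mul]; exact c.dt_cj r k3)⟩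
  refine q.a4 h p.ch n4.1 (gd k1 a1) (gd k2 b1) (gd k3 x1) (gd k4 ?_) (gd k5 ?_) (gd k6 ?_) (gd k7 ?_) <;>
    simp only [map_mul, a1, b1, x1, ← conj_mul, gu]

/-- As `OD.Ex.step0`. -/
theorem step0R (hd : d * t = t * d) (dt : d ≠ t) (e : IsConj t d) : ∃ w, Rt w ∧ IsConj t (t * ψ w) := by
  have x := c.ex
  have aux : ∀ (d : G) (T : Subgroup G), d * t = t * d → d ≠ t → IsConj t d → IsPGroup 2 T → T ≤ 𝐂[t] → T ≤ 𝐂[d] → Mx t (Nat.card T) →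
      (d ∈ ψ.range ∨ d * t ∈ ψ.range) → ∃ w, Rt w ∧ IsConj t (t * ψ w) := fun d T hd dt e hT h1 h2 m h => by
    obtain ⟨g, hc⟩ := isConj_iff.1 e
    have d2 := hc ▸ Ex.sq_cj x.t2 g
    obtain ⟨u, k, u1, u2, uT⟩ : ∃ u, (d = ψ u ∨ d = ψ u * t) ∧ ψ u ≠ 1 ∧ ψ u * ψ u = 1 ∧ T ≤ 𝐂[ψ u] := by
      rcases h with ⟨u, rfl⟩ | ⟨u, h⟩
      · exact ⟨u, .inl rfl, fun k => c.st.t1 (by rwa [k, isConj_one_left] at e), d2, h2⟩
      · exact ⟨u, .inr (by rw [h, mul_assoc, x.t2, mul_one]), fun k => dt (mul_right_cancel ((h.symm.trans k).trans x.t2.symm)),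
          by rw [h, mul_assoc, ← mul_assoc t, ← hd, mul_assoc, x.t2, mul_one, d2],
          h ▸ le_cent1_iff.2 (mul_mem (le_cent1_iff.1 h2) (le_cent1_iff.1 h1))⟩
    replace u1 : u ≠ 1 := fun k => u1 (by rw [k, map_one])
    replace u2 : u * u = 1 := c.inj (by rw [map_mul, u2, map_one])
    by_cases r : Rt u
    · rcases k with rfl | rfl
      · exact absurd (by rw [← hc]; group) (c.zne (g := g⁻¹) r)
      · exact ⟨u, r, c.tc u ▸ e⟩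
    by_cases s : Syl 2 T 𝐂[t]
    · have s := x.syl_inf le_rfl s
      rw [inf_eq_left.2 x.LC, MonoidHom.range_eq_map] at s
      obtain ⟨P, e⟩ := le_map_top s.le
      rw [← e] at s
      exact ((c.q.hz ((Hall.map_iff c.inj).1 s) u2 ((cent_map c.inj).1 (e ▸ le_cent1_iff.1 (inf_le_left.trans uT)))).elim u1 r).elim
    obtain ⟨g, -, g1, g2⟩ := m.swap x.t2 hd dt e hT h1 h2 s
    exact c.pair (c.q.hi_of u2 u1 r) k g1 g2
  obtain ⟨d, T, hd, dt, e, hT, h1, h2, m⟩ := exists_mx hd dt e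
  by_cases h : d ∈ ψ.range ∨ d * t ∈ ψ.range
  · exact aux d T hd dt e hT h1 h2 m h
  obtain ⟨g, hc⟩ := isConj_iff.1 e.symm
  obtain ⟨c', hc'⟩ := isConj_iff.1 e
  obtain ⟨d', k1, k2, k3, k4, k5, k6⟩ := x.inner hT h1 h2 ((m.syl (.refl t) e dt.symm hd.symm hT h1 h2).ge_of_norm_p'
    (zpowers_le.2 ⟨mem_cent1.2 hd, self_mem_cent1 d⟩) (pg_inv (hc' ▸ Ex.sq_cj x.t2 c')) (norm_of_cent (zpowers_le.2 (le_cent1_iff.1 h2)))
    (mem_zpowers d)) hc (fun k => h (.inl k)) fun k => h (.inr k)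
  exact aux d' _ k1 k2 k3 (Transfer.isPGroup_conj hT g) k4 k5 (Transfer.card_conj g T ▸ m) k6

end Cx

end Cfsg.Lib.SD
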