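import Cfsg.Agent.Lib.SD.Au

/-!
# SD: the centralizer of `z = E(e, e', 1)` (class `c₂`).  `ℓ = ⟨e, e'⟩`, `τ_x = E(x, 0, 1)`; `fx B ℓ ≤ C(z)` (`fx_le`).
-/

set_option autoImplicit false
set_option linter.unusedSectionVars false

namespace Cfsg.Lib.SD

open Subgroup Cfsg.Lib.BG Cfsg.Lib.Symp Cfsg.Lib.OD Module
open scoped Cfsg.Lib.Transfer commutatorElement

variable {F V : Type*} [Field F] [Finite F] [CharP F 2] [AddCommGroup V] [Module F V] [FiniteDimensional F V] {B : LinearMap.BilinForm F V}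
  {a b g w : isom B} {x e e' m : V} {r s : F} {θ : MulAut (isom B)} {N : Subgroup (isom B)}

/-- The line `⟨e, e'⟩`. -/
abbrev li (F : Type*) [Field F] [Module F V] (e e' : V) : Submodule F V := Submodule.span F {e, e'}

/-- The unipotent radical of the stabilizer of `U`. -/
def Q0 (B : LinearMap.BilinForm F V) (U : Submodule F V) (hU : U ≤ pp B U) : Subgroup (isom B) where
  carrier := {g | g ∈ fx B U ∧ ∀ x ∈ pp B U, nv g x ∈ U}
  one_mem' := ⟨one_mem _, by simp⟩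
  mul_mem' := fun {a b} ha hb => ⟨mul_mem ha.1 hb.1, fun x hx => by
    rw [nv_mul', nv_zero.2 (ha.1 _ (hb.2 x hx)), add_zero]; exact add_mem (ha.2 x hx) (hb.2 x hx)⟩
  inv_mem' := fun {a} ha => ⟨inv_mem ha.1, fun x hx => by
    rw [nv_inv, nv_zero.2 (inv_mem ha.1 _ (ha.2 x hx)), add_zero]; exact neg_mem (ha.2 x hx)⟩

/-- `{E(e, m, s) | m ⊥ e, e'}`. -/
def E1 (q : Sq B) (e e' : V) : Subgroup (isom B) where
  carrier := {g | ∃ m s, B e m = 0 ∧ B e' m = 0 ∧ g = E B e m s}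
  one_mem' := ⟨0, 0, by simp, by simp, (q.E_zero e).symm⟩
  mul_mem' := by
    rintro _ _ ⟨m, s, h1, h2, rfl⟩ ⟨m', s', h1', h2', rfl⟩
    exact ⟨_, _, by simp [h1, h1'], by simp [h2, h2'], q.E_mul h1 h1' s s'⟩
  inv_mem' := by
    rintro _ ⟨m, s, h1, h2, rfl⟩
    exact ⟨m, s, h1, h2, q.E_inv e m s⟩

variable (F) in
theorem li_e : e ∈ li F e e' := Submodule.subset_span (by simp)
variable (F) in
theorem li_e' : e' ∈ li F e e' := Submodule.subset_span (by simp)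
theorem e_li (h : x ∈ F ∙ e) : x ∈ li F e e' := (Submodule.span_singleton_le_iff_mem _ _).2 (li_e F) h

namespace Sq
variable (q : Sq B)
include q

/-- `E_smul`, `exists_sq`. -/
theorem c2_norm (h : C2 a) : ∃ e e', Ln B e e' ∧ a = E B e e' 1 := by
  obtain ⟨y, m, s, l, hs, rfl⟩ := h
  obtain ⟨d, rfl⟩ := exists_sq s
  have d0 : d ≠ 0 := fun k => hs (by rw [k, zero_pow two_ne_zero])
  refine ⟨d • y, d⁻¹ • m, ⟨smul_ne_zero d0 l.ne, fun k => inv_ne_zero d0 (smul_nmem l.nm ((Submodule.span_singleton_le_iff_mem _ _).2 (sm_self d y) k)),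
    by simp [l.o]⟩, ?_⟩
  rw [q.E_smul (by simp [l.o]), smul_inv_smul₀ d0, mul_one]

theorem li_le (l : Ln B e e') : li F e e' ≤ pp B (li F e e') :=
  Submodule.span_le.2 (Set.pair_subset (mem_pp2.2 ⟨q.bb e, q.o' l.o⟩) (mem_pp2.2 ⟨l.o, q.bb e'⟩))

/-- `B(x, N x) = B(x, e)²` for `E(e, _, 1)`. -/
theorem E_one_inj {y y' m' : V} (h : B y m = 0) (h' : B y' m' = 0) (k : E B y m 1 = E B y' m' 1) : y = y' := q.E_one_inj' h h' k

/-- `ind_E`, `E_one_inj`, `E_inj`. -/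
theorem cz_fix (M : Sm B) (l : Ln B e e') (h : θ (E B e e' 1) = E B e e' 1) : M.T θ e = e ∧ M.T θ e' + e' ∈ F ∙ e := by
  rw [q.ind_E (M.ind' θ) l.o, map_one] at h
  have o : B (M.T θ e) (M.T θ e') = 0 := by rw [M.bil, l.o, map_zero]
  have a := q.E_one_inj o l.o h
  rw [a] at h o
  exact ⟨a, (q.E_inj l.ne o l.o h).1⟩

/-- `conj_E`, `E_one_inj`, `E_inj`. -/
theorem cz_fix' (l : Ln B e e') (h : g ∈ 𝐂[E B e e' 1]) : g.1 e = e ∧ nv g e' ∈ F ∙ e := by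
  have k := mul_inv_eq_iff_eq_mul.2 (mem_cent1.1 h)
  rw [conj_E] at k
  have o : B (g.1 e) (g.1 e') = 0 := by rw [bil_ap, l.o]
  have a := q.E_one_inj o l.o k
  rw [a] at k o
  exact ⟨a, by rw [nv_apply, sub_eq F]; exact (q.E_inj l.ne o l.o k).1⟩

theorem cz_e (l : Ln B e e') (h : g ∈ 𝐂[E B e e' 1]) (hx : x ∈ F ∙ e) : nv g x = 0 := by
  obtain ⟨c, rfl⟩ := Submodule.mem_span_singleton.1 hx
  rw [map_smul, nv_zero.2 (q.cz_fix' l h).1, smul_zero]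

theorem cz_nv (l : Ln B e e') (h : g ∈ 𝐂[E B e e' 1]) (hx : x ∈ li F e e') : nv g x ∈ F ∙ e := by
  obtain ⟨c, d, rfl⟩ := Submodule.mem_span_pair.1 hx
  rw [map_add, q.cz_e l h (sm_self c e), zero_add, map_smul]
  exact Submodule.smul_mem _ _ (q.cz_fix' l h).2

theorem cz_li (l : Ln B e e') : ∀ g ∈ 𝐂[E B e e' 1], ∀ x ∈ li F e e', g.1 x ∈ li F e e' := fun g h x hx => by
  rw [ap_eq]; exact add_mem hx (e_li (q.cz_nv l h hx))

theorem fx_wv {U : Submodule F V} (h : g ∈ fx B U) (x : V) : nv g x ∈ pp B U :=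
  q.wv_le (fun y hy => nv_zero.2 (h y (q.pp_pp U ▸ hy))) (nv_mem g x)

omit q in
theorem _root_.Cfsg.Lib.SD.cm_fix (h : nv a⁻¹ (nv b⁻¹ x) = 0) (h' : nv b⁻¹ (nv a⁻¹ x) = 0) : (⁅a, b⁆ : isom B).1 x = x := by
  have : (a⁻¹ * b⁻¹).1 x = (b⁻¹ * a⁻¹).1 x := by rw [ap_eq, ap_eq (b⁻¹ * a⁻¹), nv_mul', nv_mul', h, h', add_comm (nv a⁻¹ x)]
  rw [commutatorElement_def, mul_assoc, mul_ap, this, ← mul_ap, show a * b * (b⁻¹ * a⁻¹) = 1 by group]; rfl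

/-- `a e' = e' + α e`, `b e' = e' + β e`, so `a b` and `b a` agree on `ℓ`. -/
theorem comm_fx (l : Ln B e e') (ha : a ∈ 𝐂[E B e e' 1]) (hb : b ∈ 𝐂[E B e e' 1]) : ⁅a, b⁆ ∈ fx B (li F e e') := fun _ hx =>
  cm_fix (q.cz_e l (inv_mem ha) (q.cz_nv l (inv_mem hb) hx)) (q.cz_e l (inv_mem hb) (q.cz_nv l (inv_mem ha) hx))

/-- `w = [b, w] [a, w]⁻¹` (see `OD.Ex.T3`). -/
theorem fu_fx (l : Ln B e e') (h : Fu 𝐂[E B e e' 1] w) : w ∈ fx B (li F e e') := by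
  obtain ⟨h1, -, a, ha, b, hb, e⟩ := h
  have := mul_mem (q.comm_fx l hb h1) (inv_mem (q.comm_fx l ha h1))
  rwa [commutatorElement_def, commutatorElement_def, e, show w * (a * w * a⁻¹) * w⁻¹ * (a * w * a⁻¹ * w⁻¹)⁻¹ = w by group] at this

/-- `N_g V ≤ U^⊥` (`g` fixes `U`: `wv_le`, `pp_pp`), `N_g³ = 0`, `N_{g⁴} = N_g⁴ = 0` (`nv_sq`). -/
theorem q0_pg {U : Submodule F V} (hU : U ≤ pp B U) : IsPGroup 2 (Q0 B U hU) := fun ⟨g, hg⟩ => ⟨2, Subtype.ext (by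
  change g ^ 2 ^ 2 = 1
  rw [show g ^ 2 ^ 2 = g * g * (g * g) by rw [show 2 ^ 2 = 2 * 2 from rfl, pow_mul, pow_two, pow_two]]
  exact eq_one_of fun x => by rw [nv_sq, nv_sq, nv_sq, nv_zero.2 (hg.1 _ (hg.2 _ (q.fx_wv hg.1 x))), map_zero])⟩

theorem T_li (M : Sm B) (l : Ln B e e') (h : θ (E B e e' 1) = E B e e' 1) (hx : x ∈ li F e e') : M.T θ x ∈ li F e e' := by
  obtain ⟨c, d, rfl⟩ := Submodule.mem_span_pair.1 hx
  have k := q.cz_fix M l h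
  rw [M.add, M.smul, M.smul, k.1]
  exact add_mem (Submodule.smul_mem _ _ (li_e F)) (Submodule.smul_mem _ _ ((add_mem_cancel_right (li_e' F)).1 (e_li k.2)))

theorem T_pp (M : Sm B) (l : Ln B e e') (h : θ (E B e e' 1) = E B e e' 1) (hx : x ∈ pp B (li F e e')) : M.T θ x ∈ pp B (li F e e') := by
  have k := q.cz_fix M l h
  have o := mem_pp2.1 hx
  have a := M.o_inv k.1 o.1
  have := mem_pp1.2 a _ k.2
  rw [map_add, LinearMap.add_apply, M.bil, o.2, map_zero, zero_add] at this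
  exact mem_pp2.2 ⟨a, this⟩

/-- `T θ` is a bijection preserving `ℓ` (`cz_fix` for `θ`, `θ⁻¹`) and `ℓ^⊥`; `Sm.ind`, `Sm.nv_T`. -/
theorem q0_inv (M : Sm B) (l : Ln B e e') (h : θ (E B e e' 1) = E B e e' 1) (hg : g ∈ Q0 B _ (q.li_le l)) : θ g ∈ Q0 B _ (q.li_le l) := by
  have h' : θ⁻¹ (E B e e' 1) = E B e e' 1 := (MulEquiv.symm_apply_eq θ).2 h.symm
  have t : ∀ x, M.T θ (M.T θ⁻¹ x) = x := fun x => by rw [← Equiv.Perm.mul_apply, ← map_mul, mul_inv_cancel, map_one]; rfl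
  refine ⟨fun x hx => ?_, fun x hx => ?_⟩
  · rw [← t x, M.ind, hg.1 _ (q.T_li M l h' hx)]
  · rw [← t x, M.nv_T]; exact q.T_li M l h (hg.2 _ (q.T_pp M l h' hx))

/-- `cz_fix`, `ind_E`. -/
theorem e1_inv (M : Sm B) (l : Ln B e e') (h : θ (E B e e' 1) = E B e e' 1) (hg : g ∈ E1 q e e') : θ g ∈ E1 q e e' := by
  obtain ⟨m, s, a, b, rfl⟩ := hg
  have := mem_pp2.1 (q.T_pp M l h (mem_pp2.2 ⟨a, b⟩))
  exact ⟨_, _, this.1, this.2, by rw [q.ind_E (M.ind' θ) a, (q.cz_fix M l h).1]⟩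

theorem tau_cj {y : V} (h : B x y = 1) : E B y 0 1 * E B x 0 1 * (E B y 0 1)⁻¹ = E B (x + y) 0 1 := by
  rw [conj_E, map_zero, q.E_ap (map_zero _)]; simp [h]

theorem tau_fx {U : Submodule F V} (h : x ∈ pp B U) (s : F) : E B x 0 s ∈ fx B U := fun y hy => q.E_fix (map_zero _) (h y hy) (map_zero _)

/-- `τ_x τ_y τ_x = τ_{x + y} = τ_y τ_x τ_y` (`conj_E`), so `(τ_x τ_y)³ = 1`; and `τ_x ≠ τ_y` (apply to `x`). -/
theorem tau3 {y : V} (h : B x y = 1) : (E B x 0 1 * E B y 0 1) ^ 3 = 1 ∧ E B x 0 1 * E B y 0 1 ≠ 1 := by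
  refine ⟨?_, fun k => ?_⟩
  · have a := q.tau_cj h
    have b := q.tau_cj ((q.sy y x).trans h)
    rw [q.E_inv] at a b
    rw [show (E B x 0 1 * E B y 0 1) ^ 3 = E B x 0 1 * E B y 0 1 * E B x 0 1 * (E B y 0 1 * E B x 0 1 * E B y 0 1) by simp only [pow_succ, pow_zero, one_mul, mul_assoc],
      a, b, add_comm, q.E_sq]
  · rw [mul_eq_one_iff_eq_inv, q.E_inv] at k
    rw [q.E_one_inj (map_zero _) (map_zero _) k, q.bb] at h
    exact zero_ne_one h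

omit q in
theorem _root_.Cfsg.Lib.SD.tau_mem (q : Sq B) (n : 𝐂[E B e e' 1] ≤ 𝐍(N)) (hw : w ∈ N) (w2 : w * w = 1) (hx : x ∈ pp B (li F e e')) : E B (w.1 x) 0 1 * E B x 0 1 ∈ N := by
  have := mul_mem hw (conj_mem_of_norm (n (fx_le e e' 1 (q.tau_fx hx 1))) hw)
  rw [← mul_assoc, ← mul_assoc, q.E_inv] at this
  nth_rewrite 2 [← inv_eq_of_mul_eq_one_left w2] at this
  rwa [conj_E, map_zero] at this

/-- `n = w (τ_x w τ_x⁻¹) = τ_{w x} τ_x ∈ N`, `w x ∈ ℓ^⊥`.  If `x ∉ ℓ + ⟨w x⟩` take `x' ∈ (ℓ + ⟨w x⟩)^⊥`, `B(x, x') = 1`: `n⁻¹ (τ_{x'} n τ_{x'}⁻¹) = τ_x τ_{x + x'} ∈ N` has order three (`tau3`).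
So `x = l + r w x`, `w x = l' + r x`, `(1 + r²) x ∈ ℓ`: `r = 1` or `x ∈ ℓ`. -/
theorem q0_of (l : Ln B e e') (hN : IsPGroup 2 N) (n : 𝐂[E B e e' 1] ≤ 𝐍(N)) (hw : w ∈ N) (wz : w ∈ 𝐂[E B e e' 1]) (w2 : w * w = 1)
    (hx : x ∈ pp B (li F e e')) : nv w x ∈ li F e e' := by
  have wx := pp_inv (q.cz_li l) w wz x hx
  have m := tau_mem q n hw w2 hx
  by_cases k : x ∈ li F e e' ⊔ F ∙ w.1 x
  · by_cases xl : x ∈ li F e e'
    · exact e_li (q.cz_nv l wz xl)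
    obtain ⟨y, hy, _, hz, e1⟩ := Submodule.mem_sup.1 k
    obtain ⟨r, rfl⟩ := Submodule.mem_span_singleton.1 hz
    have e2 := congrArg w.1 e1
    rw [map_add, map_smul, ← mul_ap, w2] at e2
    change _ + r • x = _ at e2
    have r1 : r = 1 := sq_inj (by
      rw [one_pow]
      refine (CharTwo.add_eq_zero.1 (smul_nmem xl (c := 1 + r ^ 2) ?_)).symm
      rw [add_smul, one_smul]
      nth_rewrite 1 [← e1, ← e2]
      rw [smul_add, smul_smul, ← pow_two, add_assoc, add_assoc, vv F, add_zero]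
      exact add_mem hy (Submodule.smul_mem _ _ (q.cz_li l w wz y hy)))
    rw [r1, one_smul] at e1
    rw [nv_apply, sub_eq F]
    nth_rewrite 2 [← e1]
    rwa [add_comm y, ← add_assoc, vv F, zero_add]
  obtain ⟨x', a, b⟩ := q.exists_pp k 1
  rw [pp_sup] at a
  have c := mul_mem (inv_mem m) (conj_mem_of_norm (n (fx_le e e' 1 (q.tau_fx a.1 1))) m)
  rw [← conj_mul, q.tau_cj b, conj_E, map_zero, q.E_fix (map_zero _) (mem_pp1.1 a.2) (map_zero _), mul_inv_rev, mul_assoc, inv_mul_cancel_left, q.E_inv] at c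
  have t := q.tau3 (x := x) (y := x + x') (by rw [map_add, q.bb, b, zero_add])
  obtain ⟨j, hj⟩ := hN ⟨_, c⟩
  have := pow_gcd_eq_one.2 ⟨t.1, congrArg Subtype.val hj⟩
  rw [(Nat.Coprime.pow_right j (by decide) : Nat.gcd 3 (2 ^ j) = 1), pow_one] at this
  exact absurd this t.2

/-- `f, f'` with `B(e, f) = B(e', f') = 1`, `B(e', f) = B(e, f') = 0` (`exists_pp`); `g² = 1` (`nv_sq`, `fix_of`), `N f = r e'`, `N f' = r e` (`Al`, `nv_sym`), `N` kills `ℓ^⊥`,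
`x + B(x, e) f + B(x, e') f' ∈ ℓ^⊥`. -/
theorem alt_li (l : Ln B e e') (h : wv g ≤ li F e e') (h' : Al g) : ∃ r : F, g = E B e (r • e') 0 := by
  have g2 : g * g = 1 := eq_one_of fun x => by rw [nv_sq, q.fix_of h (q.li_le l (h (nv_mem g x)))]
  obtain ⟨f, f1, f2⟩ := q.exists_pp (q.ln_symm l).nm 1
  obtain ⟨f', f3, f4⟩ := q.exists_pp l.nm 1
  rw [mem_pp1] at f1 f3
  obtain ⟨a, r, e1⟩ := Submodule.mem_span_pair.1 (h (nv_mem g f))
  obtain ⟨r', b, e2⟩ := Submodule.mem_span_pair.1 (h (nv_mem g f'))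
  have a0 := h' f
  have b0 := h' f'
  have c := nv_sym g2 f f'
  rw [← e1] at a0 c
  rw [← e2] at b0 c
  simp only [map_add, map_smul, LinearMap.add_apply, LinearMap.smul_apply, smul_eq_mul, q.sy f, q.sy f', f1, f2, f3, f4, mul_one, mul_zero, add_zero, zero_add] at a0 b0 c
  subst a0 b0 c
  refine ⟨r, eq_of_nv fun x => ?_⟩
  have := q.fix_of h (x := x + B x e • f + B x e' • f') (mem_pp2.2 ⟨by simp [f2, f3, q.sy x, CharTwo.add_self_eq_zero], by simp [f1, f4, q.sy x, CharTwo.add_self_eq_zero]⟩)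
  rw [map_add, map_add, map_smul, map_smul, ← e1, ← e2, add_assoc, add_eq_zero_iff_eq_neg, ng F] at this
  rw [this, q.nv_E (by simp [l.o])]
  simp [smul_smul, mul_comm]

/-- `V ≥ ℓ^⊥ ≥ ℓ ≥ 0` is lowered by every `N_g`, `g ∈ Q0`.  `[a, b] (b a) = a b` gives `N_{[a, b]} = N_a N_b + N_b N_a` (first `[a, b]` fixes `ℓ^⊥`: `a b` and `b a` agree there);
`B(x, N_a N_b x) = B(N_a x, N_b x)` (expand `B(a x, a y) = B(x, y)` with `y = N_b x`).  `wv_le`, `alt_li`. -/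
theorem q0_comm (l : Ln B e e') (ha : a ∈ Q0 B _ (q.li_le l)) (hb : b ∈ Q0 B _ (q.li_le l)) : ∃ r : F, ⁅a, b⁆ = E B e (r • e') 0 := by
  have two : (2 : F) = 0 := two0
  have c : ∀ x ∈ pp B (li F e e'), nv ⁅a, b⁆ x = 0 := fun x hx => nv_zero.2
    (cm_fix (nv_zero.2 ((inv_mem ha).1 _ ((inv_mem hb).2 x hx))) (nv_zero.2 ((inv_mem hb).1 _ ((inv_mem ha).2 x hx))))
  refine q.alt_li l (q.wv_le c) fun x => ?_
  have k : ∀ a ∈ Q0 B _ (q.li_le l), ∀ b ∈ Q0 B _ (q.li_le l), B x (nv a (nv b x)) + B (nv a x) (nv b x) = 0 := fun a ha b hb => by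
    have := bil_ap a x (nv b x)
    rw [ap_eq, ap_eq a (nv b x)] at this
    simp only [map_add, LinearMap.add_apply, q.o' (q.fx_wv ha.1 x _ (ha.2 _ (q.fx_wv hb.1 x)))] at this
    linear_combination this
  have z := nv_mul' ⁅a, b⁆ (b * a) x
  rw [c _ (q.fx_wv (mul_mem hb ha).1 x), show ⁅a, b⁆ * (b * a) = a * b by rw [commutatorElement_def]; group, nv_mul', nv_mul'] at z
  have z := congrArg (B x) z
  simp only [map_add, map_zero] at z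
  have := q.sy (nv a x) (nv b x)
  linear_combination -z + k a ha b hb - k b hb a ha - this

/-- `τ_n E(n, 0, c²) = E(n, 0, (1 + c)²)`, `E(n, 0, d²) = τ_{d n}` (`E_smul`), `fx_tr`. -/
theorem fu_tau {U : Submodule F V} {n : V} {c : F} (h0 : c ≠ 0) (h1 : c ≠ 1) (hn : n ∈ pp B U) (hn' : n ∉ U) : Fu (fx B U) (E B n 0 1) := by
  have c1 : 1 + c ≠ 0 := fun k => h1 (CharTwo.add_eq_zero.1 k).symm
  obtain ⟨a, ha, e1⟩ := q.fx_tr hn hn' (Submodule.smul_mem _ c hn) fun k => h0 (smul_nmem hn' k)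
  obtain ⟨b, hb, e2⟩ := q.fx_tr hn hn' (Submodule.smul_mem _ (1 + c) hn) fun k => c1 (smul_nmem hn' k)
  refine ⟨q.tau_fx hn 1, q.E_sq .., a, ha, b, hb, ?_⟩
  rw [conj_E, conj_E, e1, e2, map_zero, map_zero, q.E_smul (by simp), q.E_smul (by simp), smul_zero, smul_zero, q.E_mul (map_zero _) (map_zero _), CharTwo.add_sq]
  simp

theorem E_Q0 (l : Ln B e e') {y : V} (hy : y ∈ li F e e') (hm : m ∈ pp B (li F e e')) (s : F) : E B y m s ∈ Q0 B _ (q.li_le l) :=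
  ⟨fun x hx => q.E_fix (hm y hy) (q.li_le l hy x hx) (hm x hx), fun x hx => by
    rw [q.nv_E (hm y hy), q.o' (hx y hy), zero_smul, zero_add]; exact Submodule.smul_mem _ _ hy⟩

theorem cm_tau {y n : V} (h1 : B y m = 0) (h2 : B y n = 0) (h3 : B m n = 1) : ⁅E B n 0 1, E B y m 0⁆ = E B y n 1 := by
  rw [commutatorElement_def, conj_E, q.E_fix (map_zero _) h2 (map_zero _), q.E_ap (map_zero _), q.E_inv, q.E_mul (by simp [h1, h2]) h1]
  simp [h3, q.bb, q.sy n, add_right_comm m n m, vv F]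

theorem exists_n (m : V) : ∃ n ∈ pp B (li F e e'), n ∉ li F e e' ⊔ F ∙ m := exists_nmem (by
  have := q.fr_pp (li F e e')
  have : finrank F (li F e e') ≤ 2 := fr2 e e'
  have := fr_sup (li F e e') m
  have := q.dim
  omega)

/-- `n, n₀ ∈ ℓ^⊥ ∖ ℓ`, `B(n, n₀) = 1`.  `h₁ = τ_n`, `a₀ = E(e, n₀, 0)`, `[h₁, a₀] = E(e, n, 1)`; `h₂ = τ_{r n₀}`, `b₀ = E(e', r⁻¹ n, 0)`, `[h₂, b₀] = E(e', r n₀, 1)`;
the commutator of these is `E(e', r e, 0) = E(e, r e', 0)` (`conj_E`, `E_mul`, `E_sw`, `E_smul`).  `fu_tau`, `fu_E`, `fu_mono`, `fx_le`. -/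
theorem xs_gen (l : Ln B e e') {c : F} (h0 : c ≠ 0) (h1 : c ≠ 1) (hr : r ≠ 0) : ∃ h₁ a₀ h₂ b₀, (∀ x ∈ [h₁, a₀, h₂, b₀], Fu 𝐂[E B e e' 1] x) ∧
    (∀ x ∈ [⁅h₁, a₀⁆, ⁅h₂, b₀⁆], x ∈ Q0 B _ (q.li_le l) ∧ x * x = 1) ∧ ⁅⁅h₁, a₀⁆, ⁅h₂, b₀⁆⁆ = E B e (r • e') 0 := by
  obtain ⟨n, n1, n2⟩ := q.exists_n (e := e) (e' := e') 0
  replace n2 : n ∉ li F e e' := fun k => n2 (Submodule.mem_sup_left k)
  obtain ⟨m, m1, o⟩ := q.exists_pp n2 1
  have m2 : m ∉ li F e e' := fun k => zero_ne_one ((q.o' (n1 m k)).symm.trans o)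
  have sm := fun (c : F) {x : V} => Submodule.smul_mem (pp B (li F e e')) c (x := x)
  have on := mem_pp2.1 n1
  have om := mem_pp2.1 m1
  refine ⟨E B n 0 1, E B e m 0, E B (r • m) 0 1, E B e' (r⁻¹ • n) 0, ?_⟩
  rw [q.cm_tau om.1 on.1 ((q.sy ..).trans o), q.cm_tau (by simp [on.2]) (by simp [om.2]) (by simp [o, hr])]
  simp only [List.forall_mem_cons, List.not_mem_nil, false_imp_iff, implies_true, and_true]
  have fm := fun {w} => fu_mono (w := w) (fx_le (B := B) e e' 1)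
  refine ⟨⟨fm (q.fu_tau h0 h1 n1 n2), fm (q.fu_E (q.li_le l) (fr2 ..) (li_e F) m1 m2 0), fm (q.fu_tau h0 h1 (sm r m1) fun k => hr (smul_nmem m2 k)),
    fm (q.fu_E (q.li_le l) (fr2 ..) (li_e' F) (sm _ n1) (fun k => inv_ne_zero hr (smul_nmem n2 k)) 0)⟩,
    ⟨⟨q.E_Q0 l (li_e F) n1 1, q.E_sq ..⟩, q.E_Q0 l (li_e' F) (sm r m1) 1, q.E_sq ..⟩, ?_⟩
  rw [commutatorElement_def, conj_E, q.E_fix on.1 (q.o' l.o) on.2, q.E_ap on.1, q.E_inv, q.E_mul (by simp [om.2, q.o' l.o, on.2]) (by simp [om.2]),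
    ← mul_zero (r ^ 2), ← q.E_smul l.o, ← q.E_sw (by simp [l.o])]
  simp [q.o' om.1, q.sy m n, o, q.bb, om.1, add_right_comm (r • m) (r • e), vv F, CharTwo.add_self_eq_zero]

/-- `m ∉ ℓ`: `g = g * 1`.  `m ∈ ℓ`: `E(e, m, s) = E(e, n, 0) E(e, n + m, s)` with `n ∈ ℓ^⊥ ∖ ℓ`.  `fu_E`, `fu_mono`, `fx_le`. -/
theorem e1_gen (l : Ln B e e') (hg : g ∈ E1 q e e') : ∃ a ∈ E1 q e e', ∃ b ∈ E1 q e e', Fu 𝐂[E B e e' 1] a ∧ Fu 𝐂[E B e e' 1] b ∧ g = a * b := by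
  obtain ⟨m, s, a, b, rfl⟩ := hg
  obtain ⟨n, n1, n2⟩ := q.exists_n (e := e) (e' := e') m
  have o := mem_pp2.1 n1
  have n3 := add_mem n1 (mem_pp2.2 ⟨a, b⟩)
  have o' := mem_pp2.1 n3
  refine ⟨_, ⟨n, 0, o.1, o.2, rfl⟩, _, ⟨n + m, s + B n m, o'.1, o'.2, rfl⟩,
    fu_mono (fx_le e e' 1) (q.fu_E (q.li_le l) (fr2 ..) (li_e F) n1 (fun k => n2 (Submodule.mem_sup_left k)) _),
    fu_mono (fx_le e e' 1) (q.fu_E (q.li_le l) (fr2 ..) (li_e F) n3 (fun k => n2 ((add_mem_cancel_right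
      (Submodule.mem_sup_right (Submodule.mem_span_singleton_self m))).1 (Submodule.mem_sup_left k))) _), ?_⟩
  rw [q.E_mul o.1 o'.1, ← add_assoc, vv F, zero_add, zero_add, map_add, q.bb, zero_add, add_assoc, CharTwo.add_self_eq_zero, add_zero]

/-- Let `w x = x + y`, `y ∈ ℓ ∖ ⟨e⟩` (`q0_of`), so `x ∉ ℓ`.  `τ_{x + y} τ_x = E(y, x, 1) ∈ N`.  Conjugate by `E(e, f, 0) ∈ C(z)` (`E_comm`), `f ⊥ e, x`, `B(y, f) = 1`: `E(y + e, x, 1) ∈ N`; the product is `E(e, x + y, 1)`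
(`eq_of_nv`).  `fx_tr`: `E(e, x' + y, 1) ∈ N` for `x' ∈ ℓ^⊥`, `B(x, x') = 1`.  Its conjugate by `E(y, x, 1)` is `E(e, x', 1)`; `E_inj` gives `y ∈ ⟨e⟩`. -/
theorem e1_aux (l : Ln B e e') (hN : ∀ x ∈ N, x * x = 1) (n : 𝐂[E B e e' 1] ≤ 𝐍(N)) (hw : w ∈ N) (wz : w ∈ fx B (li F e e'))
    (hx : x ∈ pp B (li F e e')) : nv w x ∈ F ∙ e := by
  have two : (2 : F) = 0 := two0
  have hy := q.q0_of l (fun ⟨x, hx⟩ => ⟨1, Subtype.ext (by simpa [pow_two] using hN x hx)⟩) n hw (fx_le e e' 1 wz) (hN w hw) hx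
  have m := tau_mem q n hw (hN w hw) hx
  by_contra ye
  have xl : x ∉ li F e e' := fun k => ye (by rw [nv_zero.2 (wz x k)]; exact zero_mem _)
  rw [ap_eq] at m
  generalize nv w x = y at hy m ye
  have yx := hx y hy
  have ex := hx e (li_e F)
  have ey := q.li_le l hy e (li_e F)
  have e1 : E B (x + y) 0 1 * E B x 0 1 = E B y x 1 := eq_of_nv fun v => by
    simp only [nv_mul', q.nv_E (map_zero _), q.nv_E yx, map_add, map_smul, map_zero, LinearMap.smul_apply, LinearMap.add_apply, LinearMap.zero_apply, smul_zero, add_zero, q.bb, q.o' yx]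
    match_scalars <;> grind
  rw [e1] at m
  obtain ⟨f, f1, f2⟩ := q.exists_pp (U := Submodule.span F {e, x}) (x := y) (fun k => by
    obtain ⟨a, b, rfl⟩ := Submodule.mem_span_pair.1 k
    rw [smul_nmem xl ((add_mem_cancel_left (Submodule.smul_mem _ a (li_e F))).1 hy), zero_smul, add_zero] at ye
    exact ye (sm_self a e)) 1
  have f1 := mem_pp2.1 f1
  have m1 := mul_mem m (conj_mem_of_norm (n (memC (q.E_comm f1.1 l.o 0 1))) m)
  have o : B e (x + y) = 0 := by rw [map_add, ex, ey, add_zero]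
  have e2 : E B y x 1 * (E B e f 0 * E B y x 1 * (E B e f 0)⁻¹) = E B e (x + y) 1 := eq_of_nv fun v => by
    rw [conj_E, q.E_fix f1.1 (q.o' ex) f1.2, q.E_ap f1.1, q.o' ey, f2]
    simp only [zero_smul, add_zero, zero_mul, one_smul]
    simp only [nv_mul', q.nv_E yx, q.nv_E o, q.nv_E (show B (y + e) x = 0 by simp [yx, ex]), map_add, map_smul, LinearMap.smul_apply, LinearMap.add_apply, q.bb,
      q.o' yx, yx, ey, ex, smul_zero, add_zero]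
    match_scalars <;> grind
  rw [e2] at m1
  obtain ⟨x', x1, x2⟩ := q.exists_pp xl 1
  obtain ⟨g, hg, e3⟩ := q.fx_tr hx xl x1 fun k => zero_ne_one ((q.o' (hx x' k)).symm.trans x2)
  have m2 := conj_mem_of_norm (n (fx_le e e' 1 hg)) m1
  rw [conj_E, hg e (li_e F), map_add, e3, hg y hy] at m2
  have c := hN _ (mul_mem m m2)
  rw [← mul_assoc, mul_eq_one_iff_eq_inv, q.E_inv] at c
  nth_rewrite 2 [← q.E_inv y] at c
  rw [conj_E, q.E_fix yx ey ex, q.E_ap yx] at c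
  have ex' := x1 e (li_e F)
  have := (q.E_inj l.ne (by simp [ex', ey, ex]) (by simp [ex', ey]) c).1
  simp only [map_add, LinearMap.add_apply, q.bb, q.o' (x1 y hy), q.sy x' x, x2, yx, add_zero, zero_smul, mul_zero, one_smul] at this
  exact ye (by rwa [add_right_comm, vv F, zero_add] at this)

/-- `v ⊥ e`, `B(e', v) = 1`.  For `w' ∈ N ⊓ fx ℓ`: `N_{w'} v ∈ ℓ^⊥⊥ = ℓ` (`e1_aux`, `nv_sym`), `κ w' = B(v, N_{w'} v)` is additive and invariant under conjugation by `h ∈ C(z)` (`h⁻¹ v + v ∈ ℓ^⊥`; `h` preserves `ℓ`).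
So `κ w = κ w + κ w`, `N_w v ∈ ⟨e⟩`, `N_w e^⊥ ≤ ⟨e⟩`; `mem_pointRad_of`; `w e' = e'` gives `m ⊥ e'`. -/
theorem e1_of (l : Ln B e e') (hN : ∀ x ∈ N, x * x = 1) (n : 𝐂[E B e e' 1] ≤ 𝐍(N)) (hw : w ∈ N) (h : Fu 𝐂[E B e e' 1] w) : w ∈ E1 q e e' := by
  have wz := q.fu_fx l h
  have w2 := hN w hw
  have A := fun {x} => q.e1_aux l hN n hw wz (x := x)
  obtain ⟨v, v1, v2⟩ := q.exists_pp l.nm 1
  have v0 := mem_pp1.1 v1
  have hv : nv w v ∈ li F e e' := (q.pp_pp _).le fun u hu => by rw [← nv_sym w2]; exact v1 _ (A hu)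
  have cj : ∀ g ∈ 𝐂[E B e e' 1], nv (g * w * g⁻¹) v ∈ li F e e' ∧ B v (nv (g * w * g⁻¹) v) = B v (nv w v) := fun g hg => by
    have u : nv g⁻¹ v ∈ pp B (li F e e') := fun x hx => by
      rw [nv_apply, map_sub, ← bil_left, ap_eq, map_add, LinearMap.add_apply, v1 _ (q.cz_nv l hg hx), add_zero, sub_self]
    rw [nv_cj, ← bil_ap g⁻¹, inv_ap, ap_eq g⁻¹, map_add]
    refine ⟨q.cz_li l g hg _ (add_mem hv (e_li (A u))), ?_⟩
    simp only [map_add, LinearMap.add_apply, q.o' (v1 _ (A u)), q.o' (u _ hv), q.o' (u _ (e_li (A u))), add_zero]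
  obtain ⟨-, -, a, ha, b, hb, k⟩ := h
  have z := (cj b hb).2
  rw [k, nv_mul', nv_zero.2 (wz _ (cj a ha).1), add_zero, map_add, (cj a ha).2, CharTwo.add_self_eq_zero] at z
  obtain ⟨c, d, e1⟩ := Submodule.mem_span_pair.1 hv
  rw [← e1] at z
  rw [map_add, map_smul, map_smul, q.o' v0, q.sy v, v2, smul_zero, zero_add, smul_eq_mul, mul_one] at z
  subst z
  obtain ⟨m, s, o, rfl⟩ := mem_pointRad_of q.alt q.nd l.ne (wz e (li_e F)) fun x hx => by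
    obtain ⟨d, e2⟩ := Submodule.mem_span_singleton.1 (A (x := x + B e' x • v) (mem_pp2.2 ⟨by simp [q.o' hx, v0], by simp [v2, CharTwo.add_self_eq_zero]⟩))
    rw [map_add, map_smul, ← e1, zero_smul, add_zero, smul_smul, ← sub_eq_iff_eq_add, ← sub_smul] at e2
    exact ⟨_, by rw [ap_eq, e2]⟩
  rw [← q.E_eq] at wz ⊢
  have := nv_zero.2 (wz e' (li_e' F))
  rw [q.nv_E o, q.o' l.o] at this
  exact ⟨m, s, o, by simpa [l.ne] using this, rfl⟩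

end Sq

end Cfsg.Lib.SD
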