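import Cfsg.Agent.Lib.SD.C1

/-!
# SD: the class `c₂`: the field with two elements, and the parity count.  Notation as in `C1`.
-/

set_option autoImplicit false
set_option linter.unusedSectionVars false

namespace Cfsg.Lib.SD

open Subgroup Cfsg.Lib.BG Cfsg.Lib.Symp Cfsg.Lib.OD Module
open scoped Cfsg.Lib.Transfer commutatorElement

variable {F V : Type*} [Field F] [Finite F] [CharP F 2] [AddCommGroup V] [Module F V] [FiniteDimensional F V] {B : LinearMap.BilinForm F V}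
  {a b : isom B} {e e' m : V} {r s : F} {θ : MulAut (isom B)} {U : Subgroup (isom B)}

/-- The seven-term identity of a quadratic function. -/
theorem quad7 {M : Type*} [Mul M] (s : M → F) (β : M → M → F) (a b c : M) (h1 : s (a * b) = s a + s b + β a b) (h2 : s (a * c) = s a + s c + β a c)
    (h3 : s (b * c) = s b + s c + β b c) (h4 : s (a * b * c) = s (a * b) + s c + (β a c + β b c)) :
    s a + s b + s c + s (a * b) + s (a * c) + s (b * c) + s (a * b * c) = 0 := by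
  have two : (2 : F) = 0 := two0
  grind

namespace Sq
variable (q : Sq B)
include q

/-- `wv_ln`, `wv_b1`, `al_E`, `E_of_mem`. -/
theorem c2_E (h0 : e ≠ 0) (h : B e m = 0) : C2 (E B e m s) ↔ m ∉ F ∙ e ∧ s ≠ 0 := by
  refine ⟨fun ⟨y, n, r, l, hr, k⟩ => ⟨fun hm => ?_, fun hs => hr ((q.al_E l.ne l.o).1 (k ▸ (q.al_E h0 h).2 hs))⟩, fun k => ⟨e, m, s, ⟨h0, k.1, h⟩, k.2, rfl⟩⟩
  have := Submodule.finrank_mono (q.wv_E' (Submodule.mem_span_singleton_self e) hm s)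
  rw [k, q.wv_ln l, q.fr_ln l] at this
  have := fr1 (F := F) e
  omega

/-- Fix `f`, `B(f, e) = 1`; `s a = B(f, N_a f)` is the `s` of `a = E(e, m, s)`, `β a b = B(N_a f, N_b f) = B(m, m')` (`E_mul`).  `dim V ≥ 8` (`big`).  Let `m₀` be the `m` of the element `a₀ ∈ E1` with `γ a₀ = z E(e, 0, 1)`
(`m₀ = 0` if there is none).  For `a = E(e, m, s)`, `m ∉ A = ℓ + ⟨m₀⟩`: `z γ a = E(e, e' + m', 1 + s')` is not `1` or `E(e, 0, 1)`, so `e' + m' ∉ ⟨e⟩`; `c2_E` twice: `s a + s (γ a) = 1`.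
Take `m₁ ∈ ℓ^⊥ ∖ A`, `m₂ ∉ A + ⟨m₁⟩`, `m₃ ∉ A + ⟨m₁, m₂⟩` (dimensions `6 > 5`); `quad7` for `s` and `s ∘ γ`: `7 = 0`. -/
theorem q2_false (l : Ln B e e') (h2 : ∀ c : F, c = 0 ∨ c = 1) (γ : isom B → isom B) (hm : ∀ a ∈ E1 q e e', γ a ∈ E1 q e e')
    (mul : ∀ a ∈ E1 q e e', ∀ b ∈ E1 q e e', γ (a * b) = γ a * γ b) (inj : ∀ a ∈ E1 q e e', ∀ b ∈ E1 q e e', γ a = γ b → a = b)
    (hz : γ (E B e e' 1) = E B e e' 1)
    (h : ∀ a ∈ E1 q e e', (a = 1 ∨ C2 a) ↔ (E B e e' 1 * γ a = 1 ∨ C2 (E B e e' 1 * γ a))) : False := by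
  have two : (2 : F) = 0 := two0
  have mE : ∀ {m} (s : F), m ∈ pp B (li F e e') → E B e m s ∈ E1 q e e' := fun s k => ⟨_, s, (mem_pp2.1 k).1, (mem_pp2.1 k).2, rfl⟩
  have ee : e ∈ li F e e' := Submodule.subset_span (by simp)
  have ee' : e' ∈ li F e e' := Submodule.subset_span (by simp)
  have el : F ∙ e ≤ li F e e' := (Submodule.span_singleton_le_iff_mem _ _).2 ee
  obtain ⟨m₀, h0⟩ : ∃ m₀, ∀ m ∈ pp B (li F e e'), ∀ s, γ (E B e m s) = E B e e' 1 * E B e 0 1 → m₀ + m ∈ F ∙ e := by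
    by_cases k : ∃ m ∈ pp B (li F e e'), ∃ s, γ (E B e m s) = E B e e' 1 * E B e 0 1
    · obtain ⟨m₀, a, s₀, b⟩ := k
      exact ⟨m₀, fun m hm s c => (q.E_inj l.ne (mem_pp2.1 a).1 (mem_pp2.1 hm).1 (inj _ (mE _ a) _ (mE _ hm) (b.trans c.symm))).1⟩
    · exact ⟨0, fun m hm s c => absurd ⟨m, hm, s, c⟩ k⟩
  have key : ∀ m s n r, m ∈ pp B (li F e e') → m ∉ li F e e' ⊔ F ∙ m₀ → n ∈ pp B (li F e e') → γ (E B e m s) = E B e n r → s + r = 1 := by
    intro m s n r hm hm' hn k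
    have a := h _ (mE s hm)
    have o := (mem_pp2.1 hm).1
    have o' := mem_pp2.1 hn
    have m1 : m ∉ F ∙ e := fun c => hm' (Submodule.mem_sup_left (el c))
    have n1 : e' + n ∉ F ∙ e := fun c => by
      have z := q.E_mul l.o o'.1 1 r
      rw [q.E_of_mem c, o'.2, add_zero, ← k, ← eq_inv_mul_iff_mul_eq, q.E_inv] at z
      rcases h2 (1 + r) with b | b <;> rw [b] at z
      · rw [q.E_zero, mul_one, ← hz] at z
        exact hm' (Submodule.mem_sup_left ((add_mem_cancel_right ee').1 (el (q.E_inj l.ne o l.o (inj _ (mE s hm) _ (mE 1 (q.li_le l ee')) z)).1)))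
      · exact hm' ((add_mem_cancel_left (Submodule.mem_sup_right (Submodule.mem_span_singleton_self m₀))).1 (Submodule.mem_sup_left (el (h0 m hm s z))))
    have o2 : B e (e' + n) = 0 := by rw [map_add, l.o, o'.1, add_zero]
    rw [k, q.E_mul l.o o'.1, o'.2, add_zero, q.c2_E l.ne o, q.c2_E l.ne o2, or_iff_right (q.E_ne ⟨l.ne, m1, o⟩ _), or_iff_right (q.E_ne ⟨l.ne, n1, o2⟩ _),
      and_iff_right m1, and_iff_right n1] at a
    rcases h2 s with rfl | rfl <;> rcases h2 r with rfl | rfl <;> simp_all [CharTwo.add_self_eq_zero]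
  have d8 := q.big.resolve_right fun ⟨c, a, b⟩ => (h2 c).elim a b
  have f0 := q.fr_pp (li F e e')
  have f1 : finrank F (li F e e') ≤ 2 := fr2 e e'
  have f2 := fr_sup (li F e e') m₀
  generalize li F e e' ⊔ F ∙ m₀ = A at key f2
  obtain ⟨a, a1, a2⟩ := exists_nmem (U := pp B (li F e e')) (U' := A) (by omega)
  have f3 := fr_sup A a
  obtain ⟨b, b1, b2⟩ := exists_nmem (U := pp B (li F e e')) (U' := A ⊔ F ∙ a) (by omega)
  have f4 := fr_sup (A ⊔ F ∙ a) b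
  obtain ⟨c, c1, c2⟩ := exists_nmem (U := pp B (li F e e')) (U' := (A ⊔ F ∙ a) ⊔ F ∙ b) (by omega)
  have ms := Submodule.mem_span_singleton_self (R := F) (M := V)
  have L := fun {A B : Submodule F V} {x} => Submodule.mem_sup_left (S := A) (T := B) (x := x)
  have R := fun {A B : Submodule F V} {x} => Submodule.mem_sup_right (S := A) (T := B) (x := x)
  have ex : ∀ m ∈ pp B (li F e e'), ∃ n ∈ pp B (li F e e'), ∃ r, γ (E B e m 0) = E B e n r := fun m k =>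
    let ⟨n, r, x, y, z⟩ := hm _ (mE 0 k); ⟨n, mem_pp2.2 ⟨x, y⟩, r, z⟩
  have ml : ∀ {m s n r m' s' n' r'}, m ∈ pp B (li F e e') → n ∈ pp B (li F e e') → m' ∈ pp B (li F e e') → n' ∈ pp B (li F e e') →
      γ (E B e m s) = E B e n r → γ (E B e m' s') = E B e n' r' → γ (E B e (m + m') (s + s' + B m m')) = E B e (n + n') (r + r' + B n n') :=
    fun k1 k2 k3 k4 x y => by
      rw [← q.E_mul (mem_pp2.1 k1).1 (mem_pp2.1 k3).1, ← q.E_mul (mem_pp2.1 k2).1 (mem_pp2.1 k4).1, mul _ (mE _ k1) _ (mE _ k3), x, y]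
  obtain ⟨a', a3, r1, e1⟩ := ex a a1
  obtain ⟨b', b3, r2, e2⟩ := ex b b1
  obtain ⟨c', c3, r3, e3⟩ := ex c c1
  have k1 := key _ _ _ _ a1 a2 a3 e1
  have k2 := key _ _ _ _ b1 (fun k => b2 (L k)) b3 e2
  have k3 := key _ _ _ _ c1 (fun k => c2 (L (L k))) c3 e3
  have k4 := key _ _ _ _ (add_mem a1 b1) (fun k => b2 ((add_mem_cancel_left (R (ms _))).1 (L k))) (add_mem a3 b3) (ml a1 a3 b1 b3 e1 e2)
  have k5 := key _ _ _ _ (add_mem a1 c1) (fun k => c2 ((add_mem_cancel_left (L (R (ms _)))).1 (L (L k)))) (add_mem a3 c3) (ml a1 a3 c1 c3 e1 e3)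
  have k6 := key _ _ _ _ (add_mem b1 c1) (fun k => c2 ((add_mem_cancel_left (R (ms _))).1 (L (L k)))) (add_mem b3 c3) (ml b1 b3 c1 c3 e2 e3)
  have k7 := key _ _ _ _ (add_mem (add_mem a1 b1) c1) (fun k => c2 ((add_mem_cancel_left (add_mem (L (R (ms _))) (R (ms _)))).1 (L (L k))))
    (add_mem (add_mem a3 b3) c3) (ml (add_mem a1 b1) (add_mem a3 b3) c1 c3 (ml a1 a3 b1 b3 e1 e2) e3)
  simp only [map_add, LinearMap.add_apply] at k7
  exact one_ne_zero (by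
    linear_combination -(k1 + k2 + k3 + k4 + k5 + k6 + k7) + (2 * r1 + 2 * r2 + 2 * r3 + B a b + B a c + B b c + B a' b' + B a' c' + B b' c' - 3) * two : (1 : F) = 0)

/-- `U` fixes `e ≠ 0`, `E(e, 0, s) ∈ U` (`E_mem`); `ind_E`, `E_one_inj`, `E_inj`. -/
theorem fld_of_fix (M : Sm B) (hU : Syl 2 U ⊤) (h : ∀ x ∈ U, θ x = x) : M.σ θ = 1 := by
  have := q.nt
  obtain ⟨e, -, e0, he⟩ := exists_fix (F := F) hU.pgroup (A := ⊥) (A' := ⊤) bot_lt_top
    (fun p _ x hx => by rw [(Submodule.mem_bot F).1 hx, map_zero]; exact zero_mem _) fun _ _ _ _ => trivial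
  have k : ∀ s, E B (M.T θ e) 0 (M.σ θ s) = E B e 0 s := fun s => by
    rw [← h _ (q.E_mem (y := e) (m := 0) (s := s) hU (fun p hp => nv_zero.1 (he p hp)) (map_zero _) trivial), q.ind_E (M.ind' θ) (map_zero _), M.zero]
  have := k 1
  rw [map_one] at this
  rw [q.E_one_inj (map_zero _) (map_zero _) this] at k
  refine RingEquiv.ext fun s => ?_
  have := (q.E_inj e0 (map_zero _) (map_zero _) (k s)).2
  rw [map_zero, add_zero] at this
  exact CharTwo.add_eq_zero.1 this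

omit q in
/-- `1 + (|K| - 1)²`, `|K|` even; or a fixed point free involution: `(r, s) ↦ (r, s + 1)` if `s ≠ 0, 1`, `(r, 1) ↦ (r + 1, 1)` if `r ≠ 1`, `(1, 1) ↔ (0, 0)`. -/
theorem _root_.Cfsg.Lib.SD.even_pairs (K : Set F) (h : ∀ r ∈ K, r + 1 ∈ K) (h0 : 0 ∈ K) :
    Even (Nat.card {x : F × F // x.1 ∈ K ∧ x.2 ∈ K ∧ (x = 0 ∨ x.1 ≠ 0 ∧ x.2 ≠ 0)}) := by
  classical
  have := Fintype.ofFinite K
  let f : Function.End K := fun r : K => (⟨r + 1, h _ r.2⟩ : K)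
  have a := Equiv.Perm.card_fixedPoints_modEq (f := f) (p := 2) (n := 1)
    (funext fun r => Subtype.ext (show (r : F) + 1 + 1 = r by rw [add_assoc, CharTwo.add_self_eq_zero, add_zero]))
  have z : Fintype.card (Function.fixedPoints f) = 0 := Fintype.card_eq_zero_iff.2 ⟨fun ⟨r, hr⟩ => by simpa [f] using congrArg Subtype.val hr⟩
  rw [z, ← Nat.card_eq_fintype_card, Nat.card_coe_set_eq, ← Set.ncard_diff_singleton_add_one h0] at a
  have e : {x : F × F | x.1 ∈ K ∧ x.2 ∈ K ∧ (x = 0 ∨ x.1 ≠ 0 ∧ x.2 ≠ 0)} = insert 0 ((K \ {0}) ×ˢ (K \ {0})) := Set.ext fun x => by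
    by_cases c : x = 0
    · simp [c, h0]
    · simp [c]; tauto
  change Even (Nat.card {x : F × F | x.1 ∈ K ∧ x.2 ∈ K ∧ (x = 0 ∨ x.1 ≠ 0 ∧ x.2 ≠ 0)})
  rw [e, Nat.card_coe_set_eq, Set.ncard_insert_of_notMem (by simp), Set.ncard_prod]
  have o : Odd (K \ {0}).ncard := Nat.odd_iff.2 (by unfold Nat.ModEq at a; omega)
  exact (o.mul o).add_one

/-- `exists_fixT` twice: `e ≠ 0` fixed by `S`, `e' ∈ e^⊥ ∖ ⟨e⟩` fixed modulo `e`.  An involution `x` fixed by `S` centralizes `U` (`Sm.cj`); `E_mem`, `eq_E`: `x = E(e, m, s)`.  `E(e', n, 0) ∈ U` for `n ∈ ℓ^⊥`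
(`chain` with `⊥, ⊥, ℓ, ℓ^⊥`): `B(m, n) e' + B(m, e') n ∈ ⟨e⟩` (`E_inj`); `n ∉ ℓ` gives `m ⊥ e'`, then `m ∈ ℓ^⊥⊥`.  So `x = E(e, r e', s)`, `θ x = E(e, σ r e', σ s)`.  `(r, s) ↦ E(e, r e', s)` is a bijection from the set of
`even_pairs` with `K = {r | ∀ θ ∈ S, σ θ r = r}` (`E_inj`, `c2_E`). -/
theorem even_cnt (M : Sm B) {S : Subgroup (MulAut (isom B))} (hS : IsPGroup 2 S) (hU : Syl 2 U ⊤) (h : ∀ x ∈ U, MulAut.conj x ∈ S) :
    Even (Nat.card {x : isom B // (∀ θ ∈ S, θ x = x) ∧ (x = 1 ∨ C2 x)}) := by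
  have := q.nt
  obtain ⟨e, -, e0, he⟩ := exists_fixT hS M.T M.add (A := (⊥ : Submodule F V)) (A' := ⊤) bot_lt_top
    (fun θ _ x hx => by rw [(Submodule.mem_bot F).1 hx]; exact M.zero _) fun _ _ _ _ => trivial
  replace he : ∀ θ ∈ S, M.T θ e = e := fun θ hθ => sub_eq_zero.1 ((sub_eq F _ _).trans (he θ hθ))
  have d := q.dim
  obtain ⟨e', o, e1, he'⟩ := exists_fixT hS M.T M.add (A := F ∙ e) (A' := pp B (F ∙ e))
    (lt_of_le_of_ne ((Submodule.span_singleton_le_iff_mem _ _).2 (mem_pp1.2 (q.bb e))) fun k => by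
      have := q.fr_pp (F ∙ e)
      have := fr1 (F := F) e
      rw [← k] at *
      omega) (fun θ hθ x => M.span_inv (he θ hθ)) fun θ hθ x hx => mem_pp1.2 (M.o_inv (he θ hθ) (mem_pp1.1 hx))
  have l : Ln B e e' := ⟨e0, e1, mem_pp1.1 o⟩
  have or : ∀ r : F, B e (r • e') = 0 := fun r => by simp [l.o]
  have ac : ∀ θ ∈ S, ∀ r s : F, θ (E B e (r • e') s) = E B e (M.σ θ r • e') (M.σ θ s) := fun θ hθ r s => by
    obtain ⟨c, hc⟩ := Submodule.mem_span_singleton.1 (he' θ hθ)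
    rw [q.ind_E (M.ind' θ) (or r), he θ hθ, M.smul, ← q.E_add_smul (or _) (M.σ θ r * c), mul_smul, hc, ← smul_add, add_comm (M.T θ e'), ← add_assoc,
      vv F, zero_add]
  have inj : ∀ {r s r' s' : F}, E B e (r • e') s = E B e (r' • e') s' → r = r' ∧ s = s' := fun k => by
    obtain ⟨a, b⟩ := q.E_inj e0 (or _) (or _) k
    rw [← add_smul] at a
    exact ⟨CharTwo.add_eq_zero.1 (smul_nmem e1 a), CharTwo.add_eq_zero.1 (by simpa [q.bb] using b)⟩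
  have one : E B e ((0 : F) • e') 0 = 1 := by rw [zero_smul, q.E_zero]
  have iff : ∀ x : F × F, (x.1 ∈ {r | ∀ θ ∈ S, M.σ θ r = r} ∧ x.2 ∈ {r | ∀ θ ∈ S, M.σ θ r = r} ∧ (x = 0 ∨ x.1 ≠ 0 ∧ x.2 ≠ 0)) ↔
      (∀ θ ∈ S, θ (E B e (x.1 • e') x.2) = E B e (x.1 • e') x.2) ∧ (E B e (x.1 • e') x.2 = 1 ∨ C2 (E B e (x.1 • e') x.2)) := fun x => by
    rw [← and_assoc, q.c2_E e0 (or _)]
    refine and_congr ⟨fun k θ hθ => by rw [ac θ hθ, k.1 θ hθ, k.2 θ hθ], fun k =>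
      ⟨fun θ hθ => (inj ((ac θ hθ _ _).symm.trans (k θ hθ))).1, fun θ hθ => (inj ((ac θ hθ _ _).symm.trans (k θ hθ))).2⟩⟩
      (or_congr ⟨by rintro rfl; exact one, fun k => Prod.ext (inj (k.trans one.symm)).1 (inj (k.trans one.symm)).2⟩ (and_congr_left' ?_))
    exact ⟨fun k c => k (smul_nmem e1 c), fun k c => k (by rw [c, zero_smul]; exact zero_mem _)⟩
  rw [← Nat.card_eq_of_bijective (fun x : {x : F × F // x.1 ∈ {r | ∀ θ ∈ S, M.σ θ r = r} ∧ x.2 ∈ {r | ∀ θ ∈ S, M.σ θ r = r} ∧ (x = 0 ∨ x.1 ≠ 0 ∧ x.2 ≠ 0)} =>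
    (⟨E B e (x.1.1 • e') x.1.2, (iff x.1).1 x.2⟩ : {x : isom B // (∀ θ ∈ S, θ x = x) ∧ (x = 1 ∨ C2 x)}))
    ⟨fun x y k => let z := inj (r := x.1.1) (s := x.1.2) (r' := y.1.1) (s' := y.1.2) (congrArg Subtype.val k); Subtype.ext (Prod.ext z.1 z.2), ?_⟩]
  · exact even_pairs _ (fun r k θ hθ => by rw [map_add, k θ hθ, map_one]) fun θ _ => map_zero _
  rintro ⟨x, h1, h2⟩
  have cm : ∀ p ∈ U, p * x * p⁻¹ = x := fun p hp => h1 _ (h p hp)
  have pe : ∀ p ∈ U, p.1 e = e := fun p hp => (M.cj p e).symm.trans (he _ (h p hp))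
  obtain ⟨m, s, hm, rfl⟩ := q.eq_E e0 (h2.elim (fun k => by rw [k, mul_one]) fun k => q.rt_sq (.inr (.inr k))) fun m s k =>
    (mul_inv_eq_iff_eq_mul.1 (cm _ (q.E_mem hU pe k trivial))).symm
  have ee : e ∈ li F e e' := Submodule.subset_span (by simp)
  have ee' : e' ∈ li F e e' := Submodule.subset_span (by simp)
  have el : F ∙ e ≤ li F e e' := (Submodule.span_singleton_le_iff_mem _ _).2 ee
  have il : ∀ p ∈ U, ∀ x ∈ li F e e', p.1 x ∈ li F e e' := fun p hp x hx => by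
    obtain ⟨a, b, rfl⟩ := Submodule.mem_span_pair.1 hx
    have := he' _ (h p hp)
    rw [M.cj] at this
    rw [map_add, map_smul, map_smul, pe p hp]
    exact add_mem (Submodule.smul_mem _ _ ee) (Submodule.smul_mem _ _ ((add_mem_cancel_right ee').1 (el this)))
  have key : ∀ n ∈ pp B (li F e e'), B m e' • n + B m n • e' ∈ F ∙ e := fun n hn => by
    have o := mem_pp2.1 hn
    have := cm _ (q.chain hU (A := ⊥) (A' := ⊥) le_rfl bot_le (q.li_le l) (by rw [q.pp_pp]; exact q.li_le l)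
      (fun p _ x hx => by rw [(Submodule.mem_bot F).1 hx, map_zero]; exact zero_mem _) (fun p _ x hx => by rw [(Submodule.mem_bot F).1 hx, map_zero]; exact zero_mem _)
      il (pp_inv il) (g := E B e' n 0) trivial (fun x hx => by rw [(Submodule.mem_bot F).1 hx, map_zero]) (fun x hx => by rw [(Submodule.mem_bot F).1 hx, map_zero]; exact zero_mem _)
      (fun x hx => by rw [q.nv_E o.2, hn x hx, q.li_le l ee' x hx]; simp) fun x hx => by
        rw [q.nv_E o.2, q.o' (mem_pp2.1 hx).2, zero_smul, zero_add]; exact Submodule.smul_mem _ _ ee')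
    rw [conj_E, q.E_fix o.2 l.o o.1] at this
    have k := (q.E_inj e0 (by rw [← q.E_fix (s := 0) o.2 l.o o.1, bil_ap, hm]) hm this).1
    rwa [q.E_ap o.2, zero_mul, add_zero, add_assoc m, add_right_comm, vv F, zero_add] at k
  obtain ⟨n, n1, n2⟩ := exists_nmem (U := pp B (li F e e')) (U' := li F e e') (by
    have := q.fr_pp (li F e e')
    have : finrank F (li F e e') ≤ 2 := fr2 e e'
    omega)
  have z := smul_nmem n2 ((add_mem_cancel_right (Submodule.smul_mem _ _ ee')).1 (el (key n n1)))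
  obtain ⟨a, r, rfl⟩ := Submodule.mem_span_pair.1 ((q.pp_pp (li F e e')).le fun n hn => q.o' (smul_nmem e1 (by simpa [z] using key n hn)) : m ∈ _)
  have z : E B e (a • e + r • e') s = E B e (r • e') s := by rw [add_comm, q.E_add_smul (or r)]
  exact ⟨⟨(r, s), (iff _).2 (z ▸ ⟨h1, h2⟩)⟩, Subtype.ext z.symm⟩

end Sq

/-- `Δ = {a ~ t, a ∈ T, T ≤ C(a)}`.  `N(T)` is transitive on `Δ` (`T` and a conjugate are Sylow in `C(a)`: `Syl.of_card_le'`, Sylow conjugacy), the stabilizer of `t` is `N(T) ⊓ C(t)`, in which `T` is Sylow.  So `T` is not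
Sylow in `N(T)` (else `|Δ|` divides the odd index); `S > T` Sylow in `N(T)`, `g ∈ S ∖ T` with `g² ∈ T` (`sq` in `OD.Mx.swap`); `g ∈ C(t)` would give `S ⊓ C(t) > T`. -/
theorem swap2 {G : Type*} [Group G] [Finite G] {t : G} {T : Subgroup G} (hT : Syl 2 T 𝐂[t]) (t2 : t * t = 1)
    (h : Even (Nat.card {a : G // IsConj t a ∧ a ∈ T ∧ T ≤ 𝐂[a]})) :
    ∃ g d : G, d ≠ t ∧ d ∈ T ∧ T ≤ 𝐂[d] ∧ g * t * g⁻¹ = d ∧ g * d * g⁻¹ = t := by
  have tT : t ∈ T := hT.ge_of_norm_p' (zpowers_le.2 (self_mem_cent1 t)) (pg_inv t2) (norm_of_cent (zpowers_le.2 (le_cent1_iff.1 hT.le))) (mem_zpowers t)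
  let Ω := {a : G // IsConj t a ∧ a ∈ T ∧ T ≤ 𝐂[a]}
  let _ : MulAction 𝐍(T) Ω :=
    { smul := fun n a => ⟨n * a * n⁻¹, a.2.1.trans (isConj_iff.2 ⟨_, rfl⟩), conj_mem_of_norm n.2 a.2.2.1, by
        rw [coe_inv, ← conj_cent1]; exact (conj_eq_of_norm n.2).ge.trans (Transfer.conj_mono _ a.2.2.2)⟩
      one_smul := fun a => Subtype.ext (show (1 : G) * a * 1⁻¹ = a by simp)
      mul_smul := fun n n' a => Subtype.ext (show (n * n' : G) * a * (n * n' : G)⁻¹ = n * (n' * a * (n' : G)⁻¹) * (n : G)⁻¹ by group) }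
  let t₀ : Ω := ⟨t, .refl t, tT, hT.le⟩
  have tr : MulAction.IsPretransitive 𝐍(T) Ω := .of_orbit (x₀ := t₀) fun ⟨a, a1, _, a3⟩ => by
    obtain ⟨c, rfl⟩ := isConj_iff.1 a1
    have s := Hall.conj hT c
    rw [conj_cent1] at s
    obtain ⟨g, hg, e⟩ := Syl.exists_conj_eq s (Syl.of_card_le' s hT.pgroup a3 (Transfer.card_conj c T).le)
    refine ⟨⟨g * c, Transfer.conj_eq_self_iff.1 (by rw [← Transfer.conj_conj, ← e])⟩, Subtype.ext ?_⟩
    change g * c * t * (g * c)⁻¹ = c * t * c⁻¹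
    rw [← mul_inv_eq_iff_eq_mul.2 (mem_cent1.1 hg)]; group
  obtain ⟨S, s1, s2⟩ := Syl.exists_ge hT.pgroup (le_norm T)
  obtain ⟨x, hx, xT⟩ := SetLike.exists_of_lt (s2.lt_of_ne fun k => by
    subst k
    exact s1.not_dvd' ((MulAction.index_stabilizer_of_transitive 𝐍(T) t₀ ▸ h.two_dvd).trans (index_dvd_of_le fun n hn =>
      Subtype.ext (mul_inv_eq_iff_eq_mul.2 (mem_cent1.1 (hT.le hn))))))
  have sq : ∀ k : ℕ, ∀ x ∈ S, x ∉ T → x ^ 2 ^ k ∈ T → ∃ y ∈ S, y ∉ T ∧ y * y ∈ T := fun k => by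
    induction k with
    | zero => exact fun x _ h h' => absurd (by simpa using h') h
    | succ k ih =>
      intro x hx h h'
      by_cases c : x * x ∈ T
      · exact ⟨x, hx, h, c⟩
      · exact ih _ (mul_mem hx hx) c (by rwa [← pow_two, ← pow_mul, ← pow_succ'])
  obtain ⟨k, hk⟩ := s1.pgroup ⟨x, hx⟩
  obtain ⟨g, hg, gT, g2⟩ := sq k x hx xT (by rw [show x ^ 2 ^ k = 1 from congrArg Subtype.val hk]; exact one_mem _)
  have d := ((⟨g, s1.le hg⟩ : 𝐍(T)) • t₀).2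
  refine ⟨g, g * t * g⁻¹, fun e => gT ?_, d.2.1, d.2.2, rfl, ?_⟩
  · rw [hT.eq_of_le_pgroup (le_inf s2 hT.le) inf_le_right s1.pgroup.to_inf_left]
    exact ⟨hg, mem_cent1.2 (mul_inv_eq_iff_eq_mul.1 e)⟩
  · rw [show g * (g * t * g⁻¹) * g⁻¹ = g * g * t * (g * g)⁻¹ by group, mem_cent1.1 (hT.le g2), mul_inv_cancel_right]

end Cfsg.Lib.SD
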