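import Cfsg.Agent.Lib.SD.Main
import Cfsg.Agent.Lib.SD.C2

/-!
# SD: Step 0 for `S3129`: `t ~ t z` with `z` a transvection or a short root element.
-/

set_option autoImplicit false
set_option linter.unusedSectionVars false

namespace Cfsg.Lib.SD

open Subgroup Cfsg.Lib.BG Cfsg.Lib.Symp Cfsg.Lib.OD Module
open scoped Cfsg.Lib.Transfer commutatorElement

variable {F V : Type*} [Field F] [Finite F] [CharP F 2] [AddCommGroup V] [Module F V] [FiniteDimensional F V] {B : LinearMap.BilinForm F V}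
  {G : Type*} [Group G] [Finite G] {ψ : isom B →* G} {t d g : G} {u w a z : isom B} {N T : Subgroup G} {κ : 𝐂[t] →* MulAut (isom B)} {e e' : V}

namespace Cx
variable (c : Cx ψ t N κ)
include c

theorem ka_psi (x : isom B) : κ ⟨ψ x, c.mC x⟩ = MulAut.conj x := MulEquiv.ext fun y => c.inj (by rw [c.ka.ac]; simp)
theorem syl_U (hT : Syl 2 T 𝐂[t]) : ∃ U, Syl 2 U ⊤ ∧ map ψ U = T ⊓ ψ.range := by
  have s := c.ex.syl_inf le_rfl hT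
  rw [inf_eq_left.2 c.ex.LC] at s
  obtain ⟨P, e⟩ := le_map_top (X := ⊤) (s.le.trans (MonoidHom.range_eq_map ψ).le)
  rw [← e, MonoidHom.range_eq_map] at s
  exact ⟨P, (Hall.map_iff c.inj).1 s, e⟩

/-- A conjugate of `t` in the centre of a Sylow `2`-subgroup of `C(t)` is `t` or `t z`, `z` a `2`-central involution of `L`. -/
theorem cen_T (hT : Syl 2 T 𝐂[t]) (h1 : IsConj t d) (h2 : d ∈ T) (h3 : T ≤ 𝐂[d]) : ∃ x, d = t * ψ x ∧ (x = 1 ∨ Rt x) := by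
  obtain ⟨M⟩ := c.q.sm
  obtain ⟨U, hU, e⟩ := c.syl_U hT
  obtain ⟨g, hg⟩ := isConj_iff.1 h1
  have d2 : d * d = 1 := hg ▸ Ex.sq_cj c.st.t2 g
  have dt := mem_cent1.1 (hT.le h2)
  have mT : ∀ x ∈ U, ψ x ∈ T := fun x hx => (e.le ⟨x, hx, rfl⟩).1
  obtain ⟨o, ho⟩ := M.inner (c.q.fld_of_fix M (θ := κ ⟨d, hT.le h2⟩) hU fun x hx => c.inj ((c.ka.ac _ x).trans
    (mul_inv_eq_iff_eq_mul.2 (mem_cent1.1 (h3 (mT x hx))).symm)))
  have k : ∀ x, ψ x * ψ x = 1 → T ≤ 𝐂[ψ x] → x = 1 ∨ Rt x := fun x k1 k2 => c.q.hz hU (c.inj (by rw [map_mul, k1, map_one]))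
    fun y hy => c.inj (by rw [map_mul, map_mul]; exact mem_cent1.1 (k2 (mT y hy)))
  rcases c.q.inr c.st c.ka ⟨d, hT.le h2⟩ d2 ho with ⟨x, hx⟩ | ⟨x, hx⟩
  · replace hx : ψ x = d := hx
    rcases k x (hx ▸ d2) (hx ▸ h3) with rfl | r
    · exact absurd (by rwa [← hx, map_one, isConj_one_left] at h1) c.st.t1
    · exact absurd (by rw [hx, ← hg]; group) (c.zne (g := g⁻¹) r)
  · replace hx : ψ x = d * t := hx
    exact ⟨x, by rw [hx, dt, ← mul_assoc, c.st.t2, one_mul], k x (by rw [hx, mul_assoc, ← mul_assoc t, ← dt, mul_assoc, c.st.t2, mul_one, d2])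
      (hx ▸ le_cent1_iff.2 (mul_mem (le_cent1_iff.1 h3) (le_cent1_iff.1 hT.le)))⟩

/-- `even_cnt`, `swap2`. -/
theorem swap_c2 (H : ∀ w, B1 w ∨ A2 w → ¬ IsConj t (t * ψ w)) (H2 : ∀ w, C2 w → IsConj t (t * ψ w)) :
    ∃ g z, C2 z ∧ g * t * g⁻¹ = t * ψ z ∧ g * (t * ψ z) * g⁻¹ = t := by
  obtain ⟨M⟩ := c.q.sm
  obtain ⟨T, hT⟩ := Syl.exists (p := 2) 𝐂[t]
  obtain ⟨U, hU, e⟩ := c.syl_U hT
  have k : ∀ d, IsConj t d → d ∈ T → T ≤ 𝐂[d] → ∃ x, d = t * ψ x ∧ (x = 1 ∨ C2 x) := fun d h1 h2 h3 => by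
    obtain ⟨x, rfl, r⟩ := c.cen_T hT h1 h2 h3
    exact ⟨x, rfl, r.imp_right fun r => (or_assoc.2 r).resolve_left fun r => H x r h1⟩
  have ev := c.q.even_cnt M (hT.pgroup.of_surjective _ (κ.comp (inclusion hT.le)).rangeRestrict_surjective) hU
    fun x hx => ⟨⟨ψ x, (e.le ⟨x, hx, rfl⟩).1⟩, c.ka_psi x⟩
  have fx : ∀ x, (∀ θ ∈ (κ.comp (inclusion hT.le)).range, θ x = x) ↔ T ≤ 𝐂[t * ψ x] := fun x => by
    have : ∀ y : T, κ.comp (inclusion hT.le) y x = x ↔ (y : G) ∈ 𝐂[t * ψ x] := fun y => by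
      rw [← c.inj.eq_iff, mem_cent1, ← mul_assoc, mem_cent1.1 (hT.le y.2), mul_assoc, mul_assoc, mul_right_inj, ← mul_inv_eq_iff_eq_mul]
      exact Eq.congr_left (c.ka.ac _ x)
    exact ⟨fun h y hy => (this ⟨y, hy⟩).1 (h _ ⟨_, rfl⟩), by rintro h _ ⟨y, rfl⟩; exact (this y).2 (h y.2)⟩
  have cj : ∀ x, x = 1 ∨ C2 x → IsConj t (t * ψ x) := fun x h => h.elim (fun h => by rw [h, map_one, mul_one]) (H2 x)
  rw [Nat.card_congr (Equiv.ofBijective (β := {a : G // IsConj t a ∧ a ∈ T ∧ T ≤ 𝐂[a]})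
    (fun x : {x : isom B // (∀ θ ∈ (κ.comp (inclusion hT.le)).range, θ x = x) ∧ (x = 1 ∨ C2 x)} => ⟨t * ψ x, cj x x.2.2, by
      obtain ⟨g, hg⟩ := isConj_iff.1 (cj x x.2.2)
      exact hT.ge_of_norm_p' (zpowers_le.2 (mul_mem (self_mem_cent1 t) (c.mC _))) (pg_inv (hg ▸ Ex.sq_cj c.st.t2 g))
        (norm_of_cent (zpowers_le.2 (le_cent1_iff.1 ((fx x).1 x.2.1)))) (mem_zpowers _), (fx x).1 x.2.1⟩)
    ⟨fun x y h => Subtype.ext (c.inj (mul_left_cancel (congrArg Subtype.val h))), fun ⟨a, h1, h2, h3⟩ => by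
      obtain ⟨x, rfl, r⟩ := k a h1 h2 h3
      exact ⟨⟨x, (fx x).2 h3, r⟩, rfl⟩⟩)] at ev
  obtain ⟨g, d, d1, d2, d3, d4, d5⟩ := swap2 hT c.st.t2 ev
  obtain ⟨x, rfl, r⟩ := k d (isConj_iff.2 ⟨g, d4⟩) d2 d3
  exact ⟨g, x, r.resolve_left (by rintro rfl; simp at d1), d4, d5⟩

section
variable (e1 : g * t * g⁻¹ = t * ψ z) (e2 : g * (t * ψ z) * g⁻¹ = t)
include e1 e2

omit e1 e2 in
theorem mc : map ψ 𝐂[z] = ψ.range ⊓ (𝐂[t] ⊓ 𝐂[t * ψ z]) := c.map_cen (.inr (c.tc z).symm)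
omit c in
theorem cjX {x : G} (h : x ∈ 𝐂[t] ⊓ 𝐂[t * ψ z]) : g * x * g⁻¹ ∈ 𝐂[t] ⊓ 𝐂[t * ψ z] := ⟨Ex.cj_cen e2 h.2, Ex.cj_cen e1 h.1⟩
omit c in
theorem cjX' {x : G} (h : x ∈ 𝐂[t] ⊓ 𝐂[t * ψ z]) : g⁻¹ * x * g⁻¹⁻¹ ∈ 𝐂[t] ⊓ 𝐂[t * ψ z] :=
  ⟨Ex.cj_cen (by rw [← e1]; group) h.2, Ex.cj_cen (by nth_rw 1 [← e2]; group) h.1⟩
omit e1 e2 in
theorem ka_z {x : G} (h : x ∈ 𝐂[t] ⊓ 𝐂[t * ψ z]) : κ ⟨x, h.1⟩ z = z := c.inj ((c.ka.ac _ z).trans (mul_inv_eq_iff_eq_mul.2 (mul_left_cancel (a := t) (by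
  rw [← mul_assoc, ← mem_cent1.1 h.1, mul_assoc, mem_cent1.1 h.2, mul_assoc]))))
theorem im_cen (hw : w ∈ 𝐂[z]) (h : ψ a = g * ψ w * g⁻¹) : a ∈ 𝐂[z] :=
  (mem_map_iff_mem c.inj).1 (c.mc.ge ⟨⟨a, rfl⟩, h ▸ cjX e1 e2 (c.mc.le ⟨w, hw, rfl⟩).2⟩)
omit e1 in
theorem fu_im (h : Fu 𝐂[z] w) : ∃ a, ψ a = g * ψ w * g⁻¹ := c.fuL (c.mc.le.trans (inf_le_right.trans inf_le_right)) e2 h
theorem norm_im {Y : Subgroup (isom B)} (hY : ∀ θ : MulAut (isom B), θ z = z → ∀ y ∈ Y, θ y ∈ Y) : 𝐂[z] ≤ 𝐍(comap ψ (g ⋆ map ψ Y)) := by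
  have : Finite (isom B) := .of_injective _ c.inj
  refine le_norm_iff.2 fun l hl w hw => ?_
  obtain ⟨_, ⟨y, hy, rfl⟩, k⟩ := mem_comap.1 hw
  have m := cjX' e1 e2 (c.mc.le ⟨l, hl, rfl⟩).2
  refine mem_comap.2 ⟨_, ⟨_, hY _ (c.ka_z m) y hy, rfl⟩, ?_⟩
  replace k : g * ψ y * g⁻¹ = ψ w := k
  change g * _ * g⁻¹ = _
  rw [c.ka.ac, map_mul, map_mul, map_inv, ← k]; group
omit e2 in
theorem dt_im (h : ψ a = g * ψ w * g⁻¹) : IsConj t (t * ψ w) ↔ IsConj t (t * ψ (z * a)) := by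
  have k : IsConj (t * ψ w) (t * ψ (z * a)) := isConj_iff.2 ⟨g, by rw [map_mul, h, ← mul_assoc t, ← e1, conj_mul]⟩
  exact ⟨fun r => r.trans k, fun r => r.trans k.symm⟩

end

/-- The class `c₂` alone is impossible. -/
theorem no_c2 (H : ∀ w, B1 w ∨ A2 w → ¬ IsConj t (t * ψ w)) (h : C2 w) : ¬ IsConj t (t * ψ w) := fun h' => by
  have q := c.q
  have : Finite (isom B) := .of_injective _ c.inj
  obtain ⟨M⟩ := q.sm
  have H2 : ∀ x, C2 x → IsConj t (t * ψ x) := fun x hx => c.dt_cj (q.c2_cj h hx) h'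
  obtain ⟨g, z, hz, e1, e2⟩ := c.swap_c2 H H2
  obtain ⟨e, e', l, rfl⟩ := q.c2_norm hz
  by_cases h2 : ∀ r : F, r = 0 ∨ r = 1
  · have inn : ∀ θ : MulAut (isom B), ∃ o, θ = MulAut.conj o := fun θ => M.inner (RingEquiv.ext fun r => by rcases h2 r with rfl | rfl <;> simp)
    have k1 : ∀ a ∈ E1 q e e', Fu 𝐂[E B e e' 1] a → ∃ a' ∈ E1 q e e', ψ a' = g * ψ a * g⁻¹ := fun a ha f => by
      obtain ⟨a', k⟩ := c.fu_im e2 f
      refine ⟨a', q.e1_of l (fun x hx => c.inj ?_) (c.norm_im e1 e2 fun θ k y => q.e1_inv M l k) (mem_comap.2 ⟨_, ⟨a, ha, rfl⟩, k.symm⟩) ?_, k⟩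
      · obtain ⟨_, ⟨_, ⟨m, s, -, -, rfl⟩, rfl⟩, k⟩ := mem_comap.1 hx
        rw [map_mul, ← k, map_one]
        exact Ex.sq_cj (by rw [← map_mul, q.E_sq, map_one]) g
      obtain ⟨f1, f2, x, hx, y, hy, f3⟩ := f
      have t : ∀ x ∈ 𝐂[E B e e' 1], ∃ x' ∈ 𝐂[E B e e' 1], ψ (x' * a' * x'⁻¹) = g * ψ (x * a * x⁻¹) * g⁻¹ := fun x hx => by
        have m := cjX e1 e2 (c.mc.le ⟨x, hx, rfl⟩).2
        obtain ⟨o, ho⟩ := inn (κ ⟨_, m.1⟩)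
        refine ⟨o, memC (mul_inv_eq_iff_eq_mul.1 (by simpa [ho] using c.ka_z m)), ?_⟩
        have := c.ka.ac ⟨_, m.1⟩ a'
        rw [ho, k] at this
        rw [← MulAut.conj_apply, this, map_mul, map_mul, map_inv]; group
      obtain ⟨x', hx', kx⟩ := t x hx
      obtain ⟨y', hy', ky⟩ := t y hy
      exact ⟨c.im_cen e1 e2 f1 k, c.inj (by rw [map_mul, k, map_one]; exact Ex.sq_cj (by rw [← map_mul, f2, map_one]) g), x', hx', y', hy',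
        c.inj (by rw [ky, f3, map_mul ψ a', kx, k, conj_mul, ← map_mul])⟩
    have k2 : ∀ a, ∃ a', a ∈ E1 q e e' → a' ∈ E1 q e e' ∧ ψ a' = g * ψ a * g⁻¹ := fun a => by
      by_cases ha : a ∈ E1 q e e'
      swap
      · exact ⟨1, fun k => absurd k ha⟩
      obtain ⟨x, hx, y, hy, f1, f2, rfl⟩ := q.e1_gen l ha
      obtain ⟨x', hx', kx⟩ := k1 x hx f1
      obtain ⟨y', hy', ky⟩ := k1 y hy f2
      exact ⟨x' * y', fun _ => ⟨mul_mem hx' hy', by rw [map_mul, kx, ky, conj_mul, map_mul]⟩⟩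
    choose γ hγ using k2
    have zE : E B e e' 1 ∈ E1 q e e' := ⟨e', 1, l.o, q.bb _, rfl⟩
    have dt : ∀ a ∈ E1 q e e', (a = 1 ∨ C2 a) ↔ IsConj t (t * ψ a) := by
      rintro _ ⟨m, s, -, -, rfl⟩
      exact ⟨fun k => k.elim (fun k => by rw [k, map_one, mul_one]) (H2 _), fun k => (q.rt_E e m s).imp_right fun r => (or_assoc.2 r).resolve_left fun r => H _ r k⟩
    refine q.q2_false l h2 γ (fun a ha => (hγ a ha).1) (fun a ha b hb => c.inj ?_) (fun a ha b hb k => c.inj ?_) (c.inj ?_) fun a ha => ?_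
    · rw [map_mul, (hγ a ha).2, (hγ b hb).2, (hγ _ (mul_mem ha hb)).2, conj_mul, map_mul]
    · simpa using ((hγ a ha).2.symm.trans (congrArg ψ k)).trans (hγ b hb).2
    · rw [(hγ _ zE).2]
      refine mul_left_cancel (a := t * ψ (E B e e' 1)) ?_
      rw [mul_assoc t (ψ _) (ψ _), ← map_mul, q.E_sq, map_one, mul_one]
      nth_rw 1 [← e1]
      rw [conj_mul, e2]
    · rw [dt a ha, dt _ (mul_mem zE (hγ a ha).1), c.dt_im e1 (hγ a ha).2]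
  push Not at h2
  obtain ⟨r₀, h0, h1⟩ := h2
  have k : ∀ r : F, r ≠ 0 → ψ (E B e e' 0) = g * ψ (E B e (r • e') 0) * g⁻¹ := fun r hr => by
    obtain ⟨h₁, a₀, h₂, b₀, f, k, kk⟩ := q.xs_gen l h0 h1 hr
    simp only [List.mem_cons, List.not_mem_nil, or_false, forall_eq_or_imp, forall_eq] at f k
    have t : ∀ x y, Fu 𝐂[E B e e' 1] x → Fu 𝐂[E B e e' 1] y → ⁅x, y⁆ ∈ Q0 B _ (q.li_le l) → ⁅x, y⁆ * ⁅x, y⁆ = 1 →
        ∃ a ∈ Q0 B _ (q.li_le l), ψ a = g * ψ ⁅x, y⁆ * g⁻¹ := fun x y fx fy m s => by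
      obtain ⟨x', kx⟩ := c.fu_im e2 fx
      obtain ⟨y', ky⟩ := c.fu_im e2 fy
      have cx := c.im_cen e1 e2 fx.1 kx
      have cy := c.im_cen e1 e2 fy.1 ky
      have k : ψ ⁅x', y'⁆ = g * ψ ⁅x, y⁆ * g⁻¹ := by rw [map_commutatorElement, map_commutatorElement, kx, ky, conjugate_commutatorElement]
      exact ⟨_, ⟨q.comm_fx l cx cy, fun v => q.q0_of l ((Transfer.isPGroup_conj ((q.q0_pg _).map ψ) g).comap_of_injective ψ c.inj)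
        (c.norm_im e1 e2 fun θ k y => q.q0_inv M l k) (mem_comap.2 ⟨_, ⟨_, m, rfl⟩, k.symm⟩)
        (mul_mem (mul_mem (mul_mem cx cy) (inv_mem cx)) (inv_mem cy))
        (c.inj (by rw [map_mul, k, map_one]; exact Ex.sq_cj (by rw [← map_mul, s, map_one]) g))⟩, k⟩
    obtain ⟨a, ha, ka⟩ := t _ _ f.1 f.2.1 k.1.1 k.1.2
    obtain ⟨b, hb, kb⟩ := t _ _ f.2.2.1 f.2.2.2 k.2.1 k.2.2
    obtain ⟨r', hr'⟩ := q.q0_comm l ha hb
    have k : ψ (E B e (r' • e') 0) = g * ψ (E B e (r • e') 0) * g⁻¹ := by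
      rw [← hr', ← kk, map_commutatorElement, map_commutatorElement ψ ⁅h₁, a₀⁆, ka, kb, conjugate_commutatorElement]
    have ln : ∀ r : F, r ≠ 0 → Ln B e (r • e') := fun r hr => ⟨l.ne, fun k => hr (smul_nmem l.nm k), by simp [l.o]⟩
    obtain rfl : r' = 1 := by_contra fun n => H _ (.inr ⟨_, _, ln r hr, rfl⟩) ((c.dt_im e1 k).2 (H2 _ ⟨e, (1 + r') • e', 1, ln _ fun k =>
      n (by rw [eq_neg_of_add_eq_zero_right k, CharTwo.neg_eq]), one_ne_zero, by rw [q.E_mul l.o (by simp [l.o])]; simp [add_smul, q.bb]⟩))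
    rwa [one_smul] at k
  have := (q.E_inj (m := (1 : F) • e') (m' := r₀ • e') (s := 0) (s' := 0) l.ne (by simp [l.o]) (by simp [l.o])
    (c.inj (by simpa using (k 1 one_ne_zero).symm.trans (k r₀ h0)))).1
  rw [← add_smul] at this
  exact h1 (by rw [eq_neg_of_add_eq_zero_right (smul_nmem l.nm this), CharTwo.neg_eq])

theorem step0 (hd : d * t = t * d) (dt : d ≠ t) (e : IsConj t d) : ∃ w, (B1 w ∨ A2 w) ∧ IsConj t (t * ψ w) := by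
  by_contra! H
  obtain ⟨w, r, k⟩ := c.step0R hd dt e
  exact (or_assoc.2 r).elim (fun r => H w r k) fun r => c.no_c2 H r k

end Cx

/-- Step 0. -/
theorem Sq.step0 (q : Sq B) (s : USt.St ψ t) (hd : d * t = t * d) (dt : d ≠ t) (e : IsConj t d) :
    (∀ w, B1 w → IsConj t (t * ψ w)) ∨ ∀ w, A2 w → IsConj t (t * ψ w) := by
  obtain ⟨N, κ, c⟩ := q.cx s
  obtain ⟨w, r | r, k⟩ := c.step0 hd dt e
  exacts [.inl fun x hx => c.dt_cj (q.b1_cj r hx) k, .inr fun x hx => c.dt_cj (q.a2_cj r hx) k]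

theorem sq_bil {k : ℕ} (hk : 3 ≤ k) (h : k = 3 → ∃ c : F, c ≠ 0 ∧ c ≠ 1) : Sq (bil (Fin k) F) :=
  ⟨bil_isAlt _ F, bil_nondegenerate _ F, by simp; omega, (em (k = 3)).symm.imp (fun _ => by simp; omega) h⟩

theorem st_congr {J J' : Type*} [Group J] [Group J'] {φ : J →* G} (s : USt.St φ t) (e : J' ≃* J) : USt.St (φ.comp e.toMonoidHom) t :=
  ⟨fun x hx => (mem_center_mulEquiv_iff e x).1 (s.ker _ hx), s.t2, s.t1, fun _ => s.tψ _, fun g hg => (s.cn g hg).elim fun α h =>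
    ⟨MulAut.congr e.symm α, fun x => (h _).trans (congrArg φ (e.apply_symm_apply _).symm)⟩, fun g h1 h2 => s.kinv g h1 fun x => by simpa using h2 (e.symm x)⟩

/-- Step 0 for the matrix group. -/
theorem step0_sp {k : ℕ} (hk : 3 ≤ k) (h : k = 3 → ∃ c : F, c ≠ 0 ∧ c ≠ 1) {φ : Matrix.symplecticGroup (Fin k) F →* G} (s : USt.St φ t)
    (hd : d * t = t * d) (dt : d ≠ t) (e : IsConj t d) : (∀ v a, v ≠ 0 → a ≠ 0 → IsConj t (t * φ (tvSp v a))) ∨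
      ∀ u w h, u ≠ 0 → w ∉ F ∙ u → IsConj t (t * φ (sgSp u w 0 h)) := by
  have q := sq_bil hk h
  refine (q.step0 (st_congr s (spEquiv _ F).symm) hd dt e).imp (fun k v a hv ha => ?_) fun k u w h hu hw => ?_
  · simpa [q.E_tv, ← spEquiv_tvSp] using k _ ⟨v, a, hv, ha, rfl⟩
  · simpa [q.E_eq h, sgSp] using k _ ⟨u, w, ⟨hu, hw, h⟩, rfl⟩

end Cfsg.Lib.SD
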