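import Cfsg.Agent.Lib.SD.G3

/-!
# SD: homomorphisms from `V₀` into the set of involutions centralizing a Sylow `2`-subgroup of `C(u)`.  Notation as in `G2`.
-/

set_option autoImplicit false
set_option linter.unusedSectionVars false

namespace Cfsg.Lib.SD

open Subgroup Cfsg.Lib.BG Cfsg.Lib.Symp Cfsg.Lib.OD Module
open scoped Cfsg.Lib.Transfer commutatorElement

variable {F V : Type*} [Field F] [Finite F] [CharP F 2] [AddCommGroup V] [Module F V] [FiniteDimensional F V] {B : LinearMap.BilinForm F V}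
  {u a b c : isom B} {x v c₁ y₁ : V} {l k : F} {f : V → isom B} {H : Submodule F V}

/-- `f` is a homomorphism on `H` with values in `Zu u`. -/
structure Hf (u : isom B) (H : Submodule F V) (f : V → isom B) : Prop where
  mul : ∀ v ∈ H, ∀ v' ∈ H, f (v + v') = f v * f v'
  zu : ∀ v ∈ H, Zu u (f v)

/-- Pigeonhole: `|H| ≥ |F|² > |F|` (`Module.natCard_eq_pow_finrank`, `Finite.exists_ne_map_eq_of_card_lt` or `Finite.card_le_of_injective`). -/
theorem pigeon (h : 2 ≤ finrank F H) (r : V → F) : ∃ v ∈ H, ∃ v' ∈ H, v + v' ≠ 0 ∧ r v = r v' := by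
  have := Module.finite_of_finite F (M := V)
  obtain ⟨a, b, e, n⟩ := Function.not_injective_iff.1 fun k : Function.Injective fun v : H => r v => (Nat.card_le_card_of_injective _ k).not_gt (by
    rw [Module.natCard_eq_pow_finrank (K := F) (V := H)]
    exact (pow_one _).ge.trans_lt (Nat.pow_lt_pow_right Finite.one_lt_card h))
  exact ⟨a, a.2, b, b.2, fun k => n (Subtype.ext ((eq_neg_of_add_eq_zero_left k).trans (ng F _))), e⟩

theorem exists_cp (H A : Submodule F V) : ∃ K ≤ H, (∀ v ∈ K, v ∈ A → v = 0) ∧ finrank F H ≤ finrank F K + finrank F A := by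
  obtain ⟨K, hK⟩ := A.exists_isCompl
  refine ⟨H ⊓ K, inf_le_left, fun v a b => Submodule.disjoint_def.1 hK.disjoint _ b a.2, ?_⟩
  have := Submodule.finrank_sup_add_finrank_inf_eq H K
  have := Submodule.finrank_le (H ⊔ K)
  have := Submodule.finrank_add_eq_of_isCompl hK
  omega

/-- The kernel `K` of the additive map `r : H →+ F` has order `≥ |F|³ ≥ 8`; choose `a ∉ {0}`, `b ∉ {0, a}`, `c ∉ {0, a, b, a + b}`. -/
theorem pigeon3 (h : 4 ≤ finrank F H) (r : V → F) (hr : ∀ v ∈ H, ∀ v' ∈ H, r (v + v') = r v + r v') :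
    ∃ a ∈ H, ∃ b ∈ H, ∃ c ∈ H, r a = 0 ∧ r b = 0 ∧ r c = 0 ∧ ∀ x ∈ [a, b, c, a + b, a + c, b + c, a + b + c], x ≠ 0 := by
  have k : ∀ A : Submodule F V, finrank F A ≤ 2 → ∃ a ∈ H, a ∉ A ∧ r a = 0 := fun A hA => by
    obtain ⟨K, a, b, c⟩ := exists_cp H A
    obtain ⟨v, d, v', d', n, e⟩ := pigeon (H := K) (by omega) r
    exact ⟨_, a (add_mem d d'), fun k => n (b _ (add_mem d d') k), by rw [hr v (a d) v' (a d'), e, CharTwo.add_self_eq_zero]⟩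
  obtain ⟨a, a1, a2, a3⟩ := k ⊥ (by simp)
  obtain ⟨b, b1, b2, b3⟩ := k (F ∙ a) ((fr1 a).trans one_le_two)
  obtain ⟨c, c1, c2, c3⟩ := k (Submodule.span F {a, b}) (fr2 a b)
  have n : ∀ {A : Submodule F V} {x y}, x ∈ A → y ∉ A → x + y ≠ 0 := fun hx hy k => hy ((add_mem_cancel_left hx).1 (k ▸ zero_mem _))
  have m1 : a ∈ Submodule.span F {a, b} := Submodule.subset_span (by simp)
  have m2 : b ∈ Submodule.span F {a, b} := Submodule.subset_span (by simp)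
  refine ⟨a, a1, b, b1, c, c1, a3, b3, c3, ?_⟩
  simp only [List.forall_mem_cons, List.not_mem_nil, false_imp_iff, implies_true, and_true]
  exact ⟨a2, fun k => b2 (k ▸ zero_mem _), fun k => c2 (k ▸ zero_mem _), n (Submodule.mem_span_singleton_self a) b2, n m1 c2, n m2 c2, n (add_mem m1 m2) c2⟩

namespace Sq
variable (q : Sq B)
include q

/-- `K = y^⊥`, `K₀ = K ⊓ N⁻¹ ⟨y⟩`, `H` a complement of `K₀` in `K` (`Submodule.exists_isCompl`, or `exists_le_isCompl`-type lemmas).  `dim K = dim V - 1`, `dim K₀ ≤ dim ker N + 1`, and `K₀ ≤ ker N` if `B(y₁, y) ≠ 0`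
(`N v = r y` gives `r B(y₁, y) = B(y, v) = 0`). -/
theorem exists_cpl (u2 : u * u = 1) (h : nv u y₁ ≠ 0) : ∃ H : Submodule F V, (∀ v ∈ H, B (nv u y₁) v = 0) ∧ (∀ v ∈ H, nv u v ∈ F ∙ nv u y₁ → v = 0) ∧
    finrank F (wv u) ≤ finrank F H + 2 ∧ (B y₁ (nv u y₁) ≠ 0 → finrank F (wv u) ≤ finrank F H + 1) := by
  have d1 : finrank F (wv u) + _ = _ := LinearMap.finrank_range_add_finrank_ker (nv u)
  have d2 := q.fr_pp (F ∙ nv u y₁)
  have d3 := fr1 (F := F) (nv u y₁)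
  by_cases o : B y₁ (nv u y₁) = 0
  · obtain ⟨K, a, b, c⟩ := exists_cp (pp B (F ∙ nv u y₁)) (LinearMap.ker (nv u) ⊔ F ∙ y₁)
    have := fr_sup (LinearMap.ker (nv u)) y₁
    refine ⟨K, fun v k => mem_pp1.1 (a k), fun v k k' => b v k ?_, by omega, fun k => absurd o k⟩
    obtain ⟨r, e⟩ := Submodule.mem_span_singleton.1 k'
    exact Submodule.mem_sup.2 ⟨v - r • y₁, by rw [LinearMap.mem_ker, map_sub, map_smul, e, sub_self], _, sm_self r _, sub_add_cancel ..⟩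
  · obtain ⟨K, a, b, c⟩ := exists_cp (pp B (F ∙ nv u y₁)) (LinearMap.ker (nv u))
    refine ⟨K, fun v k => mem_pp1.1 (a k), fun v k k' => b v k ?_, by omega, fun _ => by omega⟩
    obtain ⟨r, e⟩ := Submodule.mem_span_singleton.1 k'
    have := mem_pp1.1 (a k)
    rw [nv_sym u2, ← e, map_smul, smul_eq_mul, mul_eq_zero, or_iff_left o] at this
    rw [LinearMap.mem_ker, ← e, this, zero_smul]

/-- Type `c`: choose `Sp u (f v) c₁ c₁ (w v) (l v) (k v)` (`zu_sp`, `Sp.eq`); `pigeon` for `l`; `N_{f (v + v')}` is `nv` of `E(c, m, k) E(c, m', k')` (`nv_mul`, `wv_E'`), `E_mul`, `rt_E`. -/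
theorem fin_c (h : Hi u) (c : Ch u c₁) (h0 : nv u c₁ ≠ 0) (h1 : B c₁ (nv u c₁) = 0) (hH : 2 ≤ finrank F H) (hf : Hf u H f) :
    ∃ v ∈ H, v ≠ 0 ∧ (f v = 1 ∨ Rt (f v)) := by
  have : ∀ v, ∃ w l k, v ∈ H → Sp u (f v) c₁ c₁ w l k := fun v => by
    by_cases hv : v ∈ H
    · obtain ⟨y, w, l, k, s⟩ := q.zu_sp h c (hf.zu v hv) fun o => absurd (h1.symm.trans o) zero_ne_one
      exact ⟨w, l, k, fun _ => s.eq h0 h1 ▸ s⟩
    · exact ⟨0, 0, 0, fun k => absurd k hv⟩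
  choose w l k s using this
  obtain ⟨v, a, v', b, n, e⟩ := pigeon hH l
  refine ⟨_, add_mem a b, n, ?_⟩
  have o := fun x z => ww h.sq (nv_mem u x) (nv_mem u z)
  have m := fun x => q.wv_E' (nv_mem u c₁) (nv_mem u (w x)) (k x)
  rw [hf.mul v a v' b, eq_of_nv (g := f v * f v') (h := E B _ _ (k v) * E B _ _ (k v')) fun x => by
    rw [q.nv_mul h.sq (q.sp_le h.sq (s v a)) (q.sp_le h.sq (s v' b)), q.nv_mul h.sq (m v) (m v'), (s v a).ap, (s v' b).ap, e, add_add_add_comm, vv F, zero_add],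
    q.E_mul (o ..) (o ..)]
  exact q.rt_E ..

/-- Type `a`, rank `≥ 5`.  `pigeon` for `l`: `ν + ν' = l'' N + ν''` where `ν, ν', ν''` are `nv` of elements `E(y, N v, k)` (rank `≤ 2`, `wv_E`), which kill every `x` with `N x ∈ ⟨y, N v⟩`
(pair `N x = α y + β N v` with `y₁, v`).  If `l'' ≠ 0`: for `x` take `x'`, `l'' N x' = ν'' x`; `ν'' x' = 0`; `l'' N x = (ν + ν') (x + x')`.  So `W ≤` a space of dimension `4` (see `OD.Gq.b4_a`).  `sp_zero`. -/
theorem fin_a (h : Hi u) (c : Ch u c₁) (h0 : nv u c₁ = 0) (h5 : 5 ≤ finrank F (wv u)) (hH : 2 ≤ finrank F H) (hf : Hf u H f) :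
    ∃ v ∈ H, v ≠ 0 ∧ (f v = 1 ∨ Rt (f v)) := by
  have : ∀ v, ∃ y w l k, v ∈ H → Sp u (f v) c₁ y w l k := fun v => by
    by_cases hv : v ∈ H
    · obtain ⟨y, w, l, k, s⟩ := q.zu_sp h c (hf.zu v hv) fun o => by simp [h0] at o
      exact ⟨y, w, l, k, fun _ => s⟩
    · exact ⟨0, 0, 0, 0, fun k => absurd k hv⟩
  choose y w l k s using this
  obtain ⟨v, a, v', b, n, e⟩ := pigeon hH l
  refine ⟨_, add_mem a b, n, ?_⟩
  have t := s _ (add_mem a b)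
  by_cases l0 : l (v + v') = 0
  · exact q.sp_zero h.sq (l0 ▸ t)
  exfalso
  generalize y (v + v') = y₁, w (v + v') = w₁, l (v + v') = l₁, k (v + v') = k₁ at t l0
  have al := (q.ch_al c).2 h0
  have sy : ∀ x y, B x (nv u y) = B y (nv u x) := fun x y => by rw [← nv_sym h.sq, q.sy]
  have m : ∀ x, l₁ • nv u x + nv (E B (nv u y₁) (nv u w₁) k₁) x ∈ Submodule.span F {nv u (y v), nv u (w v)} ⊔ Submodule.span F {nv u (y v'), nv u (w v')} := fun x => by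
    have := t.ap x
    rw [hf.mul v a v' b, q.nv_mul h.sq (q.sp_le h.sq (s v a)) (q.sp_le h.sq (s v' b)), (s v a).ap, (s v' b).ap, e, add_add_add_comm, vv F, zero_add, h0, smul_zero,
      add_zero] at this
    exact this ▸ Submodule.add_mem_sup (q.wv_E _ _ _ (nv_mem ..)) (q.wv_E _ _ _ (nv_mem ..))
  have := Submodule.finrank_mono (s := wv u) (t := Submodule.span F {nv u (y v), nv u (w v)} ⊔ Submodule.span F {nv u (y v'), nv u (w v')}) (by
    rintro _ ⟨x, rfl⟩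
    have := sub_mem (m x) (m (l₁⁻¹ • (B x (nv u y₁) • w₁ + (B x (nv u w₁) + k₁ * B x (nv u y₁)) • y₁)))
    simp only [q.nv_E (ww h.sq (nv_mem ..) (nv_mem ..)), map_add, map_smul, LinearMap.add_apply, LinearMap.smul_apply, al y₁, al w₁, sy y₁ w₁, q.o' t.ov,
      smul_zero, add_zero, mul_zero, zero_smul, smul_inv_smul₀ l0, add_sub_cancel_right] at this
    exact (Submodule.smul_mem_iff _ l0).1 this)
  have := Submodule.finrank_add_le_finrank_add_finrank (Submodule.span F {nv u (y v), nv u (w v)}) (Submodule.span F {nv u (y v'), nv u (w v')})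
  have := fr2 (F := F) (nv u (y v)) (nv u (w v))
  have := fr2 (F := F) (nv u (y v')) (nv u (w v'))
  omega

/-- Type `b₃`.  `x₀ ⊥ c`, `B(x₀, y) = 1`; `W = ⟨c, y, N x₀⟩` (independent: pair with `c₁, x₀, y₁`).  `D x = N x + B(x, c) c + B(x, y) N x₀ + B(x, N x₀) y` is orthogonal to `c₁, y₁, x₀`, so to all of `V = W^⊥ + ⟨c₁, y₁, x₀⟩`:
`D = 0`.  Hence `a = E(y, l N x₀ + N v, k)`; `rt_E`. -/
theorem sp_b3 (u2 : u * u = 1) (c : Ch u c₁) (h1 : B c₁ (nv u c₁) = 1) (h3 : finrank F (wv u) = 3) (s : Sp u a c₁ y₁ v l k) : a = 1 ∨ Rt a := by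
  have two : (2 : F) = 0 := two0
  have sy : ∀ x y, B x (nv u y) = B y (nv u x) := fun x y => by rw [← nv_sym u2, q.sy]
  have yc : B y₁ (nv u c₁) = 0 := (sy ..).trans s.oc
  have yy : B y₁ (nv u y₁) = 0 := by rw [c, yc, zero_pow two_ne_zero]
  obtain ⟨x₀, x1, x2⟩ := q.exists_pp (U := F ∙ nv u c₁) (x := nv u y₁) (fun k => by
    obtain ⟨r, e⟩ := Submodule.mem_span_singleton.1 k
    have := s.oc
    rw [← e, map_smul, h1, smul_eq_mul, mul_one] at this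
    exact s.ne (by rw [← e, this, zero_smul])) 1
  have x1 := q.o' (mem_pp1.1 x1)
  rw [q.sy] at x2
  have xx : B x₀ (nv u x₀) = 0 := by rw [c, x1, zero_pow two_ne_zero]
  have lt : ∀ {U : Submodule F V} {x z}, x ∈ U → B z x = 1 → finrank F (U ⊓ pp B (F ∙ z) : Submodule F V) < finrank F U := fun hx o =>
    Submodule.finrank_lt_finrank_of_lt (inf_lt_left.2 fun k => zero_ne_one ((mem_pp1.1 (k hx)).symm.trans o))
  have l1 := lt (nv_mem u c₁) h1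
  have l2 := lt (U := wv u ⊓ pp B (F ∙ c₁)) ⟨nv_mem u x₀, mem_pp1.2 ((sy ..).trans x1)⟩ ((sy y₁ x₀).trans x2)
  have l3 := lt (U := wv u ⊓ pp B (F ∙ c₁) ⊓ pp B (F ∙ y₁)) ⟨⟨nv_mem u y₁, mem_pp1.2 s.oc⟩, mem_pp1.2 yy⟩ x2
  have z := Submodule.finrank_eq_zero.1 (show finrank F (wv u ⊓ pp B (F ∙ c₁) ⊓ pp B (F ∙ y₁) ⊓ pp B (F ∙ x₀) : Submodule F V) = 0 by omega)
  have sm := fun c x => Submodule.smul_mem (wv u) c (nv_mem u x)
  rw [eq_of_nv (g := a) (h := E B (nv u y₁) (l • nv u x₀ + nv u v) k) fun x => ?_]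
  · exact q.rt_E ..
  have := (Submodule.mem_bot F).1 (z.le (show nv u x + B x (nv u c₁) • nv u c₁ - (B x (nv u y₁) • nv u x₀ + B x (nv u x₀) • nv u y₁) ∈ _ from
    ⟨⟨⟨sub_mem (add_mem (nv_mem ..) (sm ..)) (add_mem (sm ..) (sm ..)), mem_pp1.2 (by simp [sy c₁ x, h1, sy c₁ x₀, x1, s.oc, CharTwo.add_self_eq_zero])⟩,
      mem_pp1.2 (by simp [sy y₁ x, yc, yy, sy y₁ x₀, x2])⟩, mem_pp1.2 (by simp [sy x₀ x, x1, xx, x2])⟩))
  rw [s.ap, sub_eq_zero.1 this, q.nv_E (ww u2 (nv_mem ..) (nv_mem ..)), q.nv_E (ww u2 (nv_mem ..) (add_mem (sm ..) (nv_mem ..))), map_add, map_smul, smul_eq_mul]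
  module

/-- Type `b`, `l ≠ 1`: `N_{u a} x = (1 + l) N x + l B(x, c) c + ν x` (`nv_mul`).  If it vanishes: pair with `y₁`: `B(x, y) = 0`, `ν x = B(x, m) y`; pair with `c₁`: `B(x, c) = 0`; pair with `v`: `B(x, m) = 0`; so `N x = 0`.
`wv_eq`, `ch_even` (odd rank), `cls` (`u a` is an involution: `nv_mul`). -/
theorem sp_b (u2 : u * u = 1) (c : Ch u c₁) (h1 : B c₁ (nv u c₁) = 1) (s : Sp u a c₁ y₁ v l k) : l = 1 ∨ Cj ⊤ u (u * a) := by
  have two : (2 : F) = 0 := two0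
  refine or_iff_not_imp_left.2 fun l1 => ?_
  have l0 : 1 + l ≠ 0 := fun o => l1 (CharTwo.add_eq_zero.1 o).symm
  have sy : ∀ x y, B x (nv u y) = B y (nv u x) := fun x y => by rw [← nv_sym u2, q.sy]
  have yc : B y₁ (nv u c₁) = 0 := (sy ..).trans s.oc
  have yy : B y₁ (nv u y₁) = 0 := by rw [c, yc, zero_pow two_ne_zero]
  have le := q.sp_le u2 s
  have le' := q.wv_mul u2 le_rfl le
  refine q.cls u2 (eq_one_of fun x => by rw [q.nv_mul u2 le' le', vv F]) (by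
    rw [q.wv_eq u2 le' fun x e => ?_]
    rw [q.nv_mul u2 le_rfl le, s.ap, q.nv_E (ww u2 (nv_mem ..) (nv_mem ..))] at e
    have e1 := congrArg (B y₁) e
    have e2 := congrArg (B c₁) e
    have e3 := congrArg (B v) e
    simp only [map_add, map_smul, smul_eq_mul, map_zero, sy y₁ x, sy c₁ x, sy v x, yc, yy, sy y₁ v, q.o' s.ov, h1, s.oc] at e1 e2 e3
    have f1 : B x (nv u y₁) = 0 := mul_left_cancel₀ l0 (by linear_combination e1)
    have f2 : B x (nv u c₁) = 0 := by rw [f1] at e2; linear_combination e2 - l * B x (nv u c₁) * two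
    have f3 : B x (nv u v) = 0 := mul_left_cancel₀ l0 (by rw [f1, f2] at e3; linear_combination e3)
    rw [f1, f2, f3] at e
    exact (smul_eq_zero.1 (show (1 + l) • nv u x = 0 by rw [← e]; module)).resolve_left l0) fun o => absurd (((q.ch_even u2 c).1 o).symm.trans h1) zero_ne_one

theorem fin_b' (h : Hi u) (c : Ch u c₁) (h1 : B c₁ (nv u c₁) = 1) (hH : 2 ≤ finrank F H) (hH' : finrank F (wv u) ≠ 3 → 4 ≤ finrank F H) (hf : Hf u H f) :
    ∃ v ∈ H, v ≠ 0 ∧ (f v = 1 ∨ Rt (f v) ∨ Cj ⊤ u (u * f v)) := by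
  have ad : ∀ v ∈ H, ∀ v' ∈ H, B c₁ (nv (f (v + v')) c₁) = B c₁ (nv (f v) c₁) + B c₁ (nv (f v') c₁) := fun v a v' b => by
    rw [hf.mul v a v' b, q.nv_mul h.sq (q.zu_le h (hf.zu v a)) (q.zu_le h (hf.zu v' b)), map_add]
  by_cases h3 : finrank F (wv u) = 3
  · obtain ⟨v, a, v', b, n, e⟩ := pigeon hH fun v => B c₁ (nv (f v) c₁)
    obtain ⟨y, w, l, k, s⟩ := q.zu_sp h c (hf.zu _ (add_mem a b)) fun _ => by rw [ad v a v' b, e, CharTwo.add_self_eq_zero]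
    exact ⟨_, add_mem a b, n, (q.sp_b3 h.sq c h1 h3 s).imp_right .inl⟩
  by_contra! n
  have nl : ∀ v ∈ H, v ≠ 0 → B c₁ (nv (f v) c₁) = 0 → Nl u c₁ (f v) := fun v a b o => by
    obtain ⟨y, w, l, k, s⟩ := q.zu_sp h c (hf.zu v a) fun _ => o
    exact q.sp_nl h.sq c (.inr h1) ((q.sp_b h.sq c h1 s).resolve_right (n v a b).2.2 ▸ s)
  obtain ⟨a, a1, b, b1, d, d1, a2, b2, d2, z⟩ := pigeon3 (hH' h3) (fun v => B c₁ (nv (f v) c₁)) ad
  simp only [List.forall_mem_cons] at z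
  obtain ⟨y, w, l, k, s⟩ := q.zu_sp h c (hf.zu a a1) fun _ => a2
  have ab := add_mem a1 b1
  have z' : B c₁ (nv (f (a + b)) c₁) = 0 := by rw [ad a a1 b b1, a2, b2, add_zero]
  exact s.ne (q.three h.sq (nl a a1 z.1 a2) (nl b b1 z.2.1 b2) (nl d d1 z.2.2.1 d2) (hf.mul a a1 b b1 ▸ nl _ ab z.2.2.2.1 z')
    (hf.mul a a1 d d1 ▸ nl _ (add_mem a1 d1) z.2.2.2.2.1 (by rw [ad a a1 d d1, a2, d2, add_zero]))
    (hf.mul b b1 d d1 ▸ nl _ (add_mem b1 d1) z.2.2.2.2.2.1 (by rw [ad b b1 d d1, b2, d2, add_zero]))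
    (hf.mul a a1 b b1 ▸ hf.mul _ ab d d1 ▸ nl _ (add_mem ab d1) z.2.2.2.2.2.2.1 (by rw [ad _ ab d d1, z', d2, add_zero]))
    ((nv_sym h.sq ..).symm.trans (q.o' s.oc)))

/-- `r v = B(c₁, N_{f v} c₁)` is additive on `H` (`zu_le`, `nv_mul`).  Rank `3`: `pigeon`, `r (v + v') = 0`, `zu_sp`, `sp_b3`.  Rank `≥ 5` (odd, `ch_even`): `pigeon3`, `zu_sp`, `sp_b`, `sp_nl`, `three`:
`N` kills `c^⊥`, but `B(x₀, y) = 1` for some `x₀ ⊥ c`... (e.g. `N y₁ ≠ 0` for the `y₁` of any `Sp`, `B(y₁, c) = B(c₁, y) = 0`). -/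
theorem fin_b (h : Hi u) (c : Ch u c₁) (h1 : B c₁ (nv u c₁) = 1) (hH : finrank F (wv u) ≤ finrank F H + 1) (hf : Hf u H f) :
    ∃ v ∈ H, v ≠ 0 ∧ (f v = 1 ∨ Rt (f v) ∨ Cj ⊤ u (u * f v)) := by
  have := h.rk
  have : ¬ Even (finrank F (wv u)) := fun o => absurd (((q.ch_even h.sq c).1 o).symm.trans h1) zero_ne_one
  rw [Nat.even_iff] at this
  exact q.fin_b' h c h1 (by omega) (fun _ => by omega) hf

/-- `exists_cpl`; `Ch.zo`, `ch_even`: in the types `a`, `c` the rank is even, so `≥ 4`. -/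
theorem fin (h : Hi u) (p : Bp u c₁ y₁) (n4 : nv u c₁ = 0 → finrank F (wv u) ≠ 4) (hf : Hf u (pp B (F ∙ nv u y₁)) f) :
    ∃ v, B (nv u y₁) v = 0 ∧ nv u v ∉ F ∙ nv u y₁ ∧ (f v = 1 ∨ Rt (f v) ∨ Cj ⊤ u (u * f v)) := by
  obtain ⟨H, h1, h2, h3, h4⟩ := q.exists_cpl h.sq p.ne
  have hf' : Hf u H f := ⟨fun v a v' b => hf.mul v (mem_pp1.2 (h1 v a)) v' (mem_pp1.2 (h1 v' b)), fun v a => hf.zu v (mem_pp1.2 (h1 v a))⟩
  have := h.rk
  have ev := q.ch_even h.sq p.ch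
  rw [Nat.even_iff] at ev
  suffices ∃ v ∈ H, v ≠ 0 ∧ (f v = 1 ∨ Rt (f v) ∨ Cj ⊤ u (u * f v)) from let ⟨v, a, b, c⟩ := this; ⟨v, h1 v a, fun k => b (h2 v a k), c⟩
  have w : (∃ v ∈ H, v ≠ 0 ∧ (f v = 1 ∨ Rt (f v))) → ∃ v ∈ H, v ≠ 0 ∧ (f v = 1 ∨ Rt (f v) ∨ Cj ⊤ u (u * f v)) :=
    fun ⟨v, a, b, c⟩ => ⟨v, a, b, c.imp_right .inl⟩
  rcases p.eq with o | rfl
  · have := ev.2 (by rw [o, map_zero])
    have := n4 o
    exact w (q.fin_a h p.ch o (by omega) (by omega) hf')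
  rcases p.ch.zo with o | o
  · have := ev.2 o
    exact w (q.fin_c h p.ch p.ne o (by omega) hf')
  · exact q.fin_b h p.ch o (h4 (o ▸ one_ne_zero)) hf'

end Sq

end Cfsg.Lib.SD
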