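import Cfsg.Agent.Lib.SD.C2
import Cfsg.Agent.Lib.SD.G4

/-!
# SD: outer involutions `θ` (`φ = T θ`, `σ = σ θ ≠ 1`, `V₀ = {x | φ x = x}`), and small facts for Step 1 in the case `t ≁ t a₂`.
-/

set_option autoImplicit false
set_option linter.unusedSectionVars false

namespace Cfsg.Lib.SD

open Subgroup Cfsg.Lib.BG Cfsg.Lib.Symp Cfsg.Lib.OD Module
open scoped Cfsg.Lib.Transfer commutatorElement

variable {F V : Type*} [Field F] [Finite F] [CharP F 2] [AddCommGroup V] [Module F V] [FiniteDimensional F V] {B : LinearMap.BilinForm F V}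
  {a a' u z : isom B} {x y e e' m m' c₁ : V} {r s : F} {θ : MulAut (isom B)} {U : Submodule F V} {P : Subgroup (isom B)} {S : Subgroup (MulAut (isom B))}
  {f : V → isom B} {H : Submodule F V}

/-- The fixed points of an automorphism. -/
def fa {J : Type*} [Group J] (θ : MulAut J) : Subgroup J := θ.toMonoidHom.eqLocus (.id J)
theorem mem_fa {J : Type*} [Group J] {θ : MulAut J} {x : J} : x ∈ fa θ ↔ θ x = x := Iff.rfl

/-- An outer involution. -/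
structure Ou (M : Sm B) (θ : MulAut (isom B)) : Prop where
  q : Sq B
  sq : θ * θ = 1
  ne : M.σ θ ≠ 1

namespace Sq
variable (q : Sq B)
include q

/-- `exists_fixT` twice (`⊥ < ⊤`, `⟨e⟩ < e^⊥`). -/
theorem exists_ln (M : Sm B) (hS : IsPGroup 2 S) : ∃ e e', Ln B e e' ∧ ∀ θ ∈ S, M.T θ e = e ∧ M.T θ e' + e' ∈ F ∙ e := by
  have := q.nt
  obtain ⟨e, -, e0, he⟩ := exists_fixT hS M.T M.add (A := (⊥ : Submodule F V)) (A' := ⊤) bot_lt_top
    (fun θ _ x hx => by rw [(Submodule.mem_bot F).1 hx]; exact M.zero _) fun _ _ _ _ => trivial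
  replace he : ∀ θ ∈ S, M.T θ e = e := fun θ hθ => sub_eq_zero.1 ((sub_eq F _ _).trans (he θ hθ))
  have d := q.dim
  obtain ⟨e', o, e1, he'⟩ := exists_fixT hS M.T M.add (A := F ∙ e) (A' := pp B (F ∙ e))
    (lt_of_le_of_ne ((Submodule.span_singleton_le_iff_mem _ _).2 (mem_pp1.2 (q.bb e))) fun k => by
      have := q.fr_pp (F ∙ e)
      have := fr1 (F := F) e
      rw [← k] at *
      omega) (fun θ hθ x => M.span_inv (he θ hθ)) fun θ hθ x hx => mem_pp1.2 (M.o_inv (he θ hθ) (mem_pp1.1 hx))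
  exact ⟨e, e', ⟨e0, e1, mem_pp1.1 o⟩, fun θ hθ => ⟨he θ hθ, he' θ hθ⟩⟩

/-- `ind_E`, `E_add_smul`. -/
theorem ln_fix (M : Sm B) (l : Ln B e e') (h : M.T θ e = e ∧ M.T θ e' + e' ∈ F ∙ e) (r s : F) : θ (E B e (r • e') s) = E B e (M.σ θ r • e') (M.σ θ s) := by
  have or : ∀ r : F, B e (r • e') = 0 := fun r => by simp [l.o]
  obtain ⟨c, hc⟩ := Submodule.mem_span_singleton.1 h.2
  rw [q.ind_E (M.ind' θ) (or r), h.1, M.smul, ← q.E_add_smul (or _) (M.σ θ r * c), mul_smul, hc, ← smul_add, add_comm (M.T θ e'), ← add_assoc, vv F, zero_add]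

/-- See the proof of `even_cnt` (`cz_fix'`, `E_mem`, `eq_E`, `chain`, `E_inj`). -/
theorem cen_U (l : Ln B e e') (hP : Syl 2 P ⊤) (h : P ≤ 𝐂[E B e e' 1]) (a2 : a * a = 1) (ha : a ∈ 𝐂(P)) : ∃ r s : F, a = E B e (r • e') s := by
  have cm : ∀ p ∈ P, p * a * p⁻¹ = a := fun p hp => mul_inv_eq_iff_eq_mul.2 (mem_cent.1 ha p hp)
  obtain ⟨m, s, hm, rfl⟩ := q.eq_E l.ne a2 fun m s k => (mem_cent.1 ha _ (q.E_mem hP (fun p hp => (q.cz_fix' l (h hp)).1) k trivial)).symm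
  have il : ∀ p ∈ P, ∀ x ∈ li F e e', p.1 x ∈ li F e e' := fun p hp => q.cz_li l p (h hp)
  have b : ∀ p ∈ P, ∀ x ∈ (⊥ : Submodule F V), p.1 x ∈ (⊥ : Submodule F V) := by simp
  have key : ∀ n ∈ pp B (li F e e'), B m e' • n + B m n • e' ∈ F ∙ e := fun n hn => by
    have o := mem_pp2.1 hn
    have := cm _ (q.chain hP le_rfl bot_le (q.li_le l) (by rw [q.pp_pp]; exact q.li_le l) b b il (pp_inv il) (g := E B e' n 0) trivial (by simp) (by simp)
      (fun x hx => by rw [q.nv_E o.2, hn x hx, q.li_le l (li_e' F) x hx]; simp) fun x hx => by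
        rw [q.nv_E o.2, q.o' (mem_pp2.1 hx).2, zero_smul, zero_add]; exact Submodule.smul_mem _ _ (li_e' F))
    rw [conj_E, q.E_fix o.2 l.o o.1] at this
    have k := (q.E_inj l.ne (by rw [← q.E_fix (s := 0) o.2 l.o o.1, bil_ap, hm]) hm this).1
    rwa [q.E_ap o.2, zero_mul, add_zero, add_assoc m, add_right_comm, vv F, zero_add] at k
  obtain ⟨n, n1, n2⟩ := q.exists_n (e := e) (e' := e') 0
  have z := smul_nmem (fun k => n2 (Submodule.mem_sup_left k)) ((add_mem_cancel_right (Submodule.smul_mem _ _ (li_e' F))).1 (e_li (key n n1)))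
  obtain ⟨c, r, rfl⟩ := Submodule.mem_span_pair.1 ((q.pp_pp (li F e e')).le fun n hn => q.o' (smul_nmem l.nm (by simpa [z] using key n hn)) : m ∈ _)
  exact ⟨r, s, by rw [add_comm, q.E_add_smul (by simp [l.o])]⟩

/-- `cz_fix'`, `conj_E`, `E_add_smul`. -/
theorem cz_cen (l : Ln B e e') (r s : F) : 𝐂[E B e e' 1] ≤ 𝐂[E B e (r • e') s] := fun g hg => by
  obtain ⟨h1, h2⟩ := q.cz_fix' l hg
  obtain ⟨c, hc⟩ := Submodule.mem_span_singleton.1 h2
  refine memC (mul_inv_eq_iff_eq_mul.1 ?_)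
  rw [conj_E, h1, map_smul, ap_eq, ← hc, smul_add, smul_smul, q.E_add_smul (by simp [l.o])]

/-- `n, n' ∈ ℓ^⊥ ∖ ℓ`, `B(n, n') = 1`, `a = E(e, n, 0)`, `b = E(e', n', 0)` (see `xs_gen`). -/
theorem xs_gen2 (l : Ln B e e') : ∃ a b, (∀ x ∈ [a, b], Fu 𝐂[E B e e' 1] x ∧ x ∈ Q0 B _ (q.li_le l)) ∧ ⁅a, b⁆ = E B e e' 0 := by
  obtain ⟨n, n1, n2⟩ := q.exists_n (e := e) (e' := e') 0
  replace n2 : n ∉ li F e e' := fun k => n2 (Submodule.mem_sup_left k)
  obtain ⟨m, m1, o⟩ := q.exists_pp n2 1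
  have m2 : m ∉ li F e e' := fun k => zero_ne_one ((q.o' (n1 m k)).symm.trans o)
  have on := mem_pp2.1 n1
  have om := mem_pp2.1 m1
  refine ⟨E B e n 0, E B e' m 0, ?_, ?_⟩
  · simp only [List.forall_mem_cons, List.not_mem_nil, false_imp_iff, implies_true, and_true]
    exact ⟨⟨fu_mono (fx_le e e' 1) (q.fu_E (q.li_le l) (fr2 ..) (li_e F) n1 n2 0), q.E_Q0 l (li_e F) n1 0⟩,
      fu_mono (fx_le e e' 1) (q.fu_E (q.li_le l) (fr2 ..) (li_e' F) m1 m2 0), q.E_Q0 l (li_e' F) m1 0⟩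
  rw [commutatorElement_def, conj_E, q.E_fix on.1 (q.o' l.o) on.2, q.E_ap on.1, q.E_inv, q.E_mul (by simp [om.2, q.o' l.o, on.2]) om.2, ← q.E_sw l.o]
  simp [q.o' om.1, q.sy m n, o, q.bb, om.1, add_right_comm m e, vv F]

/-- `ind_E`. -/
theorem b1_aut (h : B1 a) (θ : MulAut (isom B)) : B1 (θ a) := by
  obtain ⟨M⟩ := q.sm
  obtain ⟨y, s, h0, hs, rfl⟩ := h
  exact ⟨M.T θ y, M.σ θ s, fun e => h0 ((M.T θ).injective (e.trans (M.zero θ).symm)), (map_ne_zero _).2 hs, by rw [q.ind_E (M.ind' θ) (map_zero _), M.zero]⟩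

/-- `a = E(x, 0, s)`, `a' = E(y, 0, r)`, `a' a a'⁻¹ = E(x + r B(x, y) y, 0, s)`; `commute_tv_iff` (`E_tv`): `r B(x, y)² = 0`. -/
theorem b1_rigid (h : B1 a) (h' : B1 a') (k : a * (a' * a * a'⁻¹) = a' * a * a'⁻¹ * a) : a * a' = a' * a := by
  obtain ⟨x, s, -, hs, rfl⟩ := h
  obtain ⟨y, r, -, hr, rfl⟩ := h'
  rw [conj_E, map_zero, q.E_ap (map_zero _), q.E_tv, q.E_tv] at k
  have := (commute_tv_iff q.alt q.nd hs hs).1 k
  rw [q.E_tv, q.E_tv]
  exact (commute_tv_iff q.alt q.nd hs hr).2 (by simpa [q.bb, hr] using this)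

theorem b1_key {w : V} {p : F} (x0 : x ≠ 0) (s0 : s ≠ 0) (r0 : r ≠ 0) (k : E B x 0 s * E B y 0 r = E B w 0 p) : y ∈ F ∙ x := by_contra fun n => by
  have k1 : ∀ v, (s * B v x) • x + (r * B v y) • y + (s * (r * B v y * B y x)) • x = (p * B v w) • w := fun v => by
    simpa [nv_mul', q.nv_E (map_zero _), mul_assoc] using congrArg (nv · v) k
  obtain ⟨v, a, b⟩ := q.exists_pp n 1
  obtain ⟨v', a', b'⟩ := q.exists_pp (x := x) (U := F ∙ y) (fun m => by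
    obtain ⟨c, rfl⟩ := Submodule.mem_span_singleton.1 m
    exact n (Submodule.mem_span_singleton.2 ⟨c⁻¹, inv_smul_smul₀ (left_ne_zero_of_smul x0) y⟩)) 1
  have e := k1 v'
  rw [q.o' (mem_pp1.1 a'), q.sy, b'] at e
  simp only [mul_zero, zero_mul, zero_smul, add_zero, mul_one] at e
  have m : w ∈ F ∙ x := (Submodule.smul_mem_iff _ (left_ne_zero_of_smul (e ▸ smul_ne_zero s0 x0))).1 (e ▸ sm_self s x)
  have := k1 v ▸ Submodule.smul_mem _ (p * B v w) m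
  rw [add_mem_cancel_right (sm_self _ x), add_mem_cancel_left (sm_self _ x), q.sy, b, mul_one] at this
  exact r0 (smul_nmem n this)

/-- If `E(x, 0, s) E(y, 0, r) = E(w, 0, p)` then `y ∈ ⟨x⟩` (else take `v ⊥ x`, `B(y, v) = 1`: `a v = v`, the product moves `v` by `r y`, so `y ∈ ⟨w⟩`; in the same way `x ∈ ⟨w⟩`, or `wv` has rank two).
Fix `v₀ ≠ 0` in `H`, `f v₀ = E(x, 0, s)`; every `f v`, `v ≠ 0`, is `E(x, 0, r v)` (`E_smul`); put `r 0 = 0`; `pigeon`: `f (v + v') = 1` (or `v' = 0`, `r v = 0`) is not `B1` (`rt_ne`). -/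
theorem b1_sub (hH : 2 ≤ finrank F H) (mul : ∀ v ∈ H, ∀ v' ∈ H, f (v + v') = f v * f v') (h : ∀ v ∈ H, v ≠ 0 → B1 (f v)) : False := by
  obtain ⟨v₀, h1, h2⟩ := exists_nmem (U := H) (U' := ⊥) (by rw [finrank_bot]; omega)
  obtain ⟨x, s, x0, s0, e⟩ := h v₀ h1 h2
  have : ∀ v, ∃ r, v ∈ H → f v = E B x 0 r := fun v => by
    by_cases hv : v ∈ H
    swap
    · exact ⟨0, fun k => (hv k).elim⟩
    by_cases v0 : v = 0
    · exact ⟨0, fun _ => by rw [q.E_zero, v0]; exact mul_left_cancel (a := f 0) (by rw [← mul 0 (zero_mem _) 0 (zero_mem _), add_zero, mul_one])⟩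
    by_cases v1 : v₀ + v = 0
    · exact ⟨s, fun _ => by rw [← e, ← add_zero v₀, ← v1, ← add_assoc, vv F, zero_add]⟩
    obtain ⟨y, r, -, r0, e'⟩ := h v hv v0
    obtain ⟨w, p, -, -, e''⟩ := h _ (add_mem h1 hv) v1
    obtain ⟨c, rfl⟩ := Submodule.mem_span_singleton.1 (q.b1_key (w := w) (p := p) x0 s0 r0 (by rw [← e'', mul _ h1 _ hv, e, e']))
    exact ⟨c ^ 2 * r, fun _ => by rw [e', q.E_smul (map_zero _), smul_zero]⟩
  choose r hr using this
  obtain ⟨v, hv, v', hv', n, k⟩ := pigeon hH r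
  exact q.rt_ne (.inl (h _ (add_mem hv hv') n)) (by rw [mul v hv v' hv', hr v hv, hr v' hv', k, q.E_sq])

/-- `pigeon3` with `r = 0`, `gd_nl`, `three`: `N = 0`. -/
theorem three_a (h : Hi u) (c : Ch u c₁) (h0 : nv u c₁ = 0) (hH : 4 ≤ finrank F H) (mul : ∀ v ∈ H, ∀ v' ∈ H, f (v + v') = f v * f v')
    (g : ∀ v ∈ H, v ≠ 0 → Gd u (f v)) : False := by
  obtain ⟨a, ha, b, hb, d, hd, -, -, -, k⟩ := pigeon3 hH (fun _ => 0) fun _ _ _ _ => (add_zero _).symm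
  simp only [List.forall_mem_cons, List.not_mem_nil, false_imp_iff, implies_true, and_true] at k
  obtain ⟨k1, k2, k3, k4, k5, k6, k7⟩ := k
  have n := fun v hv v0 => q.gd_nl h c h0 (g v hv v0)
  have := h.rk
  rw [wv_bot.2 (eq_one_of fun x => q.three h.sq (n a ha k1) (n b hb k2) (n d hd k3) (mul a ha b hb ▸ n _ (add_mem ha hb) k4) (mul a ha d hd ▸ n _ (add_mem ha hd) k5)
    (mul b hb d hd ▸ n _ (add_mem hb hd) k6) (mul a ha b hb ▸ mul _ (add_mem ha hb) d hd ▸ n _ (add_mem (add_mem ha hb) hd) k7) (by rw [h0, map_zero])), finrank_bot] at this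
  omega

end Sq

namespace Ou
variable {M : Sm B} (o : Ou M θ)
include o

theorem TT (x : V) : M.T θ (M.T θ x) = x := by rw [← Equiv.Perm.mul_apply, ← map_mul, o.sq, map_one, Equiv.Perm.one_apply]
theorem σσ (c : F) : M.σ θ (M.σ θ c) = c := by rw [← RingAut.mul_apply, ← map_mul, o.sq, map_one, RingAut.one_apply]
/-- `σ c ≠ c`, `l = c / (c + σ c)`. -/
theorem exists_l : ∃ l : F, l + M.σ θ l = 1 := by
  obtain ⟨c, hc⟩ := not_forall.1 fun k => o.ne (RingEquiv.ext k)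
  exact ⟨c / (c + M.σ θ c), by rw [map_div₀, map_add, o.σσ, add_comm _ c, ← add_div, div_self (a := c + M.σ θ c) fun e => hc (CharTwo.add_eq_zero.1 e).symm]⟩
theorem tr_fix (x : V) : M.T θ (x + M.T θ x) = x + M.T θ x := by rw [M.add, o.TT, add_comm]
theorem pp_inv (h : ∀ x ∈ U, M.T θ x ∈ U) (hx : x ∈ pp B U) : M.T θ x ∈ pp B U := fun w hw => by rw [← o.TT w, M.bil, hx _ (h w hw), map_zero]
/-- The span of fixed vectors is invariant. -/
theorem span_inv {A : Set V} (h : ∀ x ∈ A, M.T θ x = x) (hx : x ∈ Submodule.span F A) : M.T θ x ∈ Submodule.span F A := by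
  induction hx using Submodule.span_induction with
  | mem x hx => exact (h x hx).symm ▸ Submodule.subset_span hx
  | zero => exact (M.zero θ).symm ▸ zero_mem _
  | add x y _ _ a b => exact (M.add θ x y).symm ▸ add_mem a b
  | smul c x _ a => exact (M.smul θ c x).symm ▸ Submodule.smul_mem _ _ a
/-- An invariant subspace is spanned by its fixed vectors: with `l` from `exists_l`, `σ l = l + 1`, `p = x + φ x`, `p' = l x + φ (l x) = l x + (l + 1) φ x`, `x = (l + 1) p + p'`. -/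
theorem le_of_fix {U' : Submodule F V} (h : ∀ x ∈ U, M.T θ x ∈ U) (k : ∀ x ∈ U, M.T θ x = x → x ∈ U') : U ≤ U' := fun x hx => by
  obtain ⟨l, hl⟩ := o.exists_l
  have t := fun x hx => k _ (add_mem hx (h x hx)) (o.tr_fix x)
  have := add_mem (U'.smul_mem (l + 1) (t x hx)) (t _ (U.smul_mem l hx))
  have two : (2 : F) = 0 := two0
  rwa [M.smul, show (l + 1) • (x + M.T θ x) + (l • x + M.σ θ l • M.T θ x) = x by match_scalars <;> grind] at this
/-- `w₀ ∈ U^⊥`, `B(x, w₀) = l`, `w = w₀ + φ w₀`. -/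
theorem exists_pp (h : ∀ x ∈ U, M.T θ x ∈ U) (hx : M.T θ x = x) (n : x ∉ U) : ∃ w ∈ pp B U, M.T θ w = w ∧ B x w = 1 := by
  obtain ⟨l, hl⟩ := o.exists_l
  obtain ⟨w, a, b⟩ := o.q.exists_pp n l
  exact ⟨_, add_mem a (o.pp_inv h a), o.tr_fix w, by rw [map_add, ← hl, ← b, ← M.bil, hx]⟩
/-- `ind_E`. -/
theorem E_mem (hy : M.T θ y = y) (hm : M.T θ m = m) (hs : M.σ θ s = s) : E B y m s ∈ fa θ := by
  by_cases k : B y m = 0
  · rw [mem_fa, o.q.ind_E (M.ind' θ) k, hy, hm, hs]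
  · rw [E, dif_neg fun c => k c.2]; exact one_mem _
omit o in
theorem _root_.Cfsg.Lib.SD.Sm.σ_fix (hx : M.T θ x = x) (hy : M.T θ y = y) : M.σ θ (B x y) = B x y := by rw [← M.bil, hx, hy]
theorem tr1 (_ : M.T θ e = e) (hm : M.T θ m = m) (hx : M.T θ x = x) (h1 : B e m = 0) (h2 : B e x = 0) (h : B m x ≠ 0) : Cj (fa θ) (E B e m 0) (E B e x 0) :=
  ⟨E B (m + x) 0 (B m x)⁻¹, o.E_mem (by rw [M.add, hm, hx]) (M.zero θ) (by rw [map_inv₀, M.σ_fix hm hx]), by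
    rw [conj_E, o.q.E_fix (map_zero _) (by simp [h1, h2]) (map_zero _), o.q.E_ap (map_zero _)]; simp [o.q.bb, h, ← add_assoc, vv F]⟩
/-- A fixed `x ⊥ e` with `B(m, x) ≠ 0 ≠ B(m', x)` (one of `x₁, x₂, x₁ + x₂` from `exists_pp`); `E(m + x, 0, B(m, x)⁻¹) ∈ fa θ` fixes `e` and maps `m` to `x`. -/
theorem tr (he : M.T θ e = e) (hm : M.T θ m = m) (hm' : M.T θ m' = m') (l : Ln B e m) (l' : Ln B e m') : Cj (fa θ) (E B e m 0) (E B e m' 0) := by
  obtain ⟨x₁, a1, a2, a3⟩ := o.exists_pp (U := F ∙ e) (fun _ => M.span_inv he) hm l.nm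
  obtain ⟨x₂, b1, b2, b3⟩ := o.exists_pp (U := F ∙ e) (fun _ => M.span_inv he) hm' l'.nm
  rw [mem_pp1] at a1 b1
  by_cases c : B m' x₁ = 0
  swap
  · exact (o.tr1 he hm a2 l.o a1 (a3 ▸ one_ne_zero)).trans (o.tr1 he hm' a2 l'.o a1 c).symm
  by_cases c' : B m x₂ = 0
  swap
  · exact (o.tr1 he hm b2 l.o b1 c').trans (o.tr1 he hm' b2 l'.o b1 (b3 ▸ one_ne_zero)).symm
  have d : M.T θ (x₁ + x₂) = x₁ + x₂ := by rw [M.add, a2, b2]
  exact (o.tr1 he hm d l.o (by simp [a1, b1]) (by simp [a3, c'])).trans (o.tr1 he hm' d l'.o (by simp [a1, b1]) (by simp [b3, c])).symm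
theorem exists_fx {U' : Submodule F V} (h : ∀ x ∈ U, M.T θ x ∈ U) (k : finrank F U' < finrank F U) : ∃ x ∈ U, M.T θ x = x ∧ x ∉ U' := by
  by_contra! c
  exact k.not_ge (Submodule.finrank_mono (o.le_of_fix h c))
/-- A fixed `m₁ ∈ ⟨e, m⟩^⊥ ∖ ⟨e, m⟩` (`le_of_fix`, dimensions); `tr`, `E_mul`. -/
theorem fu (he : M.T θ e = e) (hm : M.T θ m = m) (l : Ln B e m) : Fu (fa θ) (E B e m 0) := by
  obtain ⟨n, n1, n2, n3⟩ := o.exists_fx (U := pp B (li F e m)) (U' := li F e m) (fun _ => o.pp_inv fun _ => o.span_inv (by simp [he, hm])) (by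
    have := o.q.fr_pp (li F e m); have : finrank F (li F e m) ≤ 2 := fr2 e m; have := o.q.dim; omega)
  have p := mem_pp2.1 n1
  obtain ⟨a, ha, e1⟩ := o.tr he hm n2 l ⟨l.ne, fun k => n3 (e_li k), p.1⟩
  obtain ⟨b, hb, e2⟩ := o.tr he hm (m' := m + n) (by rw [M.add, hm, n2]) l ⟨l.ne, fun k => n3 ((add_mem_cancel_left (li_e' F)).1 (e_li k)), by simp [l.o, p.1]⟩
  exact ⟨o.E_mem he hm (map_zero _), o.q.E_sq .., a, ha, b, hb, by rw [e1, e2, o.q.E_mul l.o p.1, p.2, add_zero, add_zero]⟩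
/-- Fixed `m' ⊥ e`, `B(m, m') = 1`, and fixed `e' ∈ ⟨e, m, m'⟩^⊥ ∖ ⟨e⟩`; `z' = E(e', m', 0)`, `z' z z'⁻¹ = E(e, m + e', 0)` (`E_comm`, `E_inj`).  `E(e, m, 0) = E(m, e, 0) ~ E(m, e', 0) = E(e', m, 0) ~ E(e', m', 0)` (`E_sw`, `tr`). -/
theorem nrigid (he : M.T θ e = e) (hm : M.T θ m = m) (l : Ln B e m) : ∃ z', Cj (fa θ) (E B e m 0) z' ∧
    E B e m 0 * (z' * E B e m 0 * z'⁻¹) = z' * E B e m 0 * z'⁻¹ * E B e m 0 ∧ E B e m 0 * z' ≠ z' * E B e m 0 := by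
  have q := o.q
  obtain ⟨m', a1, a2, a3⟩ := o.exists_pp (U := F ∙ e) (fun _ => M.span_inv he) hm l.nm
  rw [mem_pp1] at a1
  obtain ⟨e', b1, b2, b3⟩ := o.exists_fx (U := pp B (Submodule.span F {m', e, m})) (U' := F ∙ e) (fun _ => o.pp_inv fun _ => o.span_inv (by simp [he, hm, a2])) (by
    have := q.fr_pp (Submodule.span F {m', e, m})
    rw [Submodule.span_insert, sup_comm] at this ⊢
    have := fr_sup (Submodule.span F {e, m}) m'; have := fr2 (F := F) e m; have := fr1 (F := F) e; have := q.dim; omega)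
  rw [Submodule.span_insert, pp_sup, Submodule.mem_inf, mem_pp1, mem_pp2] at b1
  obtain ⟨c1, c2, c3⟩ := b1
  have l1 : Ln B m e' := ⟨(q.ln_symm l).ne, fun k => by
    obtain ⟨c, rfl⟩ := Submodule.mem_span_singleton.1 k
    exact b3 (by rw [show c = 0 by simpa [q.sy m', a3] using c1, zero_smul]; exact zero_mem _), c3⟩
  have l2 : Ln B e' m' := ⟨(q.ln_symm l1).ne, fun k => by
    obtain ⟨c, rfl⟩ := Submodule.mem_span_singleton.1 k
    simp [c3] at a3, q.o' c1⟩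
  have z : E B e' m' 0 * E B e m 0 * (E B e' m' 0)⁻¹ = E B e (m + e') 0 := by rw [conj_E, q.E_fix l2.o c2 a1, q.E_ap l2.o]; simp [c3, a3]
  have p : B e (m + e') = 0 := by simp [l.o, c2]
  refine ⟨E B e' m' 0, ?_, by rw [z, q.E_comm l.o p], fun k => b3 ?_⟩
  · rw [← q.E_sw l.o]
    exact (o.tr hm he b2 (q.ln_symm l) l1).trans (q.E_sw l1.o ▸ o.tr b2 hm a2 (q.ln_symm l1) l2)
  · simpa [← add_assoc, vv F] using (q.E_inj l.ne l.o p (by rw [← z, ← k, mul_inv_cancel_right])).1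
/-- `g = E(e, l m, 0)`, `θ g = E(e, (l + 1) m, 0)`. -/
theorem lang (he : M.T θ e = e) (hm : M.T θ m = m) (l : Ln B e m) : ∃ g : isom B, g * (θ g)⁻¹ = E B e m 0 := by
  obtain ⟨c, hc⟩ := o.exists_l
  have p : ∀ r : F, B e (r • m) = 0 := fun r => by simp [l.o]
  exact ⟨E B e (c • m) 0, by rw [o.q.ind_E (M.ind' θ) (p c), he, M.smul, hm, o.q.E_inv, o.q.E_mul (p _) (p _), ← add_smul, hc]; simp [o.q.bb]⟩
/-- `e, e'` from `exists_ln`; `φ e' = e' + r e`, `φ² = 1` gives `σ r = r`; `m = e' + l r e` is fixed by `φ`, `E(e, m, 0) = E(e, e', 0)` (`E_add_smul`, `ln_fix`). -/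
theorem exists_z (hS : IsPGroup 2 S) (h : θ ∈ S) : ∃ e m, M.T θ e = e ∧ M.T θ m = m ∧ Ln B e m ∧ ∀ η ∈ S, η (E B e m 0) = E B e m 0 := by
  obtain ⟨e, e', l, k⟩ := o.q.exists_ln M hS
  obtain ⟨c, hc⟩ := o.exists_l
  obtain ⟨r, hr⟩ := Submodule.mem_span_singleton.1 (k θ h).2
  have hs : M.σ θ r = r := smul_left_injective F l.ne (by
    have := congrArg (M.T θ) hr
    rwa [M.smul, (k θ h).1, add_comm, o.tr_fix, add_comm, ← hr] at this)
  have two : (2 : F) = 0 := two0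
  refine ⟨e, e' + (c * r) • e, (k θ h).1, ?_, ⟨l.ne, fun m => l.nm ((add_mem_cancel_right (sm_self _ e)).1 m), by simp [l.o, o.q.bb]⟩, fun η hη => ?_⟩
  · rw [M.add, M.smul, (k θ h).1, map_mul, hs, show M.T θ e' = r • e + e' by rw [hr, add_assoc, vv F, add_zero]]
    match_scalars <;> grind
  · simpa [o.q.E_add_smul l.o] using o.q.ln_fix M l (k η hη) 1 0
/-- `e ≠ 0` fixed by `S` (`exists_ln`, `Sm.cj`); `E(e, m, s) ∈ P` for fixed `m ⊥ e`, `s ∈ {0, 1}` (`Sq.E_mem`, `E_mem`).  `a e = e` (`E_one_inj`), `a m + m ∈ ⟨e⟩` (`E_inj`), `le_of_fix` with `U = e^⊥`,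
`U' = comap (nv a) ⟨e⟩`; `mem_pointRad_of`, `rt_E`. -/
theorem zo (hS : IsPGroup 2 S) (h : θ ∈ S) (hP : Syl 2 P (fa θ)) (k : ∀ p ∈ P, MulAut.conj p ∈ S) (ha : a ∈ 𝐂(P)) : a = 1 ∨ Rt a := by
  have q := o.q
  obtain ⟨e, e', l, k'⟩ := q.exists_ln M hS
  have he := (k' θ h).1
  have c : ∀ m s, B e m = 0 → M.T θ m = m → M.σ θ s = s → E B (a.1 e) (a.1 m) s = E B e m s := fun m s p hm hs => by
    rw [← conj_E, ← mem_cent.1 ha _ (q.E_mem hP (fun p hp => (M.cj p e).symm.trans (k' _ (k p hp)).1) p (o.E_mem he hm hs)), mul_inv_cancel_right]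
  have a1 : a.1 e = e := q.E_one_inj (by rw [bil_ap, map_zero]) (map_zero _) (c 0 1 (map_zero _) (M.zero θ) (map_one _))
  have := o.le_of_fix (U := pp B (F ∙ e)) (U' := (F ∙ e).comap (nv a)) (fun _ => o.pp_inv fun _ => M.span_inv he) fun m p hm => by
    have p := mem_pp1.1 p
    have := c m 0 p hm (map_zero _)
    rw [a1] at this
    exact Submodule.mem_comap.2 (by rw [nv_apply, sub_eq F]; exact (q.E_inj l.ne (by rw [← a1, bil_ap, p]) p this).1)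
  obtain ⟨m, s, p, rfl⟩ := mem_pointRad_of q.alt q.nd l.ne a1 fun x hx => by
    obtain ⟨c, hc⟩ := Submodule.mem_span_singleton.1 (Submodule.mem_comap.1 (this (mem_pp1.2 (q.o' hx))))
    exact ⟨c, by rw [ap_eq, hc]⟩
  exact q.E_eq p ▸ q.rt_E e m s

end Ou

end Cfsg.Lib.SD
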