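import Cfsg.Agent.Lib.SD.D1
import Cfsg.Agent.Lib.SD.C3

/-!
# SD: if `t ≁ t a₂` then `t ≁ t c₂`, and the relation `d ∈ t b₁` is symmetric.
-/

set_option autoImplicit false
set_option linter.unusedSectionVars false

namespace Cfsg.Lib.SD

open Subgroup Cfsg.Lib.BG Cfsg.Lib.Symp Cfsg.Lib.OD Module
open scoped Cfsg.Lib.Transfer commutatorElement

variable {F V : Type*} [Field F] [Finite F] [CharP F 2] [AddCommGroup V] [Module F V] [FiniteDimensional F V] {B : LinearMap.BilinForm F V}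
  {G : Type*} [Group G] [Finite G] {ψ : isom B →* G} {t d g : G} {u w a z : isom B} {N T X : Subgroup G} {κ : 𝐂[t] →* MulAut (isom B)} {e e' : V}

theorem exists_nT (hT : Syl 2 T 𝐂[t]) (e : IsConj t d) (h : T ≤ 𝐂[d]) : ∃ g ∈ 𝐍(T), g * t * g⁻¹ = d := by
  obtain ⟨c, rfl⟩ := isConj_iff.1 e
  have s : Syl 2 (c ⋆ T) 𝐂[c * t * c⁻¹] := conj_cent1 c t ▸ Hall.conj hT c
  obtain ⟨x, hx, k⟩ := (Syl.of_card_le' s hT.pgroup h (Transfer.card_conj c T).le).exists_conj_le s.pgroup s.le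
  refine ⟨x * c, norm_of_conj_eq (eq_of_le_of_card_ge (Transfer.conj_conj x c T ▸ k) (Transfer.card_conj _ T).ge), ?_⟩
  rw [show x * c * t * (x * c)⁻¹ = x * (c * t * c⁻¹) * x⁻¹ by group, mem_cent1.1 hx, mul_inv_cancel_right]

/-- `g` normalizes a group between `ψ C(z)` and `C(t, ψ z)`. -/
structure Nx (ψ : isom B →* G) (t : G) (z : isom B) (X : Subgroup G) (g : G) : Prop where
  le : map ψ 𝐂[z] ≤ X
  le' : X ≤ 𝐂[t] ⊓ 𝐂[t * ψ z]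
  nm : g ∈ 𝐍(X)

namespace Cx
variable (c : Cx ψ t N κ)
include c

section
variable (n : Nx ψ t z X g)
include n

theorem nx_cen (hw : w ∈ 𝐂[z]) (h : ψ a = g * ψ w * g⁻¹) : a ∈ 𝐂[z] :=
  (mem_map_iff_mem c.inj).1 (c.mc.ge ⟨⟨a, rfl⟩, h ▸ n.le' (conj_mem_of_norm n.nm (n.le ⟨w, hw, rfl⟩))⟩)
theorem nx_fu (h : Fu 𝐂[z] w) : ∃ a, ψ a = g * ψ w * g⁻¹ := c.fuL (d := g⁻¹ * t * g⁻¹⁻¹) (fun x hx => by
  have := Ex.cj_cen (g := g⁻¹) rfl (n.le' (conj_mem_of_norm n.nm (n.le hx))).1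
  rwa [show g⁻¹ * (g * x * g⁻¹) * g⁻¹⁻¹ = x by group] at this) (by group) h
theorem nx_norm {Y : Subgroup (isom B)} (hY : ∀ θ : MulAut (isom B), θ z = z → ∀ y ∈ Y, θ y ∈ Y) : 𝐂[z] ≤ 𝐍(comap ψ (g ⋆ map ψ Y)) := by
  have : Finite (isom B) := .of_injective _ c.inj
  refine le_norm_iff.2 fun l hl w hw => ?_
  obtain ⟨_, ⟨y, hy, rfl⟩, k⟩ := mem_comap.1 hw
  have m := n.le' (conj_mem_of_norm (inv_mem n.nm) (n.le ⟨l, hl, rfl⟩))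
  refine mem_comap.2 ⟨_, ⟨_, hY _ (c.ka_z m) y hy, rfl⟩, ?_⟩
  replace k : g * ψ y * g⁻¹ = ψ w := k
  change g * _ * g⁻¹ = _
  rw [c.ka.ac, map_mul, map_mul, map_inv, ← k]; group
theorem nx_fu2 (h2 : ∀ r : F, r = 0 ∨ r = 1) (f : Fu 𝐂[z] w) (k : ψ a = g * ψ w * g⁻¹) : Fu 𝐂[z] a := by
  obtain ⟨M⟩ := c.q.sm
  have inn : ∀ θ : MulAut (isom B), ∃ o, θ = MulAut.conj o := fun θ => M.inner (RingEquiv.ext fun r => by rcases h2 r with rfl | rfl <;> simp)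
  obtain ⟨f1, f2, x, hx, y, hy, f3⟩ := f
  have t : ∀ x ∈ 𝐂[z], ∃ x' ∈ 𝐂[z], ψ (x' * a * x'⁻¹) = g * ψ (x * w * x⁻¹) * g⁻¹ := fun x hx => by
    have m := n.le' (conj_mem_of_norm n.nm (n.le ⟨x, hx, rfl⟩))
    obtain ⟨o, ho⟩ := inn (κ ⟨_, m.1⟩)
    refine ⟨o, memC (mul_inv_eq_iff_eq_mul.1 (by simpa [ho] using c.ka_z m)), ?_⟩
    have := c.ka.ac ⟨_, m.1⟩ a
    rw [ho, k] at this
    rw [← MulAut.conj_apply, this, map_mul, map_mul, map_inv]; group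
  obtain ⟨x', hx', kx⟩ := t x hx
  obtain ⟨y', hy', ky⟩ := t y hy
  exact ⟨c.nx_cen n f1 k, c.inj (by rw [map_mul, k, map_one]; exact Ex.sq_cj (by rw [← map_mul, f2, map_one]) g), x', hx', y', hy',
    c.inj (by rw [ky, f3, map_mul ψ a, kx, k, conj_mul, ← map_mul])⟩

end

/-- `g` normalizes the short root group in the centre of `C(z)`. -/
theorem xs_norm (l : Ln B e e') (n : Nx ψ t (E B e e' 1) X g) : ∃ r : F, ψ (E B e (r • e') 0) = g * ψ (E B e e' 0) * g⁻¹ := by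
  have q := c.q
  obtain ⟨M⟩ := q.sm
  have t : ∀ {x a}, x ∈ Q0 B _ (q.li_le l) → x * x = 1 → ψ a = g * ψ x * g⁻¹ → a ∈ fx B (li F e e') → a ∈ Q0 B _ (q.li_le l) := fun m s k f =>
    ⟨f, fun v => q.q0_of l ((Transfer.isPGroup_conj ((q.q0_pg _).map ψ) g).comap_of_injective ψ c.inj)
      (c.nx_norm n fun θ k y => q.q0_inv M l k) (mem_comap.2 ⟨_, ⟨_, m, rfl⟩, k.symm⟩) (fx_le _ _ _ f)
      (c.inj (by rw [map_mul, k, map_one]; exact Ex.sq_cj (by rw [← map_mul, s, map_one]) g))⟩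
  have fin : ∀ {x y a b}, ⁅x, y⁆ = E B e e' 0 → a ∈ Q0 B _ (q.li_le l) → b ∈ Q0 B _ (q.li_le l) → ψ a = g * ψ x * g⁻¹ → ψ b = g * ψ y * g⁻¹ →
      ∃ r : F, ψ (E B e (r • e') 0) = g * ψ (E B e e' 0) * g⁻¹ := fun k ha hb ka kb => (q.q0_comm l ha hb).imp fun r hr => by
    rw [← hr, ← k, map_commutatorElement, map_commutatorElement, ka, kb, conjugate_commutatorElement]
  by_cases h2 : ∀ r : F, r = 0 ∨ r = 1
  · obtain ⟨x, y, f, k⟩ := q.xs_gen2 l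
    simp only [List.mem_cons, List.not_mem_nil, or_false, forall_eq_or_imp, forall_eq] at f
    obtain ⟨a, ka⟩ := c.nx_fu n f.1.1
    obtain ⟨b, kb⟩ := c.nx_fu n f.2.1
    exact fin k (t f.1.2 f.1.1.2.1 ka (q.fu_fx l (c.nx_fu2 n h2 f.1.1 ka))) (t f.2.2 f.2.1.2.1 kb (q.fu_fx l (c.nx_fu2 n h2 f.2.1 kb))) ka kb
  push Not at h2
  obtain ⟨r₀, h0, h1⟩ := h2
  obtain ⟨h₁, a₀, h₂, b₀, f, k, kk⟩ := q.xs_gen l h0 h1 one_ne_zero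
  simp only [List.mem_cons, List.not_mem_nil, or_false, forall_eq_or_imp, forall_eq] at f k
  have t' : ∀ x y, Fu 𝐂[E B e e' 1] x → Fu 𝐂[E B e e' 1] y → ⁅x, y⁆ ∈ Q0 B _ (q.li_le l) → ⁅x, y⁆ * ⁅x, y⁆ = 1 →
      ∃ a ∈ Q0 B _ (q.li_le l), ψ a = g * ψ ⁅x, y⁆ * g⁻¹ := fun x y fx fy m s => by
    obtain ⟨x', kx⟩ := c.nx_fu n fx
    obtain ⟨y', ky⟩ := c.nx_fu n fy
    have k : ψ ⁅x', y'⁆ = g * ψ ⁅x, y⁆ * g⁻¹ := by rw [map_commutatorElement, map_commutatorElement, kx, ky, conjugate_commutatorElement]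
    exact ⟨_, t m s k (q.comm_fx l (c.nx_cen n fx.1 kx) (c.nx_cen n fy.1 ky)), k⟩
  obtain ⟨a, ha, ka⟩ := t' _ _ f.1 f.2.1 k.1.1 k.1.2
  obtain ⟨b, hb, kb⟩ := t' _ _ f.2.2.1 f.2.2.2 k.2.1 k.2.2
  exact fin (one_smul F e' ▸ kk) ha hb ka kb

/-- An involution in the centre of a Sylow `2`-subgroup of `C(t)` is `ψ x` or `t ψ x`. -/
theorem cen_T' (hT : Syl 2 T 𝐂[t]) (d2 : d * d = 1) (h2 : d ∈ T) (h3 : T ≤ 𝐂[d]) : ∃ x, (d = ψ x ∨ d = t * ψ x) ∧ x * x = 1 ∧ T ≤ 𝐂[ψ x] := by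
  obtain ⟨M⟩ := c.q.sm
  obtain ⟨U, hU, e⟩ := c.syl_U hT
  have dt := mem_cent1.1 (hT.le h2)
  have mT : ∀ x ∈ U, ψ x ∈ T := fun x hx => (e.le ⟨x, hx, rfl⟩).1
  obtain ⟨o, ho⟩ := M.inner (c.q.fld_of_fix M (θ := κ ⟨d, hT.le h2⟩) hU fun x hx => c.inj ((c.ka.ac _ x).trans
    (mul_inv_eq_iff_eq_mul.2 (mem_cent1.1 (h3 (mT x hx))).symm)))
  rcases c.q.inr c.st c.ka ⟨d, hT.le h2⟩ d2 ho with ⟨x, hx⟩ | ⟨x, hx⟩
  · replace hx : ψ x = d := hx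
    exact ⟨x, .inl hx.symm, c.inj (by rw [map_mul, hx, d2, map_one]), hx ▸ h3⟩
  · replace hx : ψ x = d * t := hx
    exact ⟨x, .inr (by rw [hx, dt, ← mul_assoc, c.st.t2, one_mul]), c.inj (by
      rw [map_mul, hx, mul_assoc, ← mul_assoc t, ← dt, mul_assoc, c.st.t2, mul_one, d2, map_one]),
      hx ▸ le_cent1_iff.2 (mul_mem (le_cent1_iff.1 h3) (le_cent1_iff.1 hT.le))⟩

theorem le_cen (h : T ≤ 𝐂[t]) (k : ∀ θ ∈ (κ.comp (inclusion h)).range, θ z = z) : T ≤ 𝐂[t * ψ z] := fun x hx => mem_cent1.2 (by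
  rw [← mul_assoc, mem_cent1.1 (h hx), mul_assoc, mul_assoc, mul_right_inj, ← mul_inv_eq_iff_eq_mul]
  exact (c.ka.ac ⟨x, h hx⟩ z).symm.trans (congrArg ψ (k _ ⟨⟨x, hx⟩, rfl⟩)))

/-- `g ∈ N(T)`, `g t g⁻¹ = t z`, normalizes the centralizer of the involutions of `Z(T)`. -/
theorem no_c2' (H : ∀ w, A2 w → ¬ IsConj t (t * ψ w)) (h : C2 w) : ¬ IsConj t (t * ψ w) := fun h' => by
  have q := c.q
  by_cases b : ∀ w, B1 w → ¬ IsConj t (t * ψ w)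
  · exact c.no_c2 (fun w k => k.elim (b w) (H w)) h h'
  push Not at b
  obtain ⟨b, hb, hb'⟩ := b
  obtain ⟨M⟩ := q.sm
  obtain ⟨T, hT⟩ := Syl.exists (p := 2) 𝐂[t]
  obtain ⟨U, hU, eU⟩ := c.syl_U hT
  obtain ⟨e, e', l, k⟩ := q.exists_ln M (hT.pgroup.of_surjective _ (κ.comp (inclusion hT.le)).rangeRestrict_surjective)
  have Tz : T ≤ 𝐂[t * ψ (E B e e' 1)] := c.le_cen hT.le fun θ hθ => by simpa using q.ln_fix M l (k θ hθ) 1 1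
  have dz := c.dt_cj (q.c2_cj h ⟨e, e', 1, l, one_ne_zero, rfl⟩) h'
  obtain ⟨g, hg, e1⟩ := exists_nT hT dz Tz
  have mT : ∀ x ∈ U, ψ x ∈ T := fun x hx => (eU.le ⟨x, hx, rfl⟩).1
  have mem : ∀ a, a * a = 1 → a ∈ 𝐂[t] → T ≤ 𝐂[a] → a ∈ T := fun a a2 k k' => hT.ge_of_norm_p' (zpowers_le.2 k) (pg_inv a2)
    (norm_of_cent (zpowers_le.2 (le_cent1_iff.1 k'))) (mem_zpowers a)
  have cj : ∀ g ∈ 𝐍(T), ∀ x ∈ centralizer {a | a * a = 1 ∧ a ∈ T ∧ T ≤ 𝐂[a]}, g * x * g⁻¹ ∈ centralizer {a | a * a = 1 ∧ a ∈ T ∧ T ≤ 𝐂[a]} :=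
    fun g hg x hx a ⟨a1, a2, a3⟩ => by
      have := hx (g⁻¹ * a * g⁻¹⁻¹) ⟨Ex.sq_cj a1 _, conj_mem_of_norm (inv_mem hg) a2, by
        rw [← conj_cent1]; exact (conj_eq_of_norm (inv_mem hg)).ge.trans (Transfer.conj_mono _ a3)⟩
      calc a * (g * x * g⁻¹) = g * (g⁻¹ * a * g⁻¹⁻¹ * x) * g⁻¹ := by group
        _ = _ := by rw [this]; group
  have le : map ψ 𝐂[E B e e' 1] ≤ centralizer {a | a * a = 1 ∧ a ∈ T ∧ T ≤ 𝐂[a]} := by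
    rintro _ ⟨y, hy, rfl⟩ a ⟨a1, a2, a3⟩
    obtain ⟨x, k1, k2, k3⟩ := c.cen_T' hT a1 a2 a3
    obtain ⟨r, s, rfl⟩ := q.cen_U l hU (fun y hy => (mem_map_iff_mem c.inj).1 (c.mc.ge ⟨⟨y, rfl⟩, hT.le (mT y hy), Tz (mT y hy)⟩)) k2
      fun y hy => c.inj (by rw [map_mul, map_mul]; exact mem_cent1.1 (k3 (mT y hy)))
    have := congrArg ψ (mem_cent1.1 (q.cz_cen l r s hy))
    rw [map_mul, map_mul] at this
    rcases k1 with rfl | rfl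
    · exact this.symm
    · rw [mul_assoc, ← this, ← mul_assoc, ← c.tc, mul_assoc]
  obtain ⟨r, hr⟩ := c.xs_norm l (X := centralizer {a | a * a = 1 ∧ a ∈ T ∧ T ≤ 𝐂[a]}) (g := g) ⟨le, fun x hx => ⟨mem_cent1.2 (hx t
    ⟨c.st.t2, mem t c.st.t2 (self_mem_cent1 t) hT.le, hT.le⟩).symm, mem_cent1.2 (hx _ ⟨e1 ▸ Ex.sq_cj c.st.t2 g, mem _ (e1 ▸ Ex.sq_cj c.st.t2 g)
      (mul_mem (self_mem_cent1 t) (c.mC _)) Tz, Tz⟩).symm⟩, mem_normalizer_iff.2 fun x => ⟨cj g hg x, fun k => by simpa [mul_assoc] using cj _ (inv_mem hg) _ k⟩⟩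
  refine H _ ⟨e, e', l, rfl⟩ ((c.dt_im e1 hr).2 ?_)
  rw [q.E_mul l.o (by simp [l.o])]
  by_cases m : e' + r • e' ∈ F ∙ e
  · exact c.dt_cj (q.b1_cj hb ⟨e, _, l.ne, by simp [q.bb], q.E_of_mem m _⟩) hb'
  · exact c.dt_cj (q.c2_cj h ⟨e, _, _, ⟨l.ne, m, by simp [l.o]⟩, by simp [q.bb], rfl⟩) h'

/-- If `g t g⁻¹ ∈ t b₁` then `g⁻¹ t g ∈ t b₁`. -/
theorem sym (H : ∀ w, A2 w → ¬ IsConj t (t * ψ w)) (h : B1 w) (e1 : g * t * g⁻¹ = t * ψ w) : ∃ w', B1 w' ∧ g * (t * ψ w') * g⁻¹ = t := by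
  have q := c.q
  obtain ⟨M⟩ := q.sm
  obtain ⟨T, hT⟩ := Syl.exists (p := 2) 𝐂[t]
  obtain ⟨e, e', l, k⟩ := q.exists_ln M (hT.pgroup.of_surjective _ (κ.comp (inclusion hT.le)).rangeRestrict_surjective)
  have Tz : T ≤ 𝐂[t * ψ (E B e 0 1)] := c.le_cen hT.le fun θ hθ => by simpa using q.ln_fix M l (k θ hθ) 0 1
  have b : B1 (E B e 0 1) := ⟨e, 1, l.ne, one_ne_zero, rfl⟩
  obtain ⟨m, -, hm⟩ := q.b1_cj b h
  obtain ⟨p, hp, e2⟩ := exists_nT hT (c.dt_cj (q.b1_cj h b) (isConj_iff.2 ⟨g, e1⟩)) Tz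
  have tT : t ∈ T := hT.ge_of_norm_p' (zpowers_le.2 (self_mem_cent1 t)) (pg_inv c.st.t2) (norm_of_cent (zpowers_le.2 (le_cent1_iff.1 hT.le))) (mem_zpowers t)
  have cj : IsConj t (p⁻¹ * t * p⁻¹⁻¹) := isConj_iff.2 ⟨_, rfl⟩
  obtain ⟨x, hx, r⟩ := c.cen_T hT cj (conj_mem_of_norm (inv_mem hp) tT) (by
    rw [← conj_cent1]; exact (conj_eq_of_norm (inv_mem hp)).ge.trans (Transfer.conj_mono _ hT.le))
  have bx : B1 x := by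
    rcases r with rfl | r | r | r
    · refine absurd (c.inj (mul_left_cancel (a := t) ?_)) (q.rt_ne (.inl b))
      rw [← e2, map_one, mul_one]; nth_rw 1 [← mul_one t, ← map_one ψ, ← hx]; group
    · exact r
    · exact absurd (hx ▸ cj) (H x r)
    · exact absurd (hx ▸ cj) (c.no_c2' H r)
  have ct : g⁻¹ * ψ m * p ∈ 𝐂[t] := mem_cent1.2 (mul_inv_eq_iff_eq_mul.1 (by
    rw [show g⁻¹ * ψ m * p * t * (g⁻¹ * ψ m * p)⁻¹ = g⁻¹ * (ψ m * (p * t * p⁻¹) * (ψ m)⁻¹) * g by group, e2, c.cj_t, hm, ← e1]; group))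
  refine ⟨κ ⟨_, ct⟩ x, q.b1_aut bx _, ?_⟩
  rw [c.ka.ac, ← mul_assoc t, ← mul_assoc t, ← mem_cent1.1 ct, mul_assoc _ t, ← hx]
  calc _ = ψ m * t * (ψ m)⁻¹ := by group
    _ = t := by rw [c.tc, mul_inv_cancel_right]

end Cx

end Cfsg.Lib.SD
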