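import Cfsg.Agent.Lib.OD.Ab
import Cfsg.Agent.Lib.Symp.Siegel
import Cfsg.Agent.Lib.Symp.Inv2
import Cfsg.Agent.Lib.USt.Ab

/-!
# S3129, Step 0: definitions and basic calculus in `J = Sp(V, B)`, characteristic two.  See `docs/SD.md`.
`N = nv u = u - 1`, `W = wv u = [V, u]`, `E B y m s = sg y m s` (`y ∧ m + s y²`).
-/

set_option autoImplicit false
set_option linter.unusedSectionVars false

namespace Cfsg.Lib.SD

open Subgroup Cfsg.Lib.BG Cfsg.Lib.Symp Cfsg.Lib.OD Module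
open scoped Cfsg.Lib.Transfer commutatorElement

variable {F V : Type*} [Field F] [Finite F] [CharP F 2] [AddCommGroup V] [Module F V] [FiniteDimensional F V] {B : LinearMap.BilinForm F V}
  {u a g h : isom B} {x y m m' v : V} {s s' : F} {U U' : Submodule F V}

/-- Nondegenerate alternating, dimension `≥ 6`, not `Sp₆(2)`. -/
structure Sq (B : LinearMap.BilinForm F V) : Prop where
  alt : B.IsAlt
  nd : B.Nondegenerate
  dim : 6 ≤ finrank F V
  big : 8 ≤ finrank F V ∨ ∃ c : F, c ≠ 0 ∧ c ≠ 1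

/-- `N v = g v - v`. -/
def nv (g : isom B) : V →ₗ[F] V := (g.1 : V →ₗ[F] V) - LinearMap.id
/-- `[V, g]`. -/
def wv (g : isom B) : Submodule F V := LinearMap.range (nv g)
/-- The orthogonal complement. -/
abbrev pp (B : LinearMap.BilinForm F V) (U : Submodule F V) : Submodule F V := B.orthogonal U

open Classical in
/-- `x ↦ x + B(x, y) m + (B(x, m) + s B(x, y)) y`. -/
noncomputable def E (B : LinearMap.BilinForm F V) (y m : V) (s : F) : isom B := if h : B.IsAlt ∧ B y m = 0 then sg h.1 y m s h.2 else 1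

/-- `y, m` span a totally isotropic line. -/
structure Ln (B : LinearMap.BilinForm F V) (y m : V) : Prop where
  ne : y ≠ 0
  nm : m ∉ F ∙ y
  o : B y m = 0

/-- Transvections. -/
def B1 (a : isom B) : Prop := ∃ y s, y ≠ 0 ∧ s ≠ 0 ∧ a = E B y 0 s
/-- Short root elements. -/
def A2 (a : isom B) : Prop := ∃ y m, Ln B y m ∧ a = E B y m 0
/-- The third class of `2`-central involutions. -/
def C2 (a : isom B) : Prop := ∃ y m s, Ln B y m ∧ s ≠ 0 ∧ a = E B y m s
/-- The `2`-central involutions. -/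
def Rt (a : isom B) : Prop := B1 a ∨ A2 a ∨ C2 a

/-- `a` centralizes a Sylow `2`-subgroup of `C(u)`. -/
def Zu {G : Type*} [Group G] (u a : G) : Prop := a * a = 1 ∧ ∃ P, Syl 2 P 𝐂[u] ∧ a ∈ 𝐂(P)

/-- An involution of rank at least three. -/
structure Hi (u : isom B) : Prop where
  sq : u * u = 1
  rk : 3 ≤ finrank F (wv u)

/-- `c = N c₁` is the characteristic vector of `u`. -/
def Ch (u : isom B) (c₁ : V) : Prop := ∀ x, B x (nv u x) = B x (nv u c₁) ^ 2

/-- `y = N y₁` is the base point of the group `V₀ = {E(y, N v, 0) | v ⊥ y}`; it is the characteristic vector if that is not zero. -/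
structure Bp (u : isom B) (c₁ y₁ : V) : Prop where
  ch : Ch u c₁
  ne : nv u y₁ ≠ 0
  eq : nv u c₁ = 0 ∨ y₁ = c₁

/-- The pointwise stabilizer. -/
def fx (B : LinearMap.BilinForm F V) (U : Submodule F V) : Subgroup (isom B) where
  carrier := {g | ∀ x ∈ U, g.1 x = x}
  one_mem' := fun _ _ => rfl
  mul_mem' := fun {a b} ha hb x hx => (congrArg a.1 (hb x hx)).trans (ha x hx)
  inv_mem' := fun {a} ha x hx => a.1.injective ((a.1.apply_symm_apply x).trans (ha x hx).symm)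

/-- All automorphisms are induced by semilinear isometries. -/
structure Sm (B : LinearMap.BilinForm F V) where
  T : MulAut (isom B) →* Equiv.Perm V
  σ : MulAut (isom B) →* (F ≃+* F)
  add : ∀ θ x y, T θ (x + y) = T θ x + T θ y
  smul : ∀ θ (c : F) x, T θ (c • x) = σ θ c • T θ x
  bil : ∀ θ x y, B (T θ x) (T θ y) = σ θ (B x y)
  ind : ∀ θ (g : isom B) x, (θ g).1 (T θ x) = T θ (g.1 x)
  cj : ∀ (g : isom B) x, T (MulAut.conj g) x = g.1 x

theorem two0 : (2 : F) = 0 := CharTwo.two_eq_zero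
theorem vv (F : Type*) [Field F] [CharP F 2] [Module F V] (v : V) : v + v = 0 := by rw [← two_smul F, CharTwo.two_eq_zero, zero_smul]
theorem ng (F : Type*) [Field F] [CharP F 2] [Module F V] (v : V) : -v = v := neg_eq_of_add_eq_zero_left (vv F v)
theorem sub_eq (F : Type*) [Field F] [CharP F 2] [Module F V] (v w : V) : v - w = v + w := by rw [sub_eq_add_neg, ng F]
theorem nv_apply (g : isom B) (v : V) : nv g v = g.1 v - v := rfl
theorem nv_mem (g : isom B) (v : V) : nv g v ∈ wv g := ⟨v, rfl⟩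
theorem mem_wv : x ∈ wv g ↔ ∃ v, nv g v = x := Iff.rfl
theorem mem_pp : x ∈ pp B U ↔ ∀ w ∈ U, B w x = 0 := Iff.rfl
theorem mem_fx : g ∈ fx B U ↔ ∀ x ∈ U, g.1 x = x := Iff.rfl
theorem ap_eq (g : isom B) (v : V) : g.1 v = v + nv g v := by rw [nv_apply]; abel
theorem nv_zero : nv g x = 0 ↔ g.1 x = x := sub_eq_zero
theorem mul_ap (g h : isom B) (x : V) : (g * h).1 x = g.1 (h.1 x) := rfl
theorem ap_inv (g : isom B) (x : V) : g.1 ((g⁻¹).1 x) = x := g.1.apply_symm_apply x
theorem inv_ap (g : isom B) (x : V) : (g⁻¹).1 (g.1 x) = x := g.1.symm_apply_apply x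
theorem bil_ap (g : isom B) (x y : V) : B (g.1 x) (g.1 y) = B x y := g.2 x y
theorem bil_left (g : isom B) (x y : V) : B (g.1 x) y = B x ((g⁻¹).1 y) := by rw [← bil_ap g x, ap_inv]
@[simp] theorem nv_one (x : V) : nv (1 : isom B) x = 0 := sub_self x
theorem nv_mul' (g h : isom B) (x : V) : nv (g * h) x = nv g x + nv h x + nv g (nv h x) := by
  simp only [nv_apply, mul_ap, map_sub]; abel
theorem nv_sq (g : isom B) (x : V) : nv (g * g) x = nv g (nv g x) := by rw [nv_mul', vv F, zero_add]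
theorem nv_inv (g : isom B) (x : V) : nv g⁻¹ x = -(nv g x + nv g⁻¹ (nv g x)) := by
  simp only [nv_apply, map_sub, inv_ap]; abel
theorem nv_cj (p g : isom B) (x : V) : nv (p * g * p⁻¹) x = p.1 (nv g ((p⁻¹).1 x)) := by
  simp only [nv_apply, mul_ap, map_sub, ap_inv]
theorem eq_of_nv (k : ∀ x, nv g x = nv h x) : g = h := isom_ext fun x => by rw [ap_eq, k, ← ap_eq]
theorem eq_one_of (k : ∀ x, nv g x = 0) : g = 1 := eq_of_nv fun x => by rw [k, nv_one]
theorem nv_nv (k : u * u = 1) (x : V) : nv u (nv u x) = 0 := by rw [← nv_sq, k, nv_one]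
theorem nv_conj (k : g * u = u * g) (x : V) : nv u (g.1 x) = g.1 (nv u x) := by
  rw [nv_apply, nv_apply, map_sub, ← mul_ap, ← k, mul_ap]
theorem nv_sym (k : u * u = 1) (x y : V) : B (nv u x) y = B x (nv u y) := by
  rw [nv_apply, nv_apply, map_sub, LinearMap.sub_apply, map_sub, bil_left, inv_eq_of_mul_eq_one_left k]
theorem ww (k : u * u = 1) (hx : x ∈ wv u) (hy : y ∈ wv u) : B x y = 0 := by
  obtain ⟨x, rfl⟩ := hx
  obtain ⟨y, rfl⟩ := hy
  exact (nv_sym k x _).trans (by rw [show nv u (nv u y) = 0 from nv_nv k y, map_zero])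
theorem wv_inv (k : g * u = u * g) (hx : x ∈ wv u) : g.1 x ∈ wv u := by
  obtain ⟨x, rfl⟩ := hx
  exact ⟨_, nv_conj k x⟩
theorem wv_bot : wv g = ⊥ ↔ g = 1 := ⟨fun k => eq_one_of fun x => (Submodule.mem_bot F).1 (k ▸ nv_mem g x), by
  rintro rfl
  exact eq_bot_iff.2 (by rintro _ ⟨x, rfl⟩; exact nv_one x)⟩
theorem pp_anti (k : U ≤ U') : pp B U' ≤ pp B U := LinearMap.BilinForm.orthogonal_le k
theorem mem_pp1 : x ∈ pp B (F ∙ y) ↔ B y x = 0 := ⟨fun k => k y (Submodule.mem_span_singleton_self y), fun k w hw => by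
  obtain ⟨c, rfl⟩ := Submodule.mem_span_singleton.1 hw
  simp [k]⟩
theorem pp_sup : pp B (U ⊔ U') = pp B U ⊓ pp B U' := le_antisymm (le_inf (pp_anti le_sup_left) (pp_anti le_sup_right)) fun x hx w hw => by
  obtain ⟨a, ha, b, hb, rfl⟩ := Submodule.mem_sup.1 hw
  simp [hx.1 a ha, hx.2 b hb]
theorem mem_pp2 : x ∈ pp B (Submodule.span F {y, m}) ↔ B y x = 0 ∧ B m x = 0 := by
  rw [Submodule.span_insert, pp_sup, Submodule.mem_inf, mem_pp1, mem_pp1]
theorem pp_inv {P : Subgroup (isom B)} (k : ∀ p ∈ P, ∀ x ∈ U, p.1 x ∈ U) : ∀ p ∈ P, ∀ x ∈ pp B U, p.1 x ∈ pp B U := fun p hp x hx w hw => by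
  rw [← ap_inv p w, bil_ap]; exact hx _ (k _ (inv_mem hp) w hw)
theorem sm_self (c : F) (y : V) : c • y ∈ F ∙ y := Submodule.smul_mem _ _ (Submodule.mem_span_singleton_self y)
theorem smul_nmem {c : F} (k : x ∉ U) (k' : c • x ∈ U) : c = 0 := by_contra fun n => k ((U.smul_mem_iff n).1 k')
theorem exists_nmem (k : finrank F U' < finrank F U) : ∃ x ∈ U, x ∉ U' := by
  by_contra! c
  exact k.not_ge (Submodule.finrank_mono c)
theorem fr1 (e : V) : finrank F (F ∙ e) ≤ 1 := by simpa using finrank_span_le_card (R := F) ({e} : Set V)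
theorem fr_sup (U : Submodule F V) (e : V) : finrank F (U ⊔ F ∙ e : Submodule F V) ≤ finrank F U + 1 :=
  (Submodule.finrank_add_le_finrank_add_finrank U (F ∙ e)).trans (add_le_add_right (fr1 e) _)
theorem fr2 (e m : V) : finrank F (Submodule.span F {e, m}) ≤ 2 := by
  rw [Submodule.span_insert]; have := fr_sup (F ∙ e) m; have := fr1 (F := F) e; omega
theorem sq_inj {c d : F} (k : c ^ 2 = d ^ 2) : c = d := frobenius_inj F 2 k
theorem exists_sq (c : F) : ∃ d : F, d ^ 2 = c := (Finite.injective_iff_surjective.1 (frobenius_inj F 2)) c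

theorem conj_E (g : isom B) (y m : V) (s : F) : g * E B y m s * g⁻¹ = E B (g.1 y) (g.1 m) s := by
  unfold E
  by_cases k : B.IsAlt ∧ B y m = 0
  · rw [dif_pos k, dif_pos ⟨k.1, (bil_ap g y m).trans k.2⟩, conj_sg]
  · rw [dif_neg k, dif_neg (by rwa [bil_ap]), mul_one, mul_inv_cancel]
theorem E_cm (hy : g.1 y = y) (hm : g.1 m = m) : E B y m s * g = g * E B y m s := by
  rw [eq_comm, ← mul_inv_eq_iff_eq_mul, conj_E, hy, hm]

namespace Sq
variable (q : Sq B)
include q

theorem bb (x : V) : B x x = 0 := q.alt x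
theorem sy (x y : V) : B x y = B y x := by rw [← q.alt.neg_eq, CharTwo.neg_eq]
theorem o' (k : B x y = 0) : B y x = 0 := (q.sy y x).trans k
theorem ext (k : ∀ w, B w x = B w y) : x = y := sub_eq_zero.1 (q.nd.2 _ fun w => by rw [map_sub, k, sub_self])
theorem eq_zero (k : ∀ w, B w x = 0) : x = 0 := q.nd.2 _ k
theorem fr_pp (U : Submodule F V) : finrank F U + finrank F (pp B U) = finrank F V := by
  have : finrank F (pp B U) = _ := LinearMap.BilinForm.finrank_orthogonal q.nd U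
  have := Submodule.finrank_le U
  omega
theorem pp_pp (U : Submodule F V) : pp B (pp B U) = U := LinearMap.BilinForm.orthogonal_orthogonal q.nd q.alt.isRefl U
/-- A vector of `U^⊥` with a prescribed product. -/
theorem exists_pp (k : x ∉ U) (c : F) : ∃ w ∈ pp B U, B x w = c := by
  obtain ⟨w, h1, h2⟩ := exists_orth_eq_one q.alt q.nd k
  exact ⟨c • w, Submodule.smul_mem _ _ h1, by simp [h2]⟩
theorem exists_one (k : x ≠ 0) : ∃ w, B x w = 1 := by
  obtain ⟨w, -, h⟩ := q.exists_pp (U := ⊥) k 1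
  exact ⟨w, h⟩
theorem mem_span (k : ∀ v, B y v = 0 → B x v = 0) : x ∈ F ∙ y :=
  mem_of_forall_orth q.alt q.nd fun w hw => k w (hw y (Submodule.mem_span_singleton_self y))
/-- `[V, g]^⊥` is the fixed space. -/
theorem mem_pp_wv : x ∈ pp B (wv g) ↔ nv g x = 0 := by
  refine ⟨fun k => nv_zero.2 ?_, fun k => ?_⟩
  · have : (g⁻¹).1 x = x := q.ext fun w => by
      have := k _ (nv_mem g w)
      rwa [nv_apply, map_sub, LinearMap.sub_apply, bil_left, sub_eq_zero] at this
    rw [← this, ap_inv, this]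
  · rintro _ ⟨w, rfl⟩
    change B (nv g w) x = 0
    rw [nv_apply, map_sub, LinearMap.sub_apply, ← nv_zero.1 k, bil_ap, nv_zero.1 k, sub_self]
theorem wv_le (k : ∀ x ∈ pp B U, nv g x = 0) : wv g ≤ U := q.pp_pp U ▸ q.pp_pp (wv g) ▸ pp_anti fun x hx => q.mem_pp_wv.2 (k x hx)
theorem fix_of (k : wv g ≤ U) (hx : x ∈ pp B U) : nv g x = 0 := q.mem_pp_wv.1 (pp_anti k hx)

theorem E_eq (k : B y m = 0) : E B y m s = sg q.alt y m s k := dif_pos ⟨q.alt, k⟩
theorem E_tv (y : V) (s : F) : E B y 0 s = tv q.alt y s := by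
  rw [q.E_eq (map_zero _)]; exact isom_ext fun x => by simp [sg_apply, tv_apply]
theorem nv_E (k : B y m = 0) (s : F) (x : V) : nv (E B y m s) x = B x y • m + (B x m + s * B x y) • y := by
  rw [q.E_eq k, nv_apply, sg_apply]; abel
theorem E_ap (k : B y m = 0) (s : F) (x : V) : (E B y m s).1 x = x + B x y • m + (B x m + s * B x y) • y := by
  rw [ap_eq, q.nv_E k, add_assoc]
theorem E_fix (k : B y m = 0) (h1 : B x y = 0) (h2 : B x m = 0) : (E B y m s).1 x = x := by simp [q.E_ap k, h1, h2]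
theorem E_mul (k : B y m = 0) (k' : B y m' = 0) (s s' : F) : E B y m s * E B y m' s' = E B y (m + m') (s + s' + B m m') := by
  rw [q.E_eq k, q.E_eq k', sg_mul, q.E_eq (by rw [map_add, k, k', add_zero]), q.sy m]
theorem E_zero (y : V) : E B y 0 0 = 1 := by rw [q.E_tv, tv_zero_right]
theorem E_sq (y m : V) (s : F) : E B y m s * E B y m s = 1 := by
  by_cases k : B y m = 0
  · rw [q.E_mul k k, vv F, CharTwo.add_self_eq_zero, q.bb, add_zero, q.E_zero]
  · rw [E, dif_neg fun c => k c.2, one_mul]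
theorem E_inv (y m : V) (s : F) : (E B y m s)⁻¹ = E B y m s := inv_eq_of_mul_eq_one_left (q.E_sq y m s)
theorem E_sw (k : B y m = 0) : E B m y 0 = E B y m 0 := eq_of_nv fun x => by simp [q.nv_E k, q.nv_E (q.o' k), add_comm]
theorem E_add_smul (k : B y m = 0) (c s : F) : E B y (m + c • y) s = E B y m s := eq_of_nv fun x => by
  have two : (2 : F) = 0 := two0
  rw [q.nv_E k, q.nv_E (by simp [k, q.bb])]
  simp only [map_add, map_smul, smul_eq_mul]
  match_scalars <;> grind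
theorem E_smul (k : B y m = 0) (c s : F) : E B (c • y) m s = E B y (c • m) (c ^ 2 * s) := eq_of_nv fun x => by
  rw [q.nv_E (by simp [k]), q.nv_E (by simp [k])]
  simp only [map_smul, smul_eq_mul]
  module
theorem E_of_mem (k : m ∈ F ∙ y) (s : F) : E B y m s = E B y 0 s := by
  obtain ⟨c, rfl⟩ := Submodule.mem_span_singleton.1 k
  rw [← q.E_add_smul (map_zero _) c, zero_add]
theorem E_comm (k : B y m = 0) (k' : B y m' = 0) (s s' : F) : E B y m s * E B y m' s' = E B y m' s' * E B y m s := by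
  rw [q.E_mul k k', q.E_mul k' k, add_comm m, add_comm s, q.sy m]
theorem wv_E (y m : V) (s : F) : wv (E B y m s) ≤ Submodule.span F {y, m} := by
  by_cases k : B y m = 0
  · rintro _ ⟨x, rfl⟩
    rw [q.nv_E k]
    exact add_mem (Submodule.smul_mem _ _ (Submodule.subset_span (by simp))) (Submodule.smul_mem _ _ (Submodule.subset_span (by simp)))
  · rw [E, dif_neg fun c => k c.2, wv_bot.2 rfl]; exact bot_le
theorem wv_E' (hy : y ∈ U) (hm : m ∈ U) (s : F) : wv (E B y m s) ≤ U := (q.wv_E y m s).trans (Submodule.span_le.2 (Set.pair_subset hy hm))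
/-- Equality of two elements of the radical of a point. -/
theorem E_inj (h0 : y ≠ 0) (k : B y m = 0) (k' : B y m' = 0) (e : E B y m s = E B y m' s') : m + m' ∈ F ∙ y ∧ s + s' + B m m' = 0 := by
  have o : B y (m + m') = 0 := by rw [map_add, k, k', add_zero]
  have e1 : E B y (m + m') (s + s' + B m m') = 1 := by rw [← q.E_mul k k', e, q.E_sq]
  obtain ⟨f, hf⟩ := q.exists_one h0
  have h1 : m + m' ∈ F ∙ y := q.mem_span fun v hv => by
    have := q.nv_E o (s + s' + B m m') v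
    rw [e1, nv_one, q.o' hv, zero_smul, mul_zero, add_zero, zero_add, eq_comm, smul_eq_zero_iff_left h0] at this
    exact q.o' this
  refine ⟨h1, ?_⟩
  have := q.nv_E (y := y) (map_zero _) (s + s' + B m m') f
  rw [← q.E_of_mem h1, e1, nv_one, q.sy f, hf] at this
  simpa [h0] using this.symm
theorem E_ne (l : Ln B y m) (s : F) : E B y m s ≠ 1 := fun e =>
  l.nm (by simpa using (q.E_inj l.ne l.o (map_zero _) (e.trans (q.E_zero y).symm)).1)
theorem E_ne' (h0 : y ≠ 0) (hs : s ≠ 0) : E B y 0 s ≠ 1 := fun e =>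
  hs (by simpa using (q.E_inj h0 (map_zero _) (map_zero _) (e.trans (q.E_zero y).symm)).2)
theorem rt_E (y m : V) (s : F) : E B y m s = 1 ∨ Rt (E B y m s) := by
  by_cases k : B y m = 0
  swap
  · exact .inl (dif_neg fun c => k c.2)
  by_cases h0 : y = 0
  · exact .inl (eq_one_of fun x => by rw [q.nv_E k, h0]; simp)
  by_cases h1 : m ∈ F ∙ y
  · rw [q.E_of_mem h1]
    by_cases h2 : s = 0
    · exact .inl (h2 ▸ q.E_zero y)
    · exact .inr (.inl ⟨y, s, h0, h2, rfl⟩)
  by_cases h2 : s = 0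
  · exact .inr (.inr (.inl ⟨y, m, ⟨h0, h1, k⟩, h2 ▸ rfl⟩))
  · exact .inr (.inr (.inr ⟨y, m, s, ⟨h0, h1, k⟩, h2, rfl⟩))
omit q in
theorem _root_.Cfsg.Lib.SD.Rt.eq (k : Rt a) : ∃ y m s, y ≠ 0 ∧ B y m = 0 ∧ a = E B y m s := by
  rcases k with ⟨y, s, h, -, e⟩ | ⟨y, m, l, e⟩ | ⟨y, m, s, l, -, e⟩
  exacts [⟨y, 0, s, h, map_zero _, e⟩, ⟨y, m, 0, l.ne, l.o, e⟩, ⟨y, m, s, l.ne, l.o, e⟩]
theorem rt_ne (k : Rt a) : a ≠ 1 := by
  rcases k with ⟨y, s, h, h', rfl⟩ | ⟨y, m, l, rfl⟩ | ⟨y, m, s, l, -, rfl⟩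
  exacts [q.E_ne' h h', q.E_ne l _, q.E_ne l _]
theorem rt_sq (k : Rt a) : a * a = 1 := by
  obtain ⟨y, m, s, -, -, rfl⟩ := k.eq
  exact q.E_sq y m s
theorem ln_symm (l : Ln B y m) : Ln B m y := ⟨fun e => l.nm (e ▸ zero_mem _), fun k => by
  obtain ⟨c, rfl⟩ := Submodule.mem_span_singleton.1 k
  have c0 : c ≠ 0 := fun e => l.ne (by rw [e, zero_smul])
  exact l.nm (Submodule.mem_span_singleton.2 ⟨c⁻¹, inv_smul_smul₀ c0 m⟩), q.o' l.o⟩

end Sq

theorem Ln.conj (l : Ln B y m) (g : isom B) : Ln B (g.1 y) (g.1 m) := ⟨fun e => l.ne (g.1.map_eq_zero_iff.1 e), fun k => by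
  obtain ⟨c, e⟩ := Submodule.mem_span_singleton.1 k
  exact l.nm (Submodule.mem_span_singleton.2 ⟨c, g.1.injective (by rw [map_smul, e])⟩), (bil_ap g y m).trans l.o⟩
theorem A2.conj (k : A2 a) (g : isom B) : A2 (g * a * g⁻¹) := by
  obtain ⟨y, m, l, rfl⟩ := k
  exact ⟨_, _, l.conj g, conj_E g y m 0⟩
theorem memC (k : g * u = u * g) : g ∈ 𝐂[u] := mem_cent1.2 k
theorem Cj.rfl' {G : Type*} [Group G] (X : Subgroup G) (w : G) : Cj X w w := ⟨1, one_mem _, by simp⟩

end Cfsg.Lib.SD
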