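import Cfsg.Agent.Lib.SD.Def

/-!
# SD: tools on involutions of `Sp(V, B)`.  Most proofs are ports of `Lib/OD/G1` (`polar Q ↦ B`, `nl ↦ nv`, `O.comm ↦ wv`, `perp ↦ pp`, `eich ↦ E`).
-/

set_option autoImplicit false
set_option linter.unusedSectionVars false

namespace Cfsg.Lib.SD

open Subgroup Cfsg.Lib.BG Cfsg.Lib.Symp Cfsg.Lib.OD Module
open scoped Cfsg.Lib.Transfer commutatorElement

variable {F V : Type*} [Field F] [Finite F] [CharP F 2] [AddCommGroup V] [Module F V] [FiniteDimensional F V] {B : LinearMap.BilinForm F V}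
  {u a g w : isom B} {x y m n c₁ : V} {s : F} {U : Submodule F V} {P X : Subgroup (isom B)}

instance finIsom : Finite (isom B) :=
  have : Finite V := Module.finite_of_finite F
  .of_injective (fun g x => g.1 x) fun _ _ h => isom_ext (congrFun h)

/-- `B(x, u x) = 0` for all `x`. -/
def Al (u : isom B) : Prop := ∀ x, B x (nv u x) = 0

/-- A fixed point on the cosets `x + A`, `x ∈ A'`.  As `OD.exists_fix`: `P` acts on `A'.map A.mkQ` (use `Quotient.map'` / `QuotientAddGroup.map`, the maps are only additive); the order is a power of two,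
`0` is fixed; `IsPGroup.exists_fixed_point_of_prime_dvd_card_of_fixed_point`. -/
theorem exists_fixT {M : Type*} [Group M] {S : Subgroup M} (hS : IsPGroup 2 S) (T : M →* Equiv.Perm V) (ad : ∀ p x y, T p (x + y) = T p x + T p y)
    {A A' : Submodule F V} (h : A < A') (hA : ∀ p ∈ S, ∀ x ∈ A, T p x ∈ A) (hB : ∀ p ∈ S, ∀ x ∈ A', T p x ∈ A') :
    ∃ x ∈ A', x ∉ A ∧ ∀ p ∈ S, T p x + x ∈ A := by
  have : Finite V := Module.finite_of_finite F
  let τ : S → V ⧸ A → V ⧸ A := fun p => Quotient.map' (T p) fun x y k => (Submodule.quotientRel_def A).2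
    (by rw [sub_eq F, ← ad, ← sub_eq F]; exact hA p p.2 _ ((Submodule.quotientRel_def A).1 k))
  let _ : MulAction S (A'.map A.mkQ) :=
    { smul := fun p c => ⟨τ p c, by
        obtain ⟨_, x, hx, rfl⟩ := c
        exact ⟨_, hB p p.2 x hx, rfl⟩⟩
      one_smul := by rintro ⟨_, x, hx, rfl⟩; exact Subtype.ext (congrArg A.mkQ (show T 1 x = x by simp))
      mul_smul := by rintro p p' ⟨_, x, hx, rfl⟩; exact Subtype.ext (congrArg A.mkQ (show T (p * p') x = T p (T p' x) by simp)) }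
  obtain ⟨x₀, hx₀, n₀⟩ := SetLike.exists_of_lt h
  have : Nontrivial (A'.map A.mkQ) := ⟨⟨⟨_, x₀, hx₀, rfl⟩, 0, fun e => n₀ ((Submodule.Quotient.mk_eq_zero A).1 (congrArg Subtype.val e))⟩⟩
  have : Fintype F := .ofFinite F
  have : Finite (V ⧸ A) := Quotient.finite _
  obtain ⟨n, -, hn⟩ := FiniteField.card F 2
  obtain ⟨⟨_, x, hx, rfl⟩, h1, h2⟩ := hS.exists_fixed_point_of_prime_dvd_card_of_fixed_point (A'.map A.mkQ) (a := 0) (by
    rw [Module.natCard_eq_pow_finrank (K := F), Nat.card_eq_fintype_card, hn, ← pow_mul]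
    exact dvd_pow_self _ (mul_ne_zero n.ne_zero finrank_pos.ne')) fun p => Subtype.ext ((Submodule.Quotient.mk_eq_zero A).2 (hA p p.2 0 (zero_mem A)))
  exact ⟨x, hx, fun k => h2 (Subtype.ext ((Submodule.Quotient.mk_eq_zero A).2 k).symm), fun p hp =>
    sub_eq F (T p x) x ▸ (Submodule.Quotient.eq A).1 (congrArg Subtype.val (h1 ⟨p, hp⟩))⟩

/-- `exists_fixT` for `T g = g.1.toEquiv`. -/
theorem exists_fix (hP : IsPGroup 2 P) {A A' : Submodule F V} (h : A < A') (hA : ∀ p ∈ P, ∀ x ∈ A, p.1 x ∈ A) (hB : ∀ p ∈ P, ∀ x ∈ A', p.1 x ∈ A') :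
    ∃ x ∈ A', x ∉ A ∧ ∀ p ∈ P, nv p x ∈ A := by
  simp only [nv_apply, sub_eq F]; exact exists_fixT hP (MulAction.toPermHom (isom B) V) (fun p => map_add p.1) h hA hB

theorem span_inv (h : ∀ p ∈ P, p.1 y = y) : ∀ p ∈ P, ∀ x ∈ F ∙ y, p.1 x ∈ F ∙ y := fun p hp x hx => by
  obtain ⟨c, rfl⟩ := Submodule.mem_span_singleton.1 hx
  rw [map_smul, h p hp]; exact hx

/-- `conj_E`, `Ln.conj`. -/
theorem Rt.conj (h : Rt a) (g : isom B) : Rt (g * a * g⁻¹) := by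
  have n : ∀ {y : V}, y ≠ 0 → g.1 y ≠ 0 := fun h e => h (g.1.map_eq_zero_iff.1 e)
  rcases h with ⟨y, s, a, b, rfl⟩ | h | ⟨y, m, s, l, b, rfl⟩
  exacts [.inl ⟨_, s, n a, b, by rw [conj_E, map_zero]⟩, .inr (.inl (h.conj g)), .inr (.inr ⟨_, _, s, l.conj g, b, conj_E ..⟩)]

namespace Sq
variable (q : Sq B)
include q

/-- Port of `OD.Gq.chain` (`mem_pp_wv`, `wv_le`). -/
theorem chain (hP : Syl 2 P X) {A A' C D : Submodule F V} (h1 : A ≤ A') (h2 : A' ≤ C) (h3 : C ≤ D) (h4 : pp B D ≤ D)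
    (iA : ∀ p ∈ P, ∀ x ∈ A, p.1 x ∈ A) (iB : ∀ p ∈ P, ∀ x ∈ A', p.1 x ∈ A') (iC : ∀ p ∈ P, ∀ x ∈ C, p.1 x ∈ C) (iD : ∀ p ∈ P, ∀ x ∈ D, p.1 x ∈ D) (hg : g ∈ X)
    (gA : ∀ x ∈ A, nv g x = 0) (gB : ∀ x ∈ A', nv g x ∈ A) (gC : ∀ x ∈ C, nv g x ∈ A') (gD : ∀ x ∈ D, nv g x ∈ C) : g ∈ P := by
  let S : Subgroup (isom B) :=
    { carrier := {g | g ∈ X ∧ (∀ x ∈ A, nv g x = 0) ∧ (∀ x ∈ A', nv g x ∈ A) ∧ (∀ x ∈ C, nv g x ∈ A') ∧ ∀ x ∈ D, nv g x ∈ C}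
      one_mem' := ⟨one_mem _, by simp, by simp, by simp, by simp⟩
      mul_mem' := fun {a b} ⟨a0, a1, a2, a3, a4⟩ ⟨b0, b1, b2, b3, b4⟩ => ⟨mul_mem a0 b0, fun x hx => by simp [nv_mul', a1 x hx, b1 x hx],
        fun x hx => by rw [nv_mul', a1 _ (b2 x hx), add_zero]; exact add_mem (a2 x hx) (b2 x hx),
        fun x hx => nv_mul' a b x ▸ add_mem (add_mem (a3 x hx) (b3 x hx)) (h1 (a2 _ (b3 x hx))),
        fun x hx => nv_mul' a b x ▸ add_mem (add_mem (a4 x hx) (b4 x hx)) (h2 (a3 _ (b4 x hx)))⟩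
      inv_mem' := fun {g} ⟨a0, a1, a2, a3, a4⟩ => by
        have b1 : ∀ x ∈ A, nv g⁻¹ x = 0 := fun x hx => by rw [nv_inv, a1 x hx]; simp
        have b2 : ∀ x ∈ A', nv g⁻¹ x ∈ A := fun x hx => by rw [nv_inv, b1 _ (a2 x hx), add_zero]; exact neg_mem (a2 x hx)
        have b3 : ∀ x ∈ C, nv g⁻¹ x ∈ A' := fun x hx => nv_inv g x ▸ neg_mem (add_mem (a3 x hx) (h1 (b2 _ (a3 x hx))))
        exact ⟨inv_mem a0, b1, b2, b3, fun x hx => nv_inv g x ▸ neg_mem (add_mem (a4 x hx) (h2 (b3 _ (a4 x hx))))⟩ }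
  refine hP.ge_of_norm_p (N := S) (fun g k => k.1) (fun ⟨g, _, a1, a2, a3, a4⟩ => ⟨3, Subtype.ext ?_⟩) (le_norm_iff.2 ?_) ⟨hg, gA, gB, gC, gD⟩
  · have k : ∀ x ∈ D, nv (g * g * (g * g)) x = 0 := fun x hx => by
      rw [nv_sq, nv_sq, nv_sq]; exact a1 _ (a2 _ (a3 _ (a4 x hx)))
    have := eq_one_of fun x => (nv_sq (g * g * (g * g)) x).trans (k _ (h4 (q.wv_le (by rwa [q.pp_pp]) (nv_mem _ x))))
    simpa only [show 2 ^ 3 = 8 from rfl, pow_succ, pow_zero, one_mul, mul_assoc, SubmonoidClass.coe_pow, coe_mul, coe_one] using this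
  · rintro p hp g ⟨a0, a1, a2, a3, a4⟩
    have i := inv_mem hp
    exact ⟨mul_mem (mul_mem (hP.le hp) a0) (inv_mem (hP.le hp)), fun x hx => by rw [nv_cj, a1 _ (iA _ i x hx), map_zero],
      fun x hx => nv_cj p g x ▸ iA p hp _ (a2 _ (iB _ i x hx)), fun x hx => nv_cj p g x ▸ iB p hp _ (a3 _ (iC _ i x hx)),
      fun x hx => nv_cj p g x ▸ iC p hp _ (a4 _ (iD _ i x hx))⟩

theorem inv2 (hu : u * u = 1) : Inv2 B (u.1 : V →ₗ[F] V) := ⟨⟨q.alt, q.nd, u.2⟩, two0, fun v => congrArg (·.1 v) hu⟩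

theorem b_ap (u : isom B) (x : V) : B x (u.1 x) = B x (nv u x) := by rw [ap_eq, map_add, q.bb, zero_add]

/-- `Inv2.isim` for `f = u.1` (`range (f - 1) = wv u`, `B v (u v) = B v (N v)`); the isometry `e` is an element of `isom B`. -/
theorem cls (hu : u * u = 1) (ha : a * a = 1) (h1 : finrank F (wv u) = finrank F (wv a)) (h2 : Even (finrank F (wv u)) → (Al u ↔ Al a)) : Cj ⊤ u a := by
  obtain ⟨e, h, k⟩ := (q.inv2 hu).isim (q.inv2 ha) rfl h1 fun o => by simp only [LinearEquiv.coe_coe, q.b_ap]; exact h2 o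
  exact ⟨⟨e, h⟩, mem_top _, isom_ext fun x => (k _).trans (congrArg a.1 (ap_inv (B := B) ⟨e, h⟩ x))⟩

/-- `Inv2.exists_symC` gives `w, c`; `c = N c₁`; `w c (N x) = w (N x) c = B x c`; `SymC.even_iff`, `w c c = B c₁ c`. -/
theorem exists_ch (hu : u * u = 1) : ∃ c₁, Ch u c₁ ∧ (Even (finrank F (wv u)) ↔ B c₁ (nv u c₁) = 0) := by
  obtain ⟨w, ⟨_, c, rfl⟩, h1, h2, h3, -⟩ := (q.inv2 hu).exists_symC
  exact ⟨c, fun x => (q.b_ap u x).symm.trans ((h3 x).trans (by rw [h2.symm, h1]; rfl)), h2.even_iff.trans (by rw [← show _ = B c (nv u c) from h1 c ⟨_, c, rfl⟩]; rfl)⟩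

/-- `sq_inj`, `ext`. -/
theorem ch_eq {c₂ : V} (h : Ch u c₁) (h' : Ch u c₂) : nv u c₁ = nv u c₂ := q.ext fun w => sq_inj ((h w).symm.trans (h' w))

/-- `exists_ch`, `ch_eq`, `nv_sym`. -/
theorem ch_even (hu : u * u = 1) (h : Ch u c₁) : Even (finrank F (wv u)) ↔ B c₁ (nv u c₁) = 0 := by
  obtain ⟨c, a, b⟩ := q.exists_ch hu
  rw [b, q.ch_eq a h, ← nv_sym hu, q.ch_eq a h, q.sy]

omit q in
/-- `r = r²`. -/
theorem _root_.Cfsg.Lib.SD.Ch.zo (h : Ch u c₁) : B c₁ (nv u c₁) = 0 ∨ B c₁ (nv u c₁) = 1 := by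
  have := h c₁
  grind only

/-- `g c₁` satisfies `Ch` (`nv_conj`), `ch_eq`. -/
theorem ch_fix (h : Ch u c₁) (hg : g * u = u * g) : g.1 (nv u c₁) = nv u c₁ := by
  rw [← nv_conj hg]
  refine q.ch_eq (fun x => ?_) h
  rw [nv_conj hg, ← ap_inv g x, bil_ap, nv_conj hg, bil_ap, h]

theorem ch_al (h : Ch u c₁) : Al u ↔ nv u c₁ = 0 :=
  ⟨fun k => q.eq_zero fun w => pow_eq_zero_iff two_ne_zero |>.1 ((h w).symm.trans (k w)), fun k x => by rw [h, k, map_zero, zero_pow two_ne_zero]⟩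

/-- `≥`: `x ⊥ y`, `B(m, x) = 1` gives `y` (`exists_pp`); `B(y, x) = 1` gives `m` modulo `y`. -/
theorem wv_ln (l : Ln B y m) (s : F) : wv (E B y m s) = Submodule.span F {y, m} := by
  refine le_antisymm (q.wv_E y m s) (Submodule.span_le.2 ?_)
  obtain ⟨x, hx, h1⟩ := q.exists_pp l.nm 1
  obtain ⟨z, h2⟩ := q.exists_one l.ne
  have k : y ∈ wv (E B y m s) := ⟨x, by rw [q.nv_E l.o, q.sy x m, h1, q.o' (mem_pp1.1 hx)]; simp⟩
  refine Set.pair_subset k ?_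
  have := sub_mem (nv_mem (E B y m s) z) (Submodule.smul_mem _ (B z m + s * B z y) k)
  rwa [q.nv_E l.o, add_sub_cancel_right, q.sy z, h2, one_smul] at this

theorem fr_ln (l : Ln B y m) : finrank F (Submodule.span F {y, m}) = 2 := by
  have := Submodule.finrank_lt_finrank_of_lt (s := F ∙ y) (t := Submodule.span F {y, m}) ⟨Submodule.span_mono (by simp), fun k => l.nm (k (Submodule.subset_span (by simp)))⟩
  have := fr2 (F := F) y m
  rw [finrank_span_singleton l.ne] at *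
  omega

theorem wv_b1 (h0 : y ≠ 0) (hs : s ≠ 0) : wv (E B y 0 s) = F ∙ y := by
  refine le_antisymm (q.wv_E' (Submodule.mem_span_singleton_self y) (zero_mem _) s) ((Submodule.span_singleton_le_iff_mem _ _).2 ?_)
  obtain ⟨z, h⟩ := q.exists_one h0
  exact ⟨s⁻¹ • z, by simp [q.nv_E (map_zero _), q.sy z, h, hs]⟩

/-- `B(x, N x) = s B(x, y)²`. -/
theorem al_E (h0 : y ≠ 0) (h : B y m = 0) : Al (E B y m s) ↔ s = 0 := by
  have k : ∀ x, B x (nv (E B y m s) x) = s * B x y ^ 2 := fun x => by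
    have two : (2 : F) = 0 := two0
    simp only [q.nv_E h, map_add, map_smul, smul_eq_mul]; grind only
  obtain ⟨z, e⟩ := q.exists_one h0
  exact ⟨fun a => by simpa [q.sy z, e] using (k z).symm.trans (a z), fun a x => by rw [k, a, zero_mul]⟩

/-- Rank `1`: `cls` with `E y 0 1`, `y` spanning `wv a`.  Rank `2`: a basis `y, m` of `wv a` is a `Ln` (`ww`), `cls` with `E y m 0` or `E y m 1`.  `Rt.conj`. -/
theorem rt_of (ha : a * a = 1) (h : finrank F (wv a) ≤ 2) : a = 1 ∨ Rt a := by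
  by_cases k0 : finrank F (wv a) = 0
  · exact .inl (wv_bot.1 (Submodule.finrank_eq_zero.1 k0))
  obtain ⟨y, hy, y0⟩ := exists_nmem (U := wv a) (U' := ⊥) (by rw [finrank_bot]; omega)
  by_cases k1 : finrank F (wv a) = 1
  · have e : finrank F (wv (E B y 0 1)) = 1 := by rw [q.wv_b1 y0 one_ne_zero, finrank_span_singleton y0]
    obtain ⟨x, -, rfl⟩ := q.cls (q.E_sq y 0 1) ha (e.trans k1.symm) fun o => absurd (e ▸ o) (by decide)
    exact .inr (Rt.conj (.inl ⟨y, 1, y0, one_ne_zero, rfl⟩) x)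
  obtain ⟨m, hm, m0⟩ := exists_nmem (U := wv a) (U' := F ∙ y) (by have := fr1 (F := F) y; omega)
  have l : Ln B y m := ⟨y0, m0, ww ha hy hm⟩
  have e : ∀ s, finrank F (wv (E B y m s)) = finrank F (wv a) := fun s => by rw [q.wv_ln l, q.fr_ln l]; omega
  by_cases o : Al a
  · obtain ⟨x, -, rfl⟩ := q.cls (q.E_sq y m 0) ha (e 0) fun _ => iff_of_true ((q.al_E y0 l.o).2 rfl) o
    exact .inr (Rt.conj (.inr (.inl ⟨y, m, l, rfl⟩)) x)
  · obtain ⟨x, -, rfl⟩ := q.cls (q.E_sq y m 1) ha (e 1) fun _ => iff_of_false (mt (q.al_E y0 l.o).1 one_ne_zero) o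
    exact .inr (Rt.conj (.inr (.inr ⟨y, m, 1, l, one_ne_zero, rfl⟩)) x)

theorem hi_of (ha : a * a = 1) (h1 : a ≠ 1) (h : ¬ Rt a) : Hi a := ⟨ha, by_contra fun k => (q.rt_of ha (by omega)).elim h1 h⟩

/-- `cls` (`wv_b1`). -/
theorem b1_cj (h : B1 u) (h' : B1 a) : Cj ⊤ u a := by
  obtain ⟨y, s, a, b, rfl⟩ := h
  obtain ⟨y', s', a', b', rfl⟩ := h'
  have e : finrank F (wv (E B y 0 s)) = 1 := by rw [q.wv_b1 a b, finrank_span_singleton a]
  exact q.cls (q.E_sq ..) (q.E_sq ..) (by rw [e, q.wv_b1 a' b', finrank_span_singleton a']) fun o => absurd (e ▸ o) (by decide)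
/-- `cls` (`wv_ln`, `fr_ln`, `al_E`). -/
theorem a2_cj (h : A2 u) (h' : A2 a) : Cj ⊤ u a := by
  obtain ⟨y, m, l, rfl⟩ := h
  obtain ⟨y', m', l', rfl⟩ := h'
  exact q.cls (q.E_sq ..) (q.E_sq ..) (by rw [q.wv_ln l, q.wv_ln l', q.fr_ln l, q.fr_ln l']) fun _ => by simp [q.al_E l.ne l.o, q.al_E l'.ne l'.o]
theorem c2_cj (h : C2 u) (h' : C2 a) : Cj ⊤ u a := by
  obtain ⟨y, m, s, l, b, rfl⟩ := h
  obtain ⟨y', m', s', l', b', rfl⟩ := h'
  exact q.cls (q.E_sq ..) (q.E_sq ..) (by rw [q.wv_ln l, q.wv_ln l', q.fr_ln l, q.fr_ln l']) fun _ => by simp [q.al_E l.ne l.o, q.al_E l'.ne l'.o, b, b']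

/-- `eq_tv_or_sg_of_commute` (`E_eq`, `E_tv`). -/
theorem eq_E (h0 : y ≠ 0) (ha : a * a = 1) (h : ∀ m s, B y m = 0 → a * E B y m s = E B y m s * a) : ∃ m s, B y m = 0 ∧ a = E B y m s := by
  have := Fact.mk Nat.prime_two
  rcases eq_tv_or_sg_of_commute (p := 2) q.alt q.nd h0 ((pow_two a).trans ha) (by rintro _ ⟨m, s, k, rfl⟩; exact q.E_eq k ▸ h m s k) with ⟨s, e⟩ | ⟨-, m, s, k, -, e⟩
  exacts [⟨0, s, map_zero _, e.trans (q.E_tv y s).symm⟩, ⟨m, s, k, e.trans (q.E_eq k).symm⟩]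

/-- `chain` with `⊥, ⊥, ⟨y⟩, y^⊥`. -/
theorem E_mem (hP : Syl 2 P X) (hy : ∀ p ∈ P, p.1 y = y) (h : B y m = 0) (hX : E B y m s ∈ X) : E B y m s ∈ P := by
  have b : ∀ p ∈ P, ∀ x ∈ (⊥ : Submodule F V), p.1 x ∈ (⊥ : Submodule F V) := by simp
  refine q.chain hP le_rfl bot_le (fun x hx => ?_) (fun x hx => ?_) b b (span_inv hy) (pp_inv (span_inv hy)) hX (by simp) (by simp) (fun x hx => ?_) fun x hx => ?_
  · obtain ⟨c, rfl⟩ := Submodule.mem_span_singleton.1 hx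
    exact mem_pp1.2 (by simp [q.bb])
  · obtain ⟨c, rfl⟩ := Submodule.mem_span_singleton.1 (q.pp_pp (F ∙ y) ▸ hx)
    exact mem_pp1.2 (by simp [q.bb])
  · obtain ⟨c, rfl⟩ := Submodule.mem_span_singleton.1 hx
    simp [q.nv_E h, q.bb, h]
  · rw [q.nv_E h, q.o' (mem_pp1.1 hx), zero_smul, zero_add]; exact sm_self _ y

/-- `P` fixes some `y ≠ 0` (`exists_fix` for `⊥ < ⊤`); `E_mem`, `eq_E`, `rt_E`. -/
theorem hz (hP : Syl 2 P ⊤) (ha : a * a = 1) (h : a ∈ 𝐂(P)) : a = 1 ∨ Rt a := by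
  obtain ⟨y, -, y0, hy⟩ := exists_fix hP.pgroup (A := ⊥) (A' := ⊤) (lt_top_iff_ne_top.2 fun e => by have := q.dim; rw [← finrank_top, ← e, finrank_bot] at this; omega) (by simp) (by simp)
  obtain ⟨m, s, -, rfl⟩ := q.eq_E y0 ha fun m s k => (mem_cent.1 h _ (q.E_mem hP (fun p hp => nv_zero.1 (hy p hp)) k (mem_top _))).symm
  exact q.rt_E y m s

/-- `exists_isom_step`: `fx B U` is transitive on `U^⊥ ∖ U`. -/
theorem fx_tr {n' : V} (h1 : n ∈ pp B U) (h2 : n ∉ U) (h1' : n' ∈ pp B U) (h2' : n' ∉ U) : ∃ g ∈ fx B U, g.1 n = n' :=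
  let ⟨g, a, b, c⟩ := exists_isom_step q.alt q.nd U n n' h2 h2' fun s hs => (h1 s hs).trans (h1' s hs).symm
  ⟨⟨g, a⟩, b, c⟩

/-- Find `n' ∈ U^⊥` with `n', n + n' ∉ U`, `B(n, n') = s`: if `s ≠ 0` by `exists_pp`; if `s = 0`: `n' = c n` (`c ≠ 0, 1`) or, in dimension `≥ 8`, `n' ∈ (U + ⟨n⟩)^⊥ ∖ (U + ⟨n⟩)`.
`E(y, n, s) E(y, n', s) = E(y, n + n', s)` (`E_mul`); `fx_tr` twice, `conj_E`. -/
theorem fu_E (hU : U ≤ pp B U) (h2 : finrank F U ≤ 2) (hy : y ∈ U) (h1 : n ∈ pp B U) (h0 : n ∉ U) (s : F) : Fu (fx B U) (E B y n s) := by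
  obtain ⟨n', a, b, c, d⟩ : ∃ n' ∈ pp B U, n' ∉ U ∧ n + n' ∉ U ∧ B n n' = s := by
    by_cases s0 : s = 0
    swap
    · obtain ⟨n', a, b⟩ := q.exists_pp h0 s
      exact ⟨n', a, fun k => s0 (b ▸ q.o' (h1 _ k)), fun k => s0 (by simpa [q.bb, b] using q.o' (h1 _ k)), b⟩
    rcases q.big with k | ⟨c, c0, c1⟩
    · obtain ⟨n', a, b⟩ := exists_nmem (U := pp B (U ⊔ F ∙ n)) (U' := U ⊔ F ∙ n) (by have := fr_sup U n; have := q.fr_pp (U ⊔ F ∙ n); omega)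
      rw [pp_sup] at a
      exact ⟨n', a.1, fun k => b (Submodule.mem_sup_left k), fun k => b ((Submodule.add_mem_iff_right _ (Submodule.mem_sup_right (Submodule.mem_span_singleton_self n))).1
        (Submodule.mem_sup_left k)), s0 ▸ mem_pp1.1 a.2⟩
    · exact ⟨c • n, Submodule.smul_mem _ _ h1, fun k => c0 (smul_nmem h0 k), fun k => c1 (CharTwo.add_eq_zero.1 (smul_nmem h0 (c := 1 + c) (by rwa [add_smul, one_smul]))).symm, by simp [q.bb, s0]⟩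
  obtain ⟨g, hg, e⟩ := q.fx_tr h1 h0 a b
  obtain ⟨g', hg', e'⟩ := q.fx_tr h1 h0 (add_mem h1 a) c
  exact ⟨fun x hx => q.E_fix (h1 y hy) (hU hy x hx) (h1 x hx), q.E_sq .., g, hg, g', hg', by
    rw [conj_E, conj_E, hg y hy, hg' y hy, e, e', q.E_mul (h1 y hy) (a y hy), d, CharTwo.add_self_eq_zero, zero_add]⟩

omit q in
theorem _root_.Cfsg.Lib.SD.fu_mono {G : Type*} [Group G] {X Y : Subgroup G} {w : G} (h : X ≤ Y) (k : Fu X w) : Fu Y w :=
  let ⟨a, b, c, d, e, f, g⟩ := k; ⟨h a, b, c, h d, e, h f, g⟩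

omit q in
/-- `E_cm`. -/
theorem _root_.Cfsg.Lib.SD.fx_le (y m : V) (s : F) : fx B (Submodule.span F {y, m}) ≤ 𝐂[E B y m s] := fun _ h =>
  memC (E_cm (h y (Submodule.subset_span (by simp))) (h m (Submodule.subset_span (by simp)))).symm

/-- `w = E(y, m, s)`, `U = ⟨y, m⟩`, `n ∈ U^⊥ ∖ U` (dimensions), `w = E(y, n, 0) E(y, n + m, s)`; `fu_E`, `fx_le`. -/
theorem b0 (h : Rt w) : ∃ a b, Fu 𝐂[w] a ∧ Fu 𝐂[w] b ∧ w = a * b := by
  obtain ⟨y, m, s, -, o, rfl⟩ := h.eq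
  have f := fr2 (F := F) y m
  have a : y ∈ Submodule.span F {y, m} := Submodule.subset_span (by simp)
  have b : m ∈ Submodule.span F {y, m} := Submodule.subset_span (by simp)
  have c : Submodule.span F {y, m} ≤ pp B (Submodule.span F {y, m}) := Submodule.span_le.2 (Set.pair_subset (mem_pp2.2 ⟨q.bb y, q.o' o⟩) (mem_pp2.2 ⟨o, q.bb m⟩))
  obtain ⟨n, h1, h2⟩ := exists_nmem (U := pp B (Submodule.span F {y, m})) (U' := Submodule.span F {y, m}) (by have := q.fr_pp (Submodule.span F {y, m}); have := q.dim; omega)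
  refine ⟨_, _, fu_mono (fx_le y m s) (q.fu_E c f a h1 h2 0), fu_mono (fx_le y m s) (q.fu_E c f a (add_mem h1 (c b)) (mt (Submodule.add_mem_iff_left _ b).1 h2) s), ?_⟩
  rw [q.E_mul (h1 y a) (add_mem h1 (c b) y a), ← add_assoc, vv F, zero_add, zero_add, map_add, q.bb, q.o' (h1 m b), add_zero, add_zero]

end Sq

end Cfsg.Lib.SD
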