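import Cfsg.Agent.Lib.SD.G1

/-!
# SD: the involutions centralizing a Sylow `2`-subgroup of `C(u)`.  `N = nv u`, `W = wv u ≤ W^⊥ = ker N` (`ww`, `mem_pp_wv`), `M = nv a`, `c = N c₁`, `y = N y₁`.
-/

set_option autoImplicit false
set_option linter.unusedSectionVars false

namespace Cfsg.Lib.SD

open Subgroup Cfsg.Lib.BG Cfsg.Lib.Symp Cfsg.Lib.OD Module
open scoped Cfsg.Lib.Transfer commutatorElement

variable {F V : Type*} [Field F] [Finite F] [CharP F 2] [AddCommGroup V] [Module F V] [FiniteDimensional F V] {B : LinearMap.BilinForm F V}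
  {u a g : isom B} {x y m v c₁ y₁ : V} {s : F} {P : Subgroup (isom B)}

/-- `a = l (u + c²) + y ∧ m + k y²` with `m = N v`. -/
structure Sp (u a : isom B) (c₁ y₁ v : V) (l k : F) : Prop where
  ne : nv u y₁ ≠ 0
  oc : B c₁ (nv u y₁) = 0
  eq : nv u c₁ ≠ 0 → B c₁ (nv u c₁) = 0 → y₁ = c₁
  ov : B (nv u y₁) v = 0
  ap : ∀ x, nv a x = l • (nv u x + B x (nv u c₁) • nv u c₁) + nv (E B (nv u y₁) (nv u v) k) x

namespace Sq
variable (q : Sq B)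
include q

/-- For `x ⊥ y`: `M x = r y`, `r = B(x₀, M x) = B(M x₀, x)`.  Write `x = (x + B(x, y) x₀) + B(x, y) x₀`. -/
theorem shape (M : V →ₗ[F] V) (hs : ∀ x z, B (M x) z = B x (M z)) (h : ∀ v, B y v = 0 → M v ∈ F ∙ y) {x₀ : V} (h0 : B x₀ y = 1) (x : V) :
    M x = B x y • M x₀ + (B x (M x₀) + B x₀ (M x₀) * B x y) • y := by
  have two : (2 : F) = 0 := two0
  obtain ⟨r, e⟩ := Submodule.mem_span_singleton.1 (h (x + B x y • x₀) (by simp [q.sy y, h0, CharTwo.add_self_eq_zero]))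
  have k := congrArg (B x₀) e
  rw [← hs, map_smul, h0, map_add, map_smul, q.sy _ x, q.sy _ x₀] at k
  rw [map_add, map_smul, ← sub_eq_iff_eq_add] at e
  rw [← e, show r = B x (M x₀) + B x₀ (M x₀) * B x y by simpa [mul_comm] using k, sub_eq F, add_comm]

/-- `u g u⁻¹ = E(y, s y₁ + s y, 0) = g` (`conj_E`, `ap_eq`, `E_add_smul`). -/
theorem lift1 (u2 : u * u = 1) (h : B y₁ (nv u y₁) = 0) (s : F) : E B (nv u y₁) (s • y₁) 0 * u = u * E B (nv u y₁) (s • y₁) 0 := by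
  rw [eq_comm, ← mul_inv_eq_iff_eq_mul, conj_E, nv_zero.1 (nv_nv u2 _), map_smul, ap_eq u y₁, smul_add, q.E_add_smul (by simp [q.o' h])]

/-- `u E(y, v, 0) u⁻¹ = E(y, v, 0) E(y, N v, 0)`, `u E(N v, y₁, 0) u⁻¹ = E(N v, y, 0) E(N v, y₁, 0)` (`E_mul`), `E_sw`, `E_sq`. -/
theorem lift2 (u2 : u * u = 1) (h : B y₁ (nv u y₁) = 0) (hv : B (nv u y₁) v = 0) (h' : B v (nv u v) = 0) :
    E B (nv u y₁) v 0 * E B (nv u v) y₁ 0 * u = u * (E B (nv u y₁) v 0 * E B (nv u v) y₁ 0) := by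
  have a : B (nv u y₁) (nv u v) = 0 := ww u2 (nv_mem ..) (nv_mem ..)
  have b : B (nv u v) y₁ = 0 := (nv_sym u2 ..).trans (q.o' hv)
  have c := q.E_mul hv a 0 0
  have d := q.E_mul (q.o' a) b 0 0
  rw [h', add_zero, add_zero] at c
  rw [q.o' h, add_zero, add_zero, q.E_sw a] at d
  rw [eq_comm, ← mul_inv_eq_iff_eq_mul, ← conj_mul, conj_E, conj_E, nv_zero.1 (nv_nv u2 _), nv_zero.1 (nv_nv u2 _), ap_eq u v, ap_eq u y₁, add_comm y₁, ← c, ← d, mul_assoc,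
    ← mul_assoc (E B (nv u y₁) (nv u v) 0), q.E_sq, one_mul]

/-- `nv_mul'`, `nv_E`. -/
theorem lift2_nv (u2 : u * u = 1) (h : B y₁ (nv u y₁) = 0) (hv : B (nv u y₁) v = 0) (h' : B v (nv u v) = 0) (x : V) :
    nv (E B (nv u y₁) v 0 * E B (nv u v) y₁ 0) x =
      B x (nv u v) • y₁ + B x (nv u y₁) • v + B x y₁ • nv u v + (B x v + B x (nv u v) * B y₁ v) • nv u y₁ := by
  have a : B (nv u v) (nv u y₁) = 0 := ww u2 (nv_mem ..) (nv_mem ..)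
  have b : B (nv u v) y₁ = 0 := (nv_sym u2 ..).trans (q.o' hv)
  simp only [nv_mul', q.nv_E hv, q.nv_E b, map_add, map_smul, LinearMap.add_apply, LinearMap.smul_apply, h, a, q.o' h', smul_eq_mul]
  module

/-- `N (p y₁) = p y = y`, so `p⁻¹ y₁ + y₁ ∈ W^⊥`. -/
theorem H_inv (hP : P ≤ 𝐂[u]) (hy : ∀ p ∈ P, p.1 (nv u y₁) = nv u y₁) : ∀ p ∈ P, ∀ x ∈ wv u ⊓ pp B (F ∙ y₁), p.1 x ∈ wv u ⊓ pp B (F ∙ y₁) := fun p hp x hx => by
  have c := fun p hp => mem_cent1.1 (hP (x := p) hp)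
  refine ⟨wv_inv (c p hp) hx.1, mem_pp1.2 ?_⟩
  rw [q.sy, bil_left, ap_eq, map_add, q.o' (mem_pp1.1 hx.2), zero_add]
  exact q.mem_pp_wv.2 (by rw [nv_apply p⁻¹, map_sub, nv_conj (c _ (inv_mem hp)), hy _ (inv_mem hp), sub_self]) x hx.1

omit q in
theorem _root_.Cfsg.Lib.SD.wpp (u2 : u * u = 1) : wv u ≤ pp B (wv u) := fun _ hx _ hy => ww u2 hy hx

omit q in
theorem _root_.Cfsg.Lib.SD.winv (hP : P ≤ 𝐂[u]) : ∀ p ∈ P, ∀ x ∈ wv u, p.1 x ∈ wv u := fun _ hp _ => wv_inv (mem_cent1.1 (hP hp))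

theorem chainW (u2 : u * u = 1) (hP : Syl 2 P 𝐂[u]) {A A' : Submodule F V} (h1 : A ≤ A') (h2 : A' ≤ wv u) (iA : ∀ p ∈ P, ∀ x ∈ A, p.1 x ∈ A) (iB : ∀ p ∈ P, ∀ x ∈ A', p.1 x ∈ A')
    (hg : g * u = u * g) (gA : ∀ x ∈ A, nv g x = 0) (gB : ∀ x ∈ A', nv g x ∈ A) (gC : ∀ x ∈ wv u, nv g x ∈ A') (gD : ∀ x ∈ pp B (wv u), nv g x ∈ wv u) : g ∈ P :=
  q.chain hP h1 h2 (wpp u2) (by rw [q.pp_pp]; exact wpp u2) iA iB (winv hP.le) (pp_inv (winv hP.le)) (memC hg) gA gB gC gD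

/-- `chain` with `⊥, ⊥, W, W^⊥`; `E_cm`. -/
theorem rad_mem (u2 : u * u = 1) (hP : Syl 2 P 𝐂[u]) (hy : y ∈ wv u) (hm : m ∈ pp B (wv u)) (s : F) : E B y m s ∈ P :=
  q.chainW u2 hP (A := ⊥) le_rfl bot_le (by simp) (by simp) (E_cm (nv_zero.1 (q.mem_pp_wv.1 (wpp u2 hy))) (nv_zero.1 (q.mem_pp_wv.1 hm))) (by simp) (by simp)
    (fun x hx => by simp [q.nv_E (hm y hy), ww u2 hx hy, hm x hx]) fun x hx => by
      rw [q.nv_E (hm y hy), q.o' (hx y hy), zero_smul, zero_add]; exact Submodule.smul_mem _ _ hy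

/-- `chain` with `⊥, ⟨y⟩, W, W^⊥`. -/
theorem lift1_mem (u2 : u * u = 1) (hP : Syl 2 P 𝐂[u]) (hy : ∀ p ∈ P, p.1 (nv u y₁) = nv u y₁) (h : B y₁ (nv u y₁) = 0) :
    E B (nv u y₁) y₁ 0 ∈ P := by
  have k : ∀ x ∈ pp B (wv u), nv (E B (nv u y₁) y₁ 0) x = B x y₁ • nv u y₁ := fun x hx => by simp [q.nv_E (q.o' h), q.o' (hx _ (nv_mem ..))]
  refine q.chainW u2 hP (A := ⊥) bot_le ((Submodule.span_singleton_le_iff_mem _ _).2 (nv_mem ..)) (by simp) (span_inv hy) (by simpa using q.lift1 u2 h 1) (by simp) (fun x hx => ?_)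
    (fun x hx => k x (wpp u2 hx) ▸ sm_self _ _) fun x hx => k x hx ▸ Submodule.smul_mem _ _ (nv_mem ..)
  obtain ⟨c, rfl⟩ := Submodule.mem_span_singleton.1 hx
  simp [k _ (wpp u2 (nv_mem ..)), q.o' h]

/-- `chain` with `⟨y⟩, W ⊓ y₁^⊥, W, W^⊥` (`H_inv`, `lift2_nv`). -/
theorem lift2_mem (u2 : u * u = 1) (hP : Syl 2 P 𝐂[u]) (hy : ∀ p ∈ P, p.1 (nv u y₁) = nv u y₁) (h : B y₁ (nv u y₁) = 0)
    (hv : B (nv u y₁) v = 0) (h' : B v (nv u v) = 0) : E B (nv u y₁) v 0 * E B (nv u v) y₁ 0 ∈ P := by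
  have k : ∀ x ∈ pp B (wv u), nv (E B (nv u y₁) v 0 * E B (nv u v) y₁ 0) x = B x y₁ • nv u v + B x v • nv u y₁ := fun x hx => by
    simp [q.lift2_nv u2 h hv h', q.o' (hx _ (nv_mem ..))]
  have a : nv u y₁ ∈ wv u ⊓ pp B (F ∙ y₁) := ⟨nv_mem .., mem_pp1.2 h⟩
  have b : nv u v ∈ wv u ⊓ pp B (F ∙ y₁) := ⟨nv_mem .., mem_pp1.2 ((nv_sym u2 ..).symm.trans hv)⟩
  refine q.chainW u2 hP ((Submodule.span_singleton_le_iff_mem _ _).2 a) inf_le_left (span_inv hy) (q.H_inv hP.le hy) (q.lift2 u2 h hv h') (fun x hx => ?_) (fun x hx => ?_)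
    (fun x hx => k x (wpp u2 hx) ▸ add_mem (Submodule.smul_mem _ _ b) (Submodule.smul_mem _ _ a)) fun x hx => k x hx ▸ add_mem (Submodule.smul_mem _ _ b.1) (Submodule.smul_mem _ _ a.1)
  · obtain ⟨c, rfl⟩ := Submodule.mem_span_singleton.1 hx
    simp [k _ (wpp u2 (nv_mem ..)), q.o' h, hv]
  · rw [k x (wpp u2 hx.1), q.o' (mem_pp1.1 hx.2), zero_smul, zero_add]; exact sm_self _ _

/-- `a` commutes with `E(y, m, s)`, `y ∈ W`, `m ∈ W^⊥` (`rad_mem`).  `E(a y, 0, 1) = E(y, 0, 1)` gives `a y = y` (`nv_E`: `B(x, a y) a y = B(x, y) y`, `a y = r y`, `r² = 1`; or `tv_eq_tv`).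
`E(y, a m, 0) = E(y, m, 0)` gives `a m + m ∈ ⟨y⟩` (`E_inj`) for two independent `y`.  `wv_le`. -/
theorem zu_le (h : Hi u) (z : Zu u a) : wv a ≤ wv u := by
  obtain ⟨-, P, hP, ac⟩ := z
  have k : ∀ y ∈ wv u, ∀ m ∈ pp B (wv u), ∀ s, E B (a.1 y) (a.1 m) s = E B y m s := fun y hy m hm s => by
    rw [← conj_E, mul_inv_eq_iff_eq_mul]; exact (mem_cent.1 ac _ (q.rad_mem h.sq hP hy hm s)).symm
  have k1 : ∀ y ∈ wv u, a.1 y = y := fun y hy => q.ext fun x => sq_inj (by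
    simpa [q.nv_E (map_zero _), pow_two] using congrArg (fun g => B x (nv g x)) (k y hy 0 (zero_mem _) 1))
  refine q.wv_le fun m hm => ?_
  have k2 : ∀ y ∈ wv u, y ≠ 0 → nv a m ∈ F ∙ y := fun y hy y0 => by
    rw [nv_apply, sub_eq F]
    exact (q.E_inj y0 (by rw [← hm y hy, ← bil_ap a y m, k1 y hy]) (hm y hy) (k1 y hy ▸ k y hy m hm 0 :)).1
  have := h.rk
  obtain ⟨e, he, e0⟩ := exists_nmem (U := wv u) (U' := ⊥) (by rw [finrank_bot]; omega)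
  obtain ⟨e', he', n⟩ := exists_nmem (U := wv u) (U' := F ∙ e) (by have := fr1 (F := F) e; omega)
  obtain ⟨c, hc⟩ := Submodule.mem_span_singleton.1 (k2 e' he' fun c => n (c ▸ zero_mem _))
  rw [← hc, smul_nmem (c := c) n (hc ▸ k2 e he e0), zero_smul]

theorem fr_inf (U : Submodule F V) (x : V) : finrank F U ≤ finrank F (U ⊓ pp B (F ∙ x) : Submodule F V) + 1 := by
  have := Submodule.finrank_sup_add_finrank_inf_eq U (pp B (F ∙ x))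
  have := Submodule.finrank_le (U ⊔ pp B (F ∙ x))
  have := q.fr_pp (F ∙ x)
  have := fr1 (F := F) x
  omega

/-- If `c ≠ 0`, `B(c₁, c) = 0` take `y₁ = c₁` (`ch_fix`).  Else `exists_fix` for `⊥ < W ⊓ c₁^⊥` (`H_inv`, dimension `≥ 2`). -/
theorem exists_y (h : Hi u) (c : Ch u c₁) (hP : Syl 2 P 𝐂[u]) : ∃ y₁, nv u y₁ ≠ 0 ∧ B c₁ (nv u y₁) = 0 ∧
    (nv u c₁ ≠ 0 → B c₁ (nv u c₁) = 0 → y₁ = c₁) ∧ ∀ p ∈ P, p.1 (nv u y₁) = nv u y₁ := by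
  have f : ∀ p ∈ P, p.1 (nv u c₁) = nv u c₁ := fun p hp => q.ch_fix c (mem_cent1.1 (hP.le hp))
  by_cases k : nv u c₁ ≠ 0 ∧ B c₁ (nv u c₁) = 0
  · exact ⟨c₁, k.1, k.2, fun _ _ => rfl, f⟩
  obtain ⟨_, ⟨⟨y, rfl⟩, a⟩, b, d⟩ := exists_fix hP.pgroup (A := ⊥) (A' := wv u ⊓ pp B (F ∙ c₁)) (bot_lt_iff_ne_bot.2 fun e => by
    have := q.fr_inf (wv u) c₁
    have := h.rk
    rw [e, finrank_bot] at *
    omega) (by simp) (q.H_inv hP.le f)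
  exact ⟨y, b, mem_pp1.1 a, fun o o' => absurd ⟨o, o'⟩ k, fun p hp => nv_zero.1 (d p hp)⟩

/-- `y₁` from `exists_y`; `B(y₁, y) = B(y₁, c)² = 0`.  `M` is symmetric (`nv_sym`), has image in `W`, kills `W^⊥ ≥ W` (`zu_le`, `fix_of`), `M g = g M` for `g ∈ P` (`nv_conj`).  Fix `x₀`, `B(x₀, y) = 1`.
(i) `g = E(y, y₁, 0)` at `x₀`: `M y₁ = l y`.  Put `M' = M + l N`.  (ii) `g` from `lift2_mem` at `x₀`, for `v ⊥ y, c` (then `B(v, N v) = 0`): `M' v = B(M' x₀, v) y`.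
(iii) `M'' x = M' x + l B(x, c) c` maps `y^⊥` into `⟨y⟩`: clear if `c = 0` or `y₁ = c₁`; if `B(c₁, c) = 1`: `M' c₁ ∈ ⟨y, c⟩^⊥⊥` (by (ii) and symmetry), `M' c₁ = μ y + l c` (pair with `c₁`), and
`v = (v + B(v, c) c₁) + B(v, c) c₁`.  (iv) `shape` for `M''`, `M'' x₀ = N v`, `B(y, v) = B(y₁, M'' x₀) = B(M'' y₁, x₀) = 0`, `k = B(x₀, N v)`, `nv_E`. -/
theorem zu_sp (h : Hi u) (c : Ch u c₁) (z : Zu u a) (r : B c₁ (nv u c₁) = 1 → B c₁ (nv a c₁) = 0) : ∃ y₁ v l k, Sp u a c₁ y₁ v l k := by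
  have two : (2 : F) = 0 := two0
  have le := q.zu_le h z
  obtain ⟨a2, P, hP, ac⟩ := z
  obtain ⟨y₁, y0, oc, eq, hy⟩ := q.exists_y h c hP
  have u2 := h.sq
  have yc : B y₁ (nv u c₁) = 0 := (nv_sym u2 ..).symm.trans (q.o' oc)
  have yy : B y₁ (nv u y₁) = 0 := by rw [c, yc, zero_pow two_ne_zero]
  have MW : ∀ x, nv a (nv u x) = 0 := fun x => q.fix_of le (wpp u2 (nv_mem ..))
  have WM : ∀ x z, B (nv a x) (nv u z) = 0 := fun x z => ww u2 (le (nv_mem ..)) (nv_mem ..)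
  have cm : ∀ g ∈ P, ∀ x, nv a (nv g x) = nv g (nv a x) := fun g hg x => by rw [nv_apply g, map_sub, nv_conj (mem_cent.1 ac g hg), ← nv_apply]
  obtain ⟨x₀, h0⟩ := q.exists_one y0
  rw [q.sy] at h0
  obtain ⟨l, hl⟩ : ∃ l, l = B (nv a x₀) y₁ := ⟨_, rfl⟩
  have i1 : nv a y₁ = l • nv u y₁ := by simpa [q.nv_E (q.o' yy), h0, MW, WM, ← hl] using cm _ (q.lift1_mem u2 hP hy yy) x₀
  obtain ⟨M, hM⟩ : ∃ M : V →ₗ[F] V, ∀ x, M x = nv a x + l • (nv u x + B x (nv u c₁) • nv u c₁) := ⟨nv a + l • (nv u + (B.flip (nv u c₁)).smulRight (nv u c₁)), fun _ => rfl⟩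
  have hs : ∀ x z, B (M x) z = B x (M z) := fun x z => by
    simp only [hM, map_add, map_smul, LinearMap.add_apply, LinearMap.smul_apply, nv_sym a2, nv_sym u2 x, q.sy (nv u c₁), smul_eq_mul]; ring
  have i2 : ∀ v, B (nv u y₁) v = 0 → B v (nv u c₁) = 0 → M v ∈ F ∙ nv u y₁ := fun v o b => by
    have d : B v (nv u v) = 0 := by rw [c, b, zero_pow two_ne_zero]
    have := cm _ (q.lift2_mem u2 hP hy yy o d) x₀
    simp only [q.lift2_nv u2 yy o d, map_add, map_smul, MW, WM, h0, i1, ← hl, one_smul, zero_smul, smul_zero, add_zero, zero_add, zero_mul] at this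
    rw [hM, b, zero_smul, add_zero, eq_sub_of_add_eq' this]
    exact Submodule.mem_span_singleton.2 ⟨B (nv a x₀) v + B x₀ (nv u v) * l, by match_scalars <;> grind only⟩
  have i3 : ∀ v, B (nv u y₁) v = 0 → M v ∈ F ∙ nv u y₁ := fun v a => by
    by_cases c0 : nv u c₁ = 0
    · exact i2 v a (by rw [c0, map_zero])
    rcases c.zo with o | o
    · exact i2 v a (eq c0 o ▸ q.o' a)
    have k : M c₁ ∈ Submodule.span F {nv u y₁, nv u c₁} := q.pp_pp (Submodule.span F {nv u y₁, nv u c₁}) ▸ fun w hw => by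
      obtain ⟨j, e⟩ := Submodule.mem_span_singleton.1 (i2 w (mem_pp2.1 hw).1 (q.o' (mem_pp2.1 hw).2))
      rw [← hs, ← e, map_smul, LinearMap.smul_apply, q.o' oc, smul_zero]
    obtain ⟨μ, ν, e⟩ := Submodule.mem_span_pair.1 k
    have n := congrArg (B c₁) e
    simp only [hM, map_add, map_smul, oc, o, r o, smul_eq_mul] at n
    rw [show ν = 0 by grind only, zero_smul, add_zero] at e
    have := sub_mem (i2 (v + B v (nv u c₁) • c₁) (by simp [a, q.o' oc]) (by simp [o, CharTwo.add_self_eq_zero])) (Submodule.smul_mem _ (B v (nv u c₁)) (e ▸ sm_self μ _))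
    rwa [map_add, map_smul, add_sub_cancel_right] at this
  obtain ⟨v, hv⟩ : M x₀ ∈ wv u := hM x₀ ▸ add_mem (le (nv_mem ..)) (Submodule.smul_mem _ _ (add_mem (nv_mem ..) (Submodule.smul_mem _ _ (nv_mem ..))))
  refine ⟨y₁, v, l, B x₀ (M x₀), y0, oc, eq, by rw [nv_sym u2, hv, ← hs, hM, i1, yc, zero_smul, add_zero, vv F, map_zero, LinearMap.zero_apply], fun x => ?_⟩
  rw [q.nv_E (ww u2 (nv_mem ..) (nv_mem ..)), hv, ← q.shape M hs i3 h0, hM, add_left_comm, vv F, add_zero]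

end Sq

end Cfsg.Lib.SD
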