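import Cfsg.Agent.Lib.SD.G2

/-!
# SD: the group `V₀ = {E(y, N v, 0) | v ⊥ y}`, and the types `a₄`.  Notation as in `G2`.  Compare `Lib/OD/G3`.
-/

set_option autoImplicit false
set_option linter.unusedSectionVars false

namespace Cfsg.Lib.SD

open Subgroup Cfsg.Lib.BG Cfsg.Lib.Symp Cfsg.Lib.OD Module
open scoped Cfsg.Lib.Transfer commutatorElement

variable {F V : Type*} [Field F] [Finite F] [CharP F 2] [AddCommGroup V] [Module F V] [FiniteDimensional F V] {B : LinearMap.BilinForm F V}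
  {u a b c w : isom B} {x y m v v' c₁ y₁ : V} {l k : F}

/-- `w = E(y, N v, 0)`, `v ⊥ y`, `N v ∉ ⟨y⟩`. -/
def Sh (u : isom B) (y₁ : V) (w : isom B) : Prop := ∃ v, B (nv u y₁) v = 0 ∧ nv u v ∉ F ∙ nv u y₁ ∧ w = E B (nv u y₁) (nv u v) 0

/-- The projection `π w = w + B(c₁, w) c`. -/
def pj (u : isom B) (c₁ w : V) : V := w + B c₁ w • nv u c₁

/-- `γ_a² = 1` on `W ⊓ c₁^⊥`, where `γ_a (N x) = π (N_a x)`. -/
def Nl (u : isom B) (c₁ : V) (a : isom B) : Prop :=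
  wv a ≤ wv u ∧ ∀ x x', B x (nv u c₁) = 0 → nv u x' = pj u c₁ (nv a x) → pj u c₁ (nv a x') = nv u x

/-- What is known about the image of a conjugate of `z`. -/
structure Gd (u a : isom B) : Prop where
  zu : Zu u a
  ne : a ≠ 1
  nr : ¬ Rt a
  nc : ¬ Cj ⊤ a (u * a)

namespace Sq
variable (q : Sq B) (u2 : u * u = 1)
include q u2

/-- `B(v, N v) = B(v, c)²`, `c = 0` or `c = y`. -/
theorem bp_o (p : Bp u c₁ y₁) (hv : B (nv u y₁) v = 0) : B v (nv u v) = 0 := by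
  rw [p.ch, show B v (nv u c₁) = 0 from p.eq.elim (fun e => by rw [e, map_zero]) fun e => e ▸ q.o' hv, zero_pow two_ne_zero]

/-- `ww`. -/
theorem sh_a2 (p : Bp u c₁ y₁) (h : Sh u y₁ w) : A2 w :=
  let ⟨_, _, b, e⟩ := h; ⟨_, _, ⟨p.ne, b, ww u2 (nv_mem ..) (nv_mem ..)⟩, e⟩

/-- Conjugate `u` by `E(y, v, 0)`: `u⁻¹ E(y, v, 0) u = E(y, v + N v, 0)`, `E_mul`, `bp_o`. -/
theorem b2 (p : Bp u c₁ y₁) (h : Sh u y₁ w) : Cj ⊤ u (u * w) := by
  obtain ⟨v, hv, -, rfl⟩ := h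
  have a := conj_E u (nv u y₁) v 0
  have b := q.E_mul (m := v + nv u v) (by rw [map_add, hv, ww u2 (nv_mem ..) (nv_mem ..), add_zero]) hv 0 0
  rw [nv_zero.1 (nv_nv u2 _), ap_eq u v] at a
  rw [add_right_comm, vv F, zero_add, map_add, LinearMap.add_apply, q.bb, q.o' (q.bp_o u2 p hv), add_zero, add_zero, ← a] at b
  exact ⟨E B (nv u y₁) v 0, mem_top _, by rw [← b, q.E_inv, inv_eq_of_mul_eq_one_left u2, ← mul_assoc, ← mul_assoc, ← mul_assoc, u2, one_mul]⟩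

theorem tr1 (hy : y ∈ wv u) (hv : B y v = 0) (hv' : B y v' = 0) (h1 : B v (nv u v) = 0) (h2 : B (v + v') (nv u (v + v')) = 0) (h : B (nv u v) v' ≠ 0) :
    Cj 𝐂[u] (E B y (nv u v) 0) (E B y (nv u v') 0) := by
  have o : B (nv u (v + v')) ((B (nv u v) v')⁻¹ • (v + v')) = 0 := by rw [map_smul, q.o' h2, smul_zero]
  refine ⟨_, memC (q.lift1 u2 h2 (B (nv u v) v')⁻¹), ?_⟩
  rw [conj_E, q.E_fix o (ww u2 hy (nv_mem ..)) (by simp [hv, hv']), q.E_ap o, ww u2 (nv_mem ..) (nv_mem ..)]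
  simp [q.o' h1, h, ← add_assoc, vv F]

/-- `g = E(f, r (v + v'), 0)`, `f = N (v + v')`, `r = B(N v, v')⁻¹` (`lift1`, `bp_o`): `g y = y`, `g (N v) = N v'`. -/
theorem tr0 (p : Bp u c₁ y₁) (hv : B (nv u y₁) v = 0) (hv' : B (nv u y₁) v' = 0) (h : B (nv u v) v' ≠ 0) :
    Cj 𝐂[u] (E B (nv u y₁) (nv u v) 0) (E B (nv u y₁) (nv u v') 0) :=
  q.tr1 u2 (nv_mem ..) hv hv' (q.bp_o u2 p hv) (q.bp_o u2 p (by rw [map_add, hv, hv', add_zero])) h

/-- `x ⊥ y` with `B(N v, x) ≠ 0 ≠ B(N v', x)` (one of `x₁, x₂, x₁ + x₂` from `exists_pp`); `tr0` twice. -/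
theorem tr (p : Bp u c₁ y₁) (ha : Sh u y₁ a) (hb : Sh u y₁ b) : Cj 𝐂[u] a b := by
  obtain ⟨v, hv, n, rfl⟩ := ha
  obtain ⟨v', hv', n', rfl⟩ := hb
  obtain ⟨x, hx, a, b⟩ : ∃ x, B (nv u y₁) x = 0 ∧ B (nv u v) x ≠ 0 ∧ B (nv u v') x ≠ 0 := by
    obtain ⟨x, a, b⟩ := q.exists_pp n 1
    obtain ⟨x', a', b'⟩ := q.exists_pp n' 1
    rw [mem_pp1] at a a'
    by_cases c : B (nv u v') x = 0
    · by_cases d : B (nv u v) x' = 0
      exacts [⟨x + x', by simp [a, a'], by simp [b, d], by simp [c, b']⟩, ⟨x', a', d, b' ▸ one_ne_zero⟩]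
    · exact ⟨x, a, b ▸ one_ne_zero, c⟩
  obtain ⟨g, hg, e⟩ := q.tr0 u2 p hv hx a
  obtain ⟨g', hg', e'⟩ := q.tr0 u2 p hx hv' (by rwa [nv_sym u2, q.sy])
  exact ⟨g' * g, mul_mem hg' hg, by rw [← e', ← e]; group⟩

/-- `v' ⊥ y`, `B(N v, v') = 1`; `tr0` for `v'` and `v + v'`; `E_mul`, `ww`, `E_cm`. -/
theorem b3 (p : Bp u c₁ y₁) (h : Sh u y₁ w) : Fu 𝐂[u] w := by
  obtain ⟨v, hv, n, rfl⟩ := h
  obtain ⟨v', hv', k⟩ := q.exists_pp n 1
  rw [mem_pp1] at hv'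
  obtain ⟨a, ha, a1⟩ := q.tr0 u2 p hv hv' (k ▸ one_ne_zero)
  obtain ⟨b, hb, b1⟩ := q.tr0 u2 p hv (v' := v + v') (by rw [map_add, hv, hv', add_zero]) (by rw [map_add, q.o' (q.bp_o u2 p hv), k, zero_add]; exact one_ne_zero)
  have w := fun x z => ww u2 (nv_mem u x) (nv_mem u z)
  exact ⟨memC (E_cm (nv_zero.1 (nv_nv u2 _)) (nv_zero.1 (nv_nv u2 _))), q.E_sq .., a, ha, b, hb, by rw [a1, b1, map_add, q.E_mul (w ..) (w ..), w, add_zero, add_zero]⟩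

/-- `nv_mul'`, `fix_of`, `ww`. -/
theorem nv_mul {g h : isom B} (hg : wv g ≤ wv u) (hh : wv h ≤ wv u) (x : V) : nv (g * h) x = nv g x + nv h x := by
  rw [nv_mul', q.fix_of hg (wpp u2 (hh (nv_mem h x))), add_zero]

theorem wv_mul {g h : isom B} (hg : wv g ≤ wv u) (hh : wv h ≤ wv u) : wv (g * h) ≤ wv u := by
  rintro _ ⟨x, rfl⟩
  exact (q.nv_mul u2 hg hh x).symm ▸ add_mem (hg (nv_mem g x)) (hh (nv_mem h x))

/-- `eq_of_nv`, `rt_E`. -/
theorem sp_zero (s : Sp u a c₁ y₁ v 0 k) : a = 1 ∨ Rt a := by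
  rw [eq_of_nv (g := a) (h := E B (nv u y₁) (nv u v) k) fun x => by rw [s.ap, zero_smul, zero_add]]; exact q.rt_E ..

theorem sp_le (s : Sp u a c₁ y₁ v l k) : wv a ≤ wv u := by
  rintro _ ⟨x, rfl⟩
  exact s.ap x ▸ add_mem (Submodule.smul_mem _ _ (add_mem (nv_mem ..) (Submodule.smul_mem _ _ (nv_mem ..)))) (q.wv_E' (nv_mem ..) (nv_mem ..) k (nv_mem ..))

/-- `π y = y`, `π (N x) = N x` for `x ⊥ c`, `π (N v) = N v'`, `v' = v + B(c₁, N v) c₁`.  Put `ν = nv (E ..)`.  `N x' = N x + π (ν x)`; pair with `c₁, y₁, v`: `B(x', c) = 0`, `B(x', y) = B(x, y)`,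
`B(x', N v) = B(x, N v)` (`B(N v', v) = B(v, c)² + B(c, v)² = 0`).  So `ν x' = ν x`. -/
theorem sp_nl (h : Ch u c₁) (h' : nv u c₁ = 0 ∨ B c₁ (nv u c₁) = 1) (s : Sp u a c₁ y₁ v 1 k) : Nl u c₁ a := by
  have two : (2 : F) = 0 := two0
  refine ⟨q.sp_le u2 s, fun x x' hx e => ?_⟩
  have sy : ∀ x y, B x (nv u y) = B y (nv u x) := fun x y => by rw [← nv_sym u2, q.sy]
  have yc : B y₁ (nv u c₁) = 0 := (sy ..).trans s.oc
  have yy : B y₁ (nv u y₁) = 0 := by rw [h, yc, zero_pow two_ne_zero]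
  have vy := q.o' s.ov
  simp only [pj, s.ap, q.nv_E (ww u2 (nv_mem ..) (nv_mem ..)), one_smul, map_add, map_smul, smul_eq_mul, s.oc, sy c₁ x, sy c₁ x', sy c₁ v, hx] at e ⊢
  have e1 := congrArg (B c₁) e
  have e2 := congrArg (B y₁) e
  have e3 := congrArg (B v) e
  simp only [map_add, map_smul, smul_eq_mul, s.oc, sy c₁ x, sy c₁ x', sy c₁ v, hx, sy y₁ x, sy y₁ x', sy y₁ v, yc, yy, vy, sy v x, sy v x', h v] at e1 e2 e3
  rw [show B x' (nv u c₁) = 0 from h'.elim (fun o => by rw [o, map_zero]) fun o => by grind only, show B x' (nv u y₁) = B x (nv u y₁) by grind only,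
    show B x' (nv u v) = B x (nv u v) by grind only, e]
  match_scalars <;> grind only

omit q u2 in
theorem _root_.Cfsg.Lib.SD.pj_add (x y : V) : pj u c₁ (x + y) = pj u c₁ x + pj u c₁ y := by rw [pj, pj, pj, map_add, add_smul]; abel

omit q u2 in
theorem _root_.Cfsg.Lib.SD.Nl.ex (h : Nl u c₁ a) (x : V) : ∃ x', nv u x' = pj u c₁ (nv a x) := add_mem (h.1 (nv_mem ..)) (Submodule.smul_mem _ _ (nv_mem ..))

/-- `N x_g = π (N_g x)` for `g = a, b, c` (`π W ≤ W`).  `π N_a x_a = N x`, `π N_a x_b + π N_b x_a = N x`, ..; the nine terms of the last relation add up to `6 N x = 0`.  See `OD.Gq.b4_n`. -/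
theorem three (ha : Nl u c₁ a) (hb : Nl u c₁ b) (hc : Nl u c₁ c) (h1 : Nl u c₁ (a * b)) (h2 : Nl u c₁ (a * c)) (h3 : Nl u c₁ (b * c))
    (h4 : Nl u c₁ (a * b * c)) (hx : B x (nv u c₁) = 0) : nv u x = 0 := by
  have two : (2 : F) = 0 := two0
  have m := fun {g h} => q.nv_mul u2 (g := g) (h := h)
  obtain ⟨xa, ea⟩ := ha.ex x
  obtain ⟨xb, eb⟩ := hb.ex x
  obtain ⟨xc, ec⟩ := hc.ex x
  have k1 := h1.2 x (xa + xb) hx (by simp only [m ha.1 hb.1, map_add, pj_add, ea, eb])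
  have k2 := h2.2 x (xa + xc) hx (by simp only [m ha.1 hc.1, map_add, pj_add, ea, ec])
  have k3 := h3.2 x (xb + xc) hx (by simp only [m hb.1 hc.1, map_add, pj_add, eb, ec])
  have k4 := h4.2 x (xa + xb + xc) hx (by simp only [m h1.1 hc.1, m ha.1 hb.1, map_add, pj_add, ea, eb, ec])
  simp only [m h1.1 hc.1, m ha.1 hb.1, m ha.1 hc.1, m hb.1 hc.1, map_add, pj_add, ha.2 x xa hx ea, hb.2 x xb hx eb, hc.2 x xc hx ec] at k1 k2 k3 k4
  linear_combination (norm := (match_scalars <;> grind only)) (1 : F) • k1 + k2 + k3 + k4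

/-- As `three` with `π = 1`: `h3` gives `N_b x_c + N_c x_b = 0`, `h4` gives `N x = N x + 5 N x`. -/
theorem seven (h0 : nv u c₁ = 0) (ha : Nl u c₁ a) (hb : Nl u c₁ b) (hc : Nl u c₁ c) (h1 : Nl u c₁ (a * b)) (h2 : Nl u c₁ (a * c))
    (h3 : Nl u c₁ (u * b * c)) (h4 : Nl u c₁ (u * a * b * c)) : u = 1 := eq_one_of fun x => by
  have two : (2 : F) = 0 := two0
  have m := fun {g h} => q.nv_mul u2 (g := g) (h := h)
  have p : ∀ w, pj u c₁ w = w := fun w => by rw [pj, h0, smul_zero, add_zero]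
  have hx : B x (nv u c₁) = 0 := by rw [h0, map_zero]
  have ua := q.wv_mul u2 le_rfl ha.1
  have ub := q.wv_mul u2 le_rfl hb.1
  have uab := q.wv_mul u2 ua hb.1
  obtain ⟨xa, ea⟩ := ha.ex x
  obtain ⟨xb, eb⟩ := hb.ex x
  obtain ⟨xc, ec⟩ := hc.ex x
  have za := ha.2 x xa hx ea
  have zb := hb.2 x xb hx eb
  have zc := hc.2 x xc hx ec
  rw [p] at ea eb ec za zb zc
  have k1 := h1.2 x (xa + xb) hx (by simp only [m ha.1 hb.1, map_add, p, ea, eb])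
  have k2 := h2.2 x (xa + xc) hx (by simp only [m ha.1 hc.1, map_add, p, ea, ec])
  have k3 := h3.2 x (x + xb + xc) hx (by simp only [m ub hc.1, m le_rfl hb.1, map_add, p, eb, ec])
  have k4 := h4.2 x (x + xa + xb + xc) hx (by simp only [m uab hc.1, m ua hb.1, m le_rfl ha.1, map_add, p, ea, eb, ec])
  simp only [m uab hc.1, m ua hb.1, m ub hc.1, m le_rfl ha.1, m le_rfl hb.1, m ha.1 hb.1, m ha.1 hc.1, map_add, p, ea, eb, ec, za, zb, zc] at k1 k2 k3 k4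
  linear_combination (norm := (match_scalars <;> grind only)) (1 : F) • k1 + k2 + k3 + k4

/-- If `g` has `[V, g] ≤ W` and `N_g x = 0 → N x = 0`, the ranks agree (`mem_pp_wv`, `pp_pp`). -/
theorem wv_eq {g : isom B} (hg : wv g ≤ wv u) (h : ∀ x, nv g x = 0 → nv u x = 0) : wv g = wv u := le_antisymm hg (q.wv_le fun x hx => h x (q.mem_pp_wv.1 hx))

/-- `N_g x = l N x + ν x`, `l ≠ 0`, `c = 0`.  If `N_g x = 0`: pair with `y₁`: `B(x, y) = 0`; then `l N x = B(x, m) y`, pair with `v`: `B(x, m) = 0`.  `wv_eq`. -/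
theorem full_a {g : isom B} (h : Ch u c₁) (h0 : nv u c₁ = 0) (hl : l ≠ 0) (hv : B (nv u y₁) v = 0)
    (hg : ∀ x, nv g x = l • nv u x + nv (E B (nv u y₁) (nv u v) k) x) : wv g = wv u := by
  have sy : ∀ x y, B x (nv u y) = B y (nv u x) := fun x y => by rw [← nv_sym u2, q.sy]
  have al := (q.ch_al h).2 h0
  refine q.wv_eq u2 ?_ fun x e => ?_
  · rintro _ ⟨x, rfl⟩
    exact hg x ▸ add_mem (Submodule.smul_mem _ _ (nv_mem ..)) (q.wv_E' (nv_mem ..) (nv_mem ..) k (nv_mem ..))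
  rw [hg, q.nv_E (ww u2 (nv_mem ..) (nv_mem ..))] at e
  have e1 : B x (nv u y₁) = 0 := by simpa [al y₁, sy y₁ x, sy y₁ v, q.o' hv, hl] using congrArg (B y₁) e
  have e2 : B x (nv u v) = 0 := by simpa [al v, sy v x, q.o' hv, hl] using congrArg (B v) e
  simpa [e1, e2, hl] using e

omit u2 in
/-- `zu_sp`.  `l = 0`: `sp_zero`.  `l ≠ 0, 1`: `a` and `u a` (`nv_mul`, `l + 1`) have rank that of `u` (`full_a`), `B(x, N_a x) = k B(x, y)² = B(x, N_{u a} x)`; `cls` contradicts `nc`.  `sp_nl`. -/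
theorem gd_nl (h : Hi u) (c : Ch u c₁) (h0 : nv u c₁ = 0) (g : Gd u a) : Nl u c₁ a := by
  obtain ⟨y₁, v, l, k, s⟩ := q.zu_sp h c g.zu fun o => by simp [h0] at o
  by_cases l0 : l = 0
  · exact ((q.sp_zero h.sq (l0 ▸ s)).elim g.ne g.nr).elim
  by_cases l1 : l = 1
  · exact q.sp_nl h.sq c (.inl h0) (l1 ▸ s)
  have le := q.sp_le h.sq s
  have m := q.nv_mul h.sq le_rfl le
  have e : ∀ x, nv a x = l • nv u x + nv (E B (nv u y₁) (nv u v) k) x := fun x => by rw [s.ap, h0, smul_zero, add_zero]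
  refine (g.nc (q.cls g.zu.1 (eq_one_of fun x => ?_) ?_ fun _ => forall_congr' fun x => by rw [m, map_add, (q.ch_al c).2 h0, zero_add])).elim
  · rw [q.nv_mul h.sq (q.wv_mul h.sq le_rfl le) (q.wv_mul h.sq le_rfl le), vv F]
  · rw [q.full_a h.sq c h0 l0 s.ov e, q.full_a h.sq (g := u * a) c h0 (l := 1 + l) (fun o => l1 (CharTwo.add_eq_zero.1 o).symm) s.ov fun x => by rw [m, e, add_smul, one_smul, add_assoc]]

/-- Port of `OD.Gq.cfg_a` (`tr0` with other base points: `Bp u c₁ y` holds for every `y` with `N y ≠ 0`). -/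
theorem cfg (c : Ch u c₁) (h0 : nv u c₁ = 0) (h4 : finrank F (wv u) = 4) (h : nv u y₁ ≠ 0) (hw : Sh u y₁ w) : Cfg 𝐂[u] u w := by
  have two : (2 : F) = 0 := two0
  obtain ⟨v₂, h12, n, rfl⟩ := hw
  rename' y₁ => v₁
  have sy : ∀ x y, B (nv u x) y = B (nv u y) x := fun x y => by rw [nv_sym u2, q.sy]
  have al : ∀ x, B (nv u x) x = 0 := fun x => q.o' ((q.ch_al c).2 h0 x)
  have w := fun x z => ww u2 (nv_mem u x) (nv_mem u z)
  obtain ⟨x₁, h21, h11⟩ := q.exists_pp (q.ln_symm ⟨h, n, w ..⟩).nm 1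
  obtain ⟨x₂, h12', h22, hx⟩ : ∃ x₂, B (nv u v₁) x₂ = 0 ∧ B (nv u v₂) x₂ = 1 ∧ B (nv u x₁) x₂ = 0 := by
    obtain ⟨x, k1, k2⟩ := q.exists_pp n 1
    refine ⟨x + B (nv u x₁) x • v₁, ?_, ?_, ?_⟩ <;>
      simp only [map_add, map_smul, smul_eq_mul, mem_pp1.1 k1, k2, al, sy v₂ v₁, h12, sy x₁ v₁, h11] <;> grind only
  rw [mem_pp1] at h21
  have g := And.intro (And.intro h12 (And.intro h11 (And.intro h21 (And.intro h12' (And.intro h22 hx)))))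
    (And.intro ((sy ..).trans h12) (And.intro ((sy ..).trans h11) (And.intro ((sy ..).trans h21) (And.intro ((sy ..).trans h12')
      (And.intro ((sy ..).trans h22) ((sy ..).trans hx))))))
  have nE : ∀ p r x, nv (E B (nv u p) (nv u r) 0) x = B (nv u r) x • nv u p + B (nv u p) x • nv u r := fun p r x => by
    rw [q.nv_E (w ..), zero_mul, add_zero, add_comm, q.sy x, q.sy x]
  have cE : ∀ p r, wv (E B (nv u p) (nv u r) 0) ≤ wv u := fun p r => q.wv_E' (nv_mem u p) (nv_mem u r) 0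
  have m := fun {g h} => q.nv_mul u2 (g := g) (h := h)
  have cm := fun {g h} => q.wv_mul u2 (g := g) (h := h)
  have L : ∀ c : Fin 4 → F, (∀ y ∈ [x₁, x₂, v₁, v₂], B (∑ i, c i • ![nv u v₁, nv u v₂, nv u x₁, nv u x₂] i) y = 0) → ∀ i, c i = 0 :=
    fun c k i => by
      simp [Fin.sum_univ_four, g, al] at k
      fin_cases i <;> simp [k]
  have sp : Submodule.span F (Set.range ![nv u v₁, nv u v₂, nv u x₁, nv u x₂]) = wv u := Submodule.eq_of_le_of_finrank_le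
    (Submodule.span_le.2 (by rintro _ ⟨i, rfl⟩; fin_cases i <;> exact nv_mem u _)) (by
      rw [finrank_span_eq_card (Fintype.linearIndependent_iff.2 fun c k => L c fun y _ => by rw [k, map_zero, LinearMap.zero_apply]), h4]; rfl)
  have N : ∀ y, nv u y = B (nv u x₁) y • nv u v₁ + B (nv u v₁) y • nv u x₁ + (B (nv u x₂) y • nv u v₂ + B (nv u v₂) y • nv u x₂) := fun y => by
    rw [← nE, ← nE, ← m (cE _ _) (cE _ _), ← sub_eq_zero]
    obtain ⟨c, hc⟩ := (Submodule.mem_span_range_iff_exists_fun F).1 (sp.ge (sub_mem (nv_mem u y) (cm (cE v₁ x₁) (cE v₂ x₂) (nv_mem _ y))))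
    rw [← hc, funext (L c (by rw [hc]; simp [m (cE _ _) (cE _ _), nE, g, al, sy y]))]
    simp
  have T : ∀ {g g' : isom B} (p v v' : V), B (nv u p) v = 0 → B (nv u p) v' = 0 → B (nv u v) v' = 1 →
      (∀ y, nv g y = nv (E B (nv u p) (nv u v) 0) y) → (∀ y, nv g' y = nv (E B (nv u p) (nv u v') 0) y) → Cj 𝐂[u] g g' :=
    fun p v v' k1 k2 k3 k4 k5 => by
      rw [eq_of_nv k4, eq_of_nv k5]
      exact q.tr1 u2 (nv_mem u p) k1 k2 (q.o' (al _)) (q.o' (al _)) (k3 ▸ one_ne_zero)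
  refine ⟨_, E B (nv u v₁) (nv u x₂) 0, E B (nv u v₂) (nv u x₁) 0, Cj.rfl' _ _, T v₁ v₂ x₂ ?_ ?_ ?_ (fun y => ?_) fun y => ?_,
    T v₂ v₁ x₁ ?_ ?_ ?_ (fun y => ?_) fun y => ?_, T v₁ v₂ (v₂ + x₂) ?_ ?_ ?_ (fun y => ?_) fun y => ?_,
    T v₂ v₁ (v₁ + x₁) ?_ ?_ ?_ (fun y => ?_) fun y => ?_, T (v₁ + v₂) v₂ (x₁ + x₂) ?_ ?_ ?_ (fun y => ?_) fun y => ?_,
    T (v₁ + v₂) v₂ (x₁ + x₂ + v₂) ?_ ?_ ?_ (fun y => ?_) fun y => ?_⟩ <;>
  (try simp only [m (cm (cm le_rfl (cE _ _)) (cE _ _)) (cE _ _), m (cm le_rfl (cE _ _)) (cE _ _), m le_rfl (cE _ _), m (cE _ _) (cE _ _), nE]) <;>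
  (try simp only [map_add, LinearMap.add_apply, g, al]) <;>
  first | module | linear_combination two | (match_scalars <;> grind only) | (rw [N y]; match_scalars <;> grind only)

omit u2 in
theorem a4 {a b c : isom B} (h : Hi u) (k : Ch u c₁) (h0 : nv u c₁ = 0) (ha : Gd u a) (hb : Gd u b) (hc : Gd u c) (h1 : Gd u (a * b)) (h2 : Gd u (a * c))
    (h3 : Gd u (u * b * c)) : ¬ Gd u (u * a * b * c) := fun h4 => by
  have n := fun {a} => q.gd_nl (a := a) h k h0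
  have := h.rk
  rw [wv_bot.2 (q.seven h.sq h0 (n ha) (n hb) (n hc) (n h1) (n h2) (n h3) (n h4)), finrank_bot] at this
  omega

end Sq

end Cfsg.Lib.SD
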